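import Mathlib.CategoryTheory.Triangulated.TStructure.TruncLEGT
import Mathlib.CategoryTheory.Triangulated.Functor
import Mathlib.CategoryTheory.Shift.CommShift

/-!
# Exact functors out of a triangulated category with an effaceable heart: siblings

`HeartData t j` packages an effaceable heart `j : A ⥤ C` of a t-structure.
-/

set_option linter.style.haveILetI false
set_option linter.unusedSectionVars false
set_option backward.defeqAttrib.useBackward true
set_option backward.isDefEq.respectTransparency false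

universe v u v' u' w' z'

open CategoryTheory CategoryTheory.Limits CategoryTheory.Pretriangulated CategoryTheory.Triangulated
open scoped ZeroObject

namespace Groth.Agent.DEqT

variable {C : Type u} [Category.{v} C] [Preadditive C] [HasZeroObject C] [HasShift C ℤ]
  [∀ n : ℤ, (shiftFunctor C n).Additive] [Pretriangulated C]
  {A : Type w'} [Category.{z'} A]

/-- An effaceable heart of a t-structure. -/
structure HeartData (t : TStructure C) (j : A ⥤ C) : Prop where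
  isLE : ∀ X : A, t.IsLE (j.obj X) 0
  isGE : ∀ X : A, t.IsGE (j.obj X) 0
  essSurj : ∀ K : C, t.IsLE K 0 → t.IsGE K 0 → ∃ X : A, Nonempty (j.obj X ≅ K)
  eff : ∀ (X : A) (M : C) (φ : j.obj X ⟶ M), t.IsLE M (-1) →
    ∃ (X' : A) (p : X' ⟶ X), Epi p ∧ j.map p ≫ φ = 0
  ses : ∀ {X' X : A} (p : X' ⟶ X), Epi p →
    ∃ (Y : A) (i : Y ⟶ X') (δ : j.obj X ⟶ (j.obj Y)⟦(1 : ℤ)⟧),
      Triangle.mk (j.map i) (j.map p) δ ∈ distTriang C

/-- An object of the heart placed in degree `-m`. -/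
abbrev hobj (j : A ⥤ C) (X : A) (m : ℤ) : C := (shiftFunctor C m).obj (j.obj X)

variable {D : Type u'} [Category.{v'} D] [Preadditive D] [HasZeroObject D] [HasShift D ℤ]
  [∀ n : ℤ, (shiftFunctor D n).Additive] [Pretriangulated D]
  (F F' : C ⥤ D)

/-- Commutation of a morphism with given comparison isomorphisms. -/
def Comm {K L : C} (δ : K ⟶ L) (u : F.obj K ≅ F'.obj K) (v : F.obj L ≅ F'.obj L) : Prop :=
  F.map δ ≫ v.hom = u.hom ≫ F'.map δ

variable {F F'}

omit [Preadditive C] [HasZeroObject C] [HasShift C ℤ] [∀ n : ℤ, (shiftFunctor C n).Additive]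
  [Pretriangulated C] [Preadditive D] [HasZeroObject D] [HasShift D ℤ]
  [∀ n : ℤ, (shiftFunctor D n).Additive] [Pretriangulated D] in
lemma Comm.comp {K L M : C} {δ : K ⟶ L} {ε : L ⟶ M} {u : F.obj K ≅ F'.obj K}
    {v : F.obj L ≅ F'.obj L} {w : F.obj M ≅ F'.obj M} (h₁ : Comm F F' δ u v)
    (h₂ : Comm F F' ε v w) : Comm F F' (δ ≫ ε) u w := by
  simp only [Comm, Functor.map_comp, Category.assoc] at *
  rw [h₂, reassoc_of% h₁]

omit [Preadditive C] [HasZeroObject C] [HasShift C ℤ] [∀ n : ℤ, (shiftFunctor C n).Additive]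
  [Pretriangulated C] [Preadditive D] [HasZeroObject D] [HasShift D ℤ]
  [∀ n : ℤ, (shiftFunctor D n).Additive] [Pretriangulated D] in
lemma Comm.inv {K L : C} (δ : K ≅ L) {u : F.obj K ≅ F'.obj K}
    {v : F.obj L ≅ F'.obj L} (h : Comm F F' δ.hom u v) : Comm F F' δ.inv v u := by
  simp only [Comm] at *
  rw [← cancel_epi (F.map δ.hom), ← Category.assoc, ← Functor.map_comp, δ.hom_inv_id,
    reassoc_of% h, ← Functor.map_comp, δ.hom_inv_id]
  simp

variable [F.CommShift ℤ] [F'.CommShift ℤ]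

variable (F F') in
/-- Shifting a comparison isomorphism. -/
noncomputable def sh {K : C} (u : F.obj K ≅ F'.obj K) (m : ℤ) :
    F.obj (K⟦m⟧) ≅ F'.obj (K⟦m⟧) :=
  (F.commShiftIso m).app K ≪≫ (shiftFunctor D m).mapIso u ≪≫ ((F'.commShiftIso m).app K).symm

omit [Preadditive C] [HasZeroObject C] [∀ n : ℤ, (shiftFunctor C n).Additive]
  [Pretriangulated C] [Preadditive D] [HasZeroObject D]
  [∀ n : ℤ, (shiftFunctor D n).Additive] [Pretriangulated D] in
lemma Comm.shift {K L : C} {δ : K ⟶ L} {u : F.obj K ≅ F'.obj K} {v : F.obj L ≅ F'.obj L}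
    (h : Comm F F' δ u v) (m : ℤ) : Comm F F' (δ⟦m⟧') (sh F F' u m) (sh F F' v m) := by
  simp only [Comm] at *
  simp only [sh, Iso.trans_hom, Iso.app_hom, Functor.mapIso_hom, Iso.symm_hom, Iso.app_inv,
    Category.assoc, F.commShiftIso_hom_naturality_assoc]
  rw [← Functor.map_comp_assoc, h, Functor.map_comp_assoc, F'.commShiftIso_inv_naturality]

omit [Preadditive C] [HasZeroObject C] [∀ n : ℤ, (shiftFunctor C n).Additive]
  [Pretriangulated C] [Preadditive D] [HasZeroObject D]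
  [∀ n : ℤ, (shiftFunctor D n).Additive] [Pretriangulated D] in
lemma comm_add {K : C} (u : F.obj K ≅ F'.obj K) (a b c : ℤ) (h : a + b = c) :
    Comm F F' ((shiftFunctorAdd' C a b c h).hom.app K) (sh F F' u c)
      (sh F F' (sh F F' u a) b) := by
  simp only [Comm, sh, Iso.trans_hom, Iso.app_hom, Functor.mapIso_hom, Iso.symm_hom, Iso.app_inv,
    Category.assoc, Functor.map_comp]
  rw [F.commShiftIso_add' h, F'.commShiftIso_add' h]
  simp only [Functor.CommShift.isoAdd'_hom_app, Functor.CommShift.isoAdd'_inv_app,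
    Category.assoc]
  simp only [← Functor.map_comp_assoc, ← Functor.map_comp, Iso.inv_hom_id_app]
  simp

omit [Preadditive C] [HasZeroObject C] [∀ n : ℤ, (shiftFunctor C n).Additive]
  [Pretriangulated C] [Preadditive D] [HasZeroObject D]
  [∀ n : ℤ, (shiftFunctor D n).Additive] [Pretriangulated D] in
lemma comm_zero {K : C} (u : F.obj K ≅ F'.obj K) :
    Comm F F' ((shiftFunctorZero C ℤ).hom.app K) (sh F F' u 0) u := by
  simp only [Comm, sh, Iso.trans_hom, Iso.app_hom, Functor.mapIso_hom, Iso.symm_hom, Iso.app_inv,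
    Category.assoc, F.commShiftIso_zero, F'.commShiftIso_zero]
  simp [Functor.CommShift.isoZero]
  rw [← Functor.map_comp, Iso.inv_hom_id_app]
  simp

variable {t : TStructure C} {j : A ⥤ C}

namespace HeartData

variable (hj : HeartData t j)
include hj

lemma isLE_hobj (X : A) (m n : ℤ) (h : -m ≤ n) : t.IsLE (hobj j X m) n :=
  have := hj.isLE X
  have := t.isLE_shift (j.obj X) 0 m (-m) (by lia)
  t.isLE_of_le _ (-m) n h

lemma isGE_hobj (X : A) (m n : ℤ) (h : n ≤ -m) : t.IsGE (hobj j X m) n :=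
  have := hj.isGE X
  have := t.isGE_shift (j.obj X) 0 m (-m) (by lia)
  t.isGE_of_ge _ n (-m) h

lemma exists_iso_hobj (K : C) (i : ℤ) [t.IsLE K i] [t.IsGE K i] :
    ∃ X : A, Nonempty (hobj j X (-i) ≅ K) := by
  obtain ⟨X, ⟨e⟩⟩ := hj.essSurj (K⟦i⟧) (t.isLE_shift K i i 0 (by lia))
    (t.isGE_shift K i i 0 (by lia))
  exact ⟨X, ⟨(shiftFunctor C (-i)).mapIso e ≪≫ (shiftFunctorCompIsoId C i (-i) (by lia)).app K⟩⟩

variable [IsTriangulated C]

/-- Devissage along the cohomology objects. -/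
lemma induction {P : C → Prop} (a b : ℤ)
    (hiso : ∀ {K L : C}, (K ≅ L) → P K → P L) (hzero : ∀ K : C, IsZero K → P K)
    (hext : ∀ T : Triangle C, T ∈ distTriang C → P T.obj₁ → P T.obj₃ → P T.obj₂)
    (hobjP : ∀ (X : A) (i : ℤ), a ≤ i → i ≤ b → P (hobj j X (-i)))
    (K : C) [t.IsGE K a] [t.IsLE K b] : P K := by
  suffices h : ∀ (k : ℕ) (L : C) (b' : ℤ), t.IsGE L a → t.IsLE L b' → b' ≤ b → b' + 1 ≤ a + k → P L
    from h (b + 1 - a).toNat K b inferInstance inferInstance le_rfl (by omega)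
  intro k
  induction k with
  | zero =>
    intro L b' hL hL' _ hk
    exact hzero L (t.isZero L b' a (by omega))
  | succ k ih =>
    intro L b' hL hL' hb hk
    refine hext _ (t.triangleLEGE_distinguished (b' - 1) b' (by lia) L) ?_ ?_
    · exact ih _ (b' - 1) (by dsimp; infer_instance) (by dsimp; infer_instance) (by omega)
        (by omega)
    · by_cases hab : a ≤ b'
      · obtain ⟨X, ⟨e⟩⟩ := hj.exists_iso_hobj ((t.truncGE b').obj L) b'
        exact hiso e (hobjP X b' hab hb)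
      · exact hzero _ (Functor.map_isZero (t.truncGE b') (t.isZero L b' a (by omega)))

lemma eff_shift (X : A) (m : ℤ) (M : C) (φ : hobj j X m ⟶ M) [t.IsLE M (-m - 1)] :
    ∃ (X' : A) (p : X' ⟶ X), Epi p ∧ (shiftFunctor C m).map (j.map p) ≫ φ = 0 := by
  let e : (shiftFunctor C m ⋙ shiftFunctor C (-m)) ≅ 𝟭 C := shiftFunctorCompIsoId C m (-m) (by lia)
  obtain ⟨X', p, hp, h⟩ := hj.eff X (M⟦-m⟧) (e.inv.app _ ≫ φ⟦-m⟧')
    (t.isLE_shift M (-m - 1) (-m) (-1) (by lia))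
  refine ⟨X', p, hp, (shiftFunctor C (-m)).map_injective ?_⟩
  rw [Functor.map_comp, Functor.map_zero, ← cancel_epi (e.inv.app _), comp_zero]
  have := e.inv.naturality (j.map p)
  dsimp at this
  rw [← reassoc_of% this]
  exact h

/-- For `p` epi, a map out of `X[m]` into something `≥ -m` killed by `p` is zero. -/
lemma eq_zero_of_epi {X' X : A} (p : X' ⟶ X) (hp : Epi p) (m : ℤ) {Z : C} [t.IsGE Z (-m)]
    (k : hobj j X m ⟶ Z) (hk : (shiftFunctor C m).map (j.map p) ≫ k = 0) : k = 0 := by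
  obtain ⟨Y, i, δ, hT⟩ := hj.ses p hp
  let e : (shiftFunctor C m ⋙ shiftFunctor C (-m)) ≅ 𝟭 C := shiftFunctorCompIsoId C m (-m) (by lia)
  have hk' : j.map p ≫ e.inv.app _ ≫ k⟦-m⟧' = 0 := by
    have := e.inv.naturality (j.map p)
    dsimp at this
    rw [reassoc_of% this, ← Functor.map_comp, hk, Functor.map_zero, comp_zero]
  obtain ⟨g, hg⟩ := Triangle.yoneda_exact₃ _ hT (e.inv.app _ ≫ k⟦-m⟧') hk'
  dsimp at g hg
  have h1 : t.IsLE ((j.obj Y)⟦(1 : ℤ)⟧) (-1) := hj.isLE_hobj Y 1 (-1) (by lia)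
  have h2 : t.IsGE (Z⟦-m⟧) 0 := t.isGE_shift Z (-m) (-m) 0 (by lia)
  rw [t.zero_of_isLE_of_isGE g (-1) 0 (by lia) h1 h2, comp_zero] at hg
  refine (shiftFunctor C (-m)).map_injective ?_
  rw [Functor.map_zero, ← cancel_epi (e.inv.app _), comp_zero]
  exact hg

end HeartData

section Siblings

variable (j F) in
/-- Vanishing of negative extensions between images of objects of the heart. -/
def NegVanish : Prop :=
  ∀ (X Y : A) (q : ℤ), q < 0 → ∀ f : F.obj (j.obj X) ⟶ (F.obj (j.obj Y))⟦q⟧, f = 0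

variable (h : j ⋙ F ≅ j ⋙ F')

/-- The comparison isomorphism on shifted objects of the heart. -/
noncomputable def hI (X : A) (m : ℤ) : F.obj (hobj j X m) ≅ F'.obj (hobj j X m) :=
  sh F F' (h.app X) m

lemma comm_map {X Y : A} (f : X ⟶ Y) : Comm F F' (j.map f) (h.app X) (h.app Y) :=
  h.hom.naturality f

lemma NegVanish.hom_hobj_eq_zero (hneg : NegVanish F j) (X Y : A) (a b : ℤ) (hab : b < a)
    (f : F.obj (hobj j X a) ⟶ F.obj (hobj j Y b)) : f = 0 := by
  let g : (shiftFunctor D a).obj (F.obj (j.obj X)) ⟶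
      (shiftFunctor D a).obj ((F.obj (j.obj Y))⟦b - a⟧) :=
    (F.commShiftIso a).inv.app _ ≫ f ≫ (F.commShiftIso b).hom.app _ ≫
      (shiftFunctorAdd' D (b - a) a b (by lia)).hom.app _
  have hg : g = 0 := by
    obtain ⟨g', hg'⟩ := (shiftFunctor D a).map_surjective g
    rw [← hg', hneg X Y (b - a) (by lia) g', Functor.map_zero]
  have : f = (F.commShiftIso a).hom.app _ ≫ g ≫
      (shiftFunctorAdd' D (b - a) a b (by lia)).inv.app _ ≫ (F.commShiftIso b).inv.app _ := by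
    simp [g]
  rw [this, hg]
  simp

variable [F.IsTriangulated] [F'.IsTriangulated]
variable [IsTriangulated C] (hj : HeartData t j) (hneg : NegVanish F j)
include hj hneg

/-- Maps from `F K` to a higher degree object of the heart vanish. -/
lemma hom_to_hobj_eq_zero (K : C) (a b : ℤ) [t.IsGE K a] [t.IsLE K b] (Y : A) (m : ℤ)
    (hm : b < -m) (f : F.obj K ⟶ F.obj (hobj j Y m)) : f = 0 := by
  revert f
  refine hj.induction (P := fun L => ∀ f : F.obj L ⟶ F.obj (hobj j Y m), f = 0) a b ?_ ?_ ?_ ?_ K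
  · intro L L' e hL f
    rw [← cancel_epi (F.map e.hom), comp_zero]
    exact hL _
  · intro L hL f
    exact (F.map_isZero hL).eq_of_src f 0
  · intro T hT h₁ h₃ f
    obtain ⟨g, hg⟩ := Triangle.yoneda_exact₂ _ (F.map_distinguished T hT) f (h₁ _)
    have := h₃ g
    rw [hg, this, comp_zero]
  · intro X i hi hi' f
    exact hneg.hom_hobj_eq_zero X Y (-i) m (by lia) f

include h in
lemma hom_to_hobj'_eq_zero (K : C) (a b : ℤ) [t.IsGE K a] [t.IsLE K b] (Y : A) (m : ℤ)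
    (hm : b < -m) (f : F.obj K ⟶ F'.obj (hobj j Y m)) : f = 0 := by
  rw [← cancel_mono (hI h Y m).inv, zero_comp]
  exact hom_to_hobj_eq_zero hj hneg K a b Y m hm _

variable [j.Full]

lemma comm_one {X Y : A} (δ : j.obj X ⟶ hobj j Y 1) :
    Comm F F' δ (h.app X) (hI h Y 1) := by
  obtain ⟨E, f, g, hT⟩ := distinguished_cocone_triangle₂ δ
  obtain ⟨E', ⟨e⟩⟩ := hj.essSurj E (t.isLE₂ _ hT 0 (hj.isLE Y) (hj.isLE X))
    (t.isGE₂ _ hT 0 (hj.isGE Y) (hj.isGE X))
  obtain ⟨f', hf'⟩ := j.map_surjective (f ≫ e.inv)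
  obtain ⟨g', hg'⟩ := j.map_surjective (e.hom ≫ g)
  have hT' : Triangle.mk (j.map f') (j.map g') δ ∈ distTriang C := by
    refine isomorphic_distinguished _ hT _ ?_
    exact Triangle.isoMk _ _ (Iso.refl _) e (Iso.refl _) (by dsimp; simp [hf'])
      (by dsimp; simp [hg']) (by dsimp; simp)
  obtain ⟨c, hc₂, hc₃⟩ : ∃ c : F.obj (j.obj X) ⟶ F'.obj (j.obj X),
      F.map (j.map g') ≫ c = h.hom.app E' ≫ F'.map (j.map g') ∧
      (F.map δ ≫ (F.commShiftIso (1 : ℤ)).hom.app (j.obj Y)) ≫ (h.hom.app Y)⟦(1 : ℤ)⟧' =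
        c ≫ F'.map δ ≫ (F'.commShiftIso (1 : ℤ)).hom.app (j.obj Y) :=
    complete_distinguished_triangle_morphism _ _
      (F.map_distinguished _ hT') (F'.map_distinguished _ hT') (h.hom.app Y) (h.hom.app E')
      (h.hom.naturality f')
  let hX : F.obj (j.obj X) ⟶ F'.obj (j.obj X) := h.hom.app X
  have hc : c = hX := by
    have h0 : F.map (j.map g') ≫ (c - hX) = 0 := by
      rw [Preadditive.comp_sub, hc₂, sub_eq_zero]
      exact (h.hom.naturality g').symm
    obtain ⟨k, hk⟩ := Triangle.yoneda_exact₃ _ (F.map_distinguished _ hT') _ h0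
    have hk0 : k = 0 := by
      have := hneg.hom_hobj_eq_zero Y X 1 0 (by lia)
        ((F.commShiftIso (1 : ℤ)).hom.app _ ≫ k ≫ h.inv.app X ≫
          F.map ((shiftFunctorZero C ℤ).inv.app (j.obj X)))
      rw [← cancel_epi ((F.commShiftIso (1 : ℤ)).hom.app (j.obj Y)),
        ← cancel_mono (h.inv.app X ≫ F.map ((shiftFunctorZero C ℤ).inv.app (j.obj X)))]
      simpa using this
    rw [hk0, comp_zero] at hk
    exact sub_eq_zero.1 hk
  subst hc
  unfold Comm
  simp only [hI, sh, Iso.trans_hom, Iso.app_hom, Functor.mapIso_hom, Iso.symm_hom, Iso.app_inv]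
  rw [← cancel_mono ((F'.commShiftIso (1 : ℤ)).hom.app (j.obj Y))]
  simpa using hc₃

lemma comm_nat (n : ℕ) : ∀ {X Y : A} (δ : j.obj X ⟶ hobj j Y (n : ℤ)),
    Comm F F' δ (h.app X) (hI h Y (n : ℤ)) := by
  induction n with
  | zero =>
    intro X Y δ
    obtain ⟨f, hf⟩ := j.map_surjective (δ ≫ (shiftFunctorZero C ℤ).hom.app (j.obj Y))
    have := (comm_map h f).comp ((comm_zero (K := j.obj Y) (h.app Y)).inv ((shiftFunctorZero C ℤ).app _))
    rw [hf, Category.assoc, Iso.app_inv, Iso.hom_inv_id_app] at this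
    erw [Category.comp_id] at this
    exact this
  | succ n ih =>
    intro X Y δ
    obtain ⟨X', p, hp, hpδ⟩ := hj.eff X _ δ (hj.isLE_hobj Y _ (-1) (by omega))
    obtain ⟨K, i, dd, hT⟩ := hj.ses p hp
    obtain ⟨φ, hφ⟩ := Triangle.yoneda_exact₃ _ hT δ hpδ
    dsimp at φ hφ
    let e := (shiftFunctorAdd' C (n : ℤ) 1 ((n + 1 : ℕ) : ℤ) (by omega)).app (j.obj Y)
    obtain ⟨φ₀, hφ₀⟩ := (shiftFunctor C (1 : ℤ)).map_surjective (φ ≫ e.hom)
    have h1 : Comm F F' φ (hI h K 1) (hI h Y _) := by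
      have h2 := ((ih φ₀).shift 1).comp
        ((comm_add (K := j.obj Y) (h.app Y) (n : ℤ) 1 ((n + 1 : ℕ) : ℤ) (by omega)).inv e)
      rw [hφ₀, Category.assoc, e.hom_inv_id] at h2
      erw [Category.comp_id] at h2
      exact h2
    rw [hφ]
    exact (comm_one h hj hneg dd).comp h1

lemma comm_hobj {X Y : A} {a b : ℤ} (δ : hobj j X a ⟶ hobj j Y b) :
    Comm F F' δ (hI h X a) (hI h Y b) := by
  by_cases hab : b < a
  · unfold Comm
    rw [hneg.hom_hobj_eq_zero X Y a b hab (F.map δ), zero_comp]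
    have := hneg.hom_hobj_eq_zero X Y a b hab ((hI h X a).hom ≫ F'.map δ ≫ (hI h Y b).inv)
    rw [← cancel_mono (hI h Y b).inv, zero_comp, Category.assoc, this]
  · obtain ⟨n, hn⟩ : ∃ n : ℕ, (n : ℤ) + a = b := ⟨(b - a).toNat, by omega⟩
    let e := (shiftFunctorAdd' C (n : ℤ) a b hn).app (j.obj Y)
    obtain ⟨δ₀, hδ₀⟩ := (shiftFunctor C a).map_surjective (δ ≫ e.hom)
    have h2 := ((comm_nat h hj hneg n δ₀).shift a).comp
      ((comm_add (K := j.obj Y) (h.app Y) (n : ℤ) a b hn).inv e)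
    rw [hδ₀, Category.assoc, e.hom_inv_id] at h2
    erw [Category.comp_id] at h2
    exact h2

end Siblings

section Approx

variable [IsTriangulated C] (hj : HeartData t j)
include hj

/-- `i : N[-b] ⟶ K` covers the top cohomology: it detects maps to objects `≥ b`. -/
def IsTop (t : TStructure C) (j : A ⥤ C) (K : C) (b : ℤ) (N : A) (i : hobj j N (-b) ⟶ K) : Prop :=
  ∀ Z : C, t.IsGE Z b → ∀ g : K ⟶ Z, i ≫ g = 0 → g = 0

lemma exists_isTop (K : C) (b : ℤ) [t.IsLE K b] :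
    ∃ (N : A) (i : hobj j N (-b) ⟶ K), IsTop t j K b N i := by
  have : t.IsLE ((t.truncGE b).obj K) b := inferInstance
  obtain ⟨X, ⟨e⟩⟩ := hj.exists_iso_hobj ((t.truncGE b).obj K) b
  have : t.IsLE (((t.truncLE (b - 1)).obj K)⟦(1 : ℤ)⟧) (- -b - 1) := by
    have := t.isLE_shift ((t.truncLE (b - 1)).obj K) (b - 1) 1 (b - 2) (by lia)
    exact t.isLE_of_le _ (b - 2) _ (by lia)
  obtain ⟨N, p, hp, hpd⟩ := hj.eff_shift X (-b) (((t.truncLE (b - 1)).obj K)⟦(1 : ℤ)⟧)
    (e.hom ≫ ((t.truncGEδLE (b - 1) b (by lia)).app K : _ ⟶ ((t.truncLE (b - 1)).obj K)⟦(1 : ℤ)⟧))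
  obtain ⟨i, hi⟩ := Triangle.coyoneda_exact₃ _ (t.triangleLEGE_distinguished (b - 1) b (by lia) K)
    ((shiftFunctor C (-b)).map (j.map p) ≫ e.hom) ((Category.assoc _ _ _).trans hpd)
  dsimp at i hi
  refine ⟨N, i, fun Z hZ g hg => ?_⟩
  rw [← t.π_descTruncGE g b] at hg ⊢
  rw [← Category.assoc, ← hi, Category.assoc] at hg
  have : t.IsGE Z (- -b) := by rwa [neg_neg]
  have h0 : e.hom ≫ t.descTruncGE g b = 0 := hj.eq_zero_of_epi p hp (-b) _ hg
  rw [(cancel_epi e.hom).1 (h0.trans comp_zero.symm), comp_zero]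

lemma IsTop.comp_epi {K : C} {b : ℤ} {N : A} {i : hobj j N (-b) ⟶ K} (hi : IsTop t j K b N i)
    {N' : A} (p : N' ⟶ N) (hp : Epi p) :
    IsTop t j K b N' ((shiftFunctor C (-b)).map (j.map p) ≫ i) := by
  intro Z hZ g hg
  have : t.IsGE Z (- -b) := by rwa [neg_neg]
  exact hi Z hZ g (hj.eq_zero_of_epi p hp (-b) _ (by rw [← Category.assoc]; exact hg))

lemma exists_isTop_kill (K : C) (b : ℤ) [t.IsLE K b] (M : C) (f : K ⟶ M) [t.IsLE M (b - 1)] :
    ∃ (N : A) (i : hobj j N (-b) ⟶ K), IsTop t j K b N i ∧ i ≫ f = 0 := by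
  obtain ⟨N, i, hi⟩ := exists_isTop hj K b
  have : t.IsLE M (- -b - 1) := by rwa [neg_neg]
  obtain ⟨N', p, hp, h⟩ := hj.eff_shift N (-b) M (i ≫ f)
  exact ⟨N', _, IsTop.comp_epi hj hi p hp, by rwa [Category.assoc]⟩

lemma IsTop.isLE_cone {K : C} {b : ℤ} [t.IsLE K b] {N : A} {i : hobj j N (-b) ⟶ K}
    (hi : IsTop t j K b N i) {K' : C} {q : K ⟶ K'} {δ : K' ⟶ (hobj j N (-b))⟦(1 : ℤ)⟧}
    (hT : Triangle.mk i q δ ∈ distTriang C) : t.IsLE K' (b - 1) := by
  rw [t.isLE_iff_orthogonal (b - 1) b (by lia)]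
  intro Z g hZ
  have h0 : q ≫ g = 0 := hi Z hZ _ (by
    have := comp_distTriang_mor_zero₁₂ _ hT
    dsimp at this
    rw [reassoc_of% this, zero_comp])
  obtain ⟨k, hk⟩ := Triangle.yoneda_exact₃ _ hT g h0
  have h1 : t.IsLE ((hobj j N (-b))⟦(1 : ℤ)⟧) (b - 1) :=
    have := hj.isLE_hobj N (-b) b (by lia)
    t.isLE_shift _ b 1 (b - 1) (by lia)
  rw [hk, t.zero_of_isLE_of_isGE k (b - 1) b (by lia) h1 hZ, comp_zero]

lemma isGE_cone {K : C} {a b : ℤ} (hab : a < b) [t.IsGE K a] {N : A} {i : hobj j N (-b) ⟶ K}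
    {K' : C} {q : K ⟶ K'} {δ : K' ⟶ (hobj j N (-b))⟦(1 : ℤ)⟧}
    (hT : Triangle.mk i q δ ∈ distTriang C) : t.IsGE K' a := by
  have h1 : t.IsGE ((hobj j N (-b))⟦(1 : ℤ)⟧) a :=
    have := hj.isGE_hobj N (-b) b (by lia)
    have := t.isGE_shift (hobj j N (-b)) b 1 (b - 1) (by lia)
    t.isGE_of_ge _ a (b - 1) (by lia)
  exact t.isGE₂ _ (rot_of_distTriang _ hT) a (inferInstanceAs (t.IsGE K a)) h1

end Approx

end Groth.Agent.DEqT
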