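import Groth.Prelude.Def_W4stkfunctorsequivSib
import Groth.Agent.DEqT.SibGen
import Mathlib.Algebra.Homology.DerivedCategory.SingleTriangle
import Mathlib.Algebra.Homology.DerivedCategory.FullyFaithful
import Mathlib.CategoryTheory.Triangulated.TStructure.Induced

/-!
# `A ⥤ D^b(A)` is an effaceable heart
-/

set_option linter.style.haveILetI false
set_option linter.unusedSectionVars false
set_option backward.defeqAttrib.useBackward true
set_option backward.isDefEq.respectTransparency false

universe w v u

open CategoryTheory CategoryTheory.Limits CategoryTheory.Pretriangulated CategoryTheory.Triangulated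
open DerivedCategory.TStructure

namespace Groth.Agent.DEqT

variable (A : Type u) [Category.{v} A] [Abelian A] [HasDerivedCategory.{w} A]

/-- The standard t-structure on `D^b(A)`. -/
noncomputable abbrev tB : TStructure (DerivedCategory.Bounded A) :=
  (DerivedCategory.TStructure.t (C := A)).onBounded

instance singleB_full : (DEquiv.singleB A).Full := by
  unfold DEquiv.singleB
  infer_instance

instance singleB_faithful : (DEquiv.singleB A).Faithful := by
  unfold DEquiv.singleB
  infer_instance

instance singleB_additive : (DEquiv.singleB A).Additive := by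
  constructor
  intro X Y f g
  apply (DerivedCategory.Bounded.ι (C := A)).map_injective
  exact (DerivedCategory.singleFunctor A 0).map_add

lemma bounded_tB (K : DerivedCategory.Bounded A) : (tB A).bounded K := by
  obtain ⟨⟨a, ha⟩, b, hb⟩ := K.property
  exact ⟨⟨a, ((ObjectProperty.tStructure_isGE_iff _ _ K a).2 ha)⟩,
    b, ((ObjectProperty.tStructure_isLE_iff _ _ K b).2 hb)⟩

variable {A}

/-- A morphism from an object in degree `0` to something in degrees `< 0` is effaced by an
epimorphism. -/
lemma exists_epi_singleFunctor_comp_eq_zero (X : A) (M : DerivedCategory A)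
    (φ : (DerivedCategory.singleFunctor A 0).obj X ⟶ M) [M.IsLE (-1)] :
    ∃ (X' : A) (p : X' ⟶ X), Epi p ∧ (DerivedCategory.singleFunctor A 0).map p ≫ φ = 0 := by
  obtain ⟨M', hM', ⟨e⟩⟩ := M.exists_iso_Q_obj_of_isLE (-1)
  let S := (CochainComplex.singleFunctor A 0).obj X
  obtain ⟨φ', hφ'⟩ : ∃ φ' : DerivedCategory.Q.obj S ⟶ DerivedCategory.Q.obj M', φ' = φ ≫ e.hom :=
    ⟨_, rfl⟩
  obtain ⟨K, hK, s, hs, g, hsg⟩ := DerivedCategory.right_fac_of_isStrictlyLE φ' 0
  let p : K.X 0 ⟶ X := s.f 0 ≫ (HomologicalComplex.singleObjXSelf (ComplexShape.up ℤ) 0 X).hom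
  let i : (CochainComplex.singleFunctor A 0).obj (K.X 0) ⟶ K :=
    HomologicalComplex.mkHomFromSingle (𝟙 (K.X 0)) (fun k hk => by
      have : IsZero (K.X k) := K.isZero_of_isStrictlyLE 0 k (by simp at hk; omega)
      exact this.eq_of_tgt _ _)
  have his : i ≫ s = (CochainComplex.singleFunctor A 0).map p := by
    refine HomologicalComplex.from_single_hom_ext ?_
    simp [i, p, CochainComplex.singleFunctor, CochainComplex.singleFunctors,
      HomologicalComplex.single_map_f_self]
  refine ⟨K.X 0, p, ?_, ?_⟩
  · refine Preadditive.epi_of_cancel_zero p (fun {Z} x hx => ?_)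
    apply (DerivedCategory.singleFunctor A 0).map_injective
    rw [Functor.map_zero]
    have h0 : s ≫ (CochainComplex.singleFunctor A 0).map x = 0 := by
      refine HomologicalComplex.to_single_hom_ext ?_
      simp [CochainComplex.singleFunctor, CochainComplex.singleFunctors,
        HomologicalComplex.single_map_f_self]
      rw [← Category.assoc, show s.f 0 ≫
        (HomologicalComplex.singleObjXSelf (ComplexShape.up ℤ) 0 X).hom = p from rfl,
        reassoc_of% hx, zero_comp]
    have h1 : DerivedCategory.Q.map s ≫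
        DerivedCategory.Q.map ((CochainComplex.singleFunctor A 0).map x) = 0 := by
      rw [← Functor.map_comp, h0, Functor.map_zero]
    exact (cancel_epi (DerivedCategory.Q.map s)).1 (h1.trans comp_zero.symm)
  · have h0 : i ≫ g = 0 := by
      refine HomologicalComplex.from_single_hom_ext ?_
      exact (M'.isZero_of_isStrictlyLE (-1) 0 (by omega)).eq_of_tgt _ _
    rw [← cancel_mono e.hom, Category.assoc, zero_comp]
    show DerivedCategory.Q.map ((CochainComplex.singleFunctor A 0).map p) ≫
      (φ ≫ e.hom : DerivedCategory.Q.obj S ⟶ _) = 0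
    erw [← hφ']
    rw [← his, Functor.map_comp, hsg, Category.assoc, IsIso.hom_inv_id_assoc,
      ← Functor.map_comp, h0, Functor.map_zero]

variable (A)

lemma heartData : HeartData (tB A) (DEquiv.singleB A) where
  isLE X := (ObjectProperty.tStructure_isLE_iff _ _ _ _).2
    (inferInstanceAs (((DerivedCategory.singleFunctor A 0).obj X).IsLE 0))
  isGE X := (ObjectProperty.tStructure_isGE_iff _ _ _ _).2
    (inferInstanceAs (((DerivedCategory.singleFunctor A 0).obj X).IsGE 0))
  essSurj K h h' := by
    haveI : K.obj.IsLE 0 := (ObjectProperty.tStructure_isLE_iff _ _ _ _).1 h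
    haveI : K.obj.IsGE 0 := (ObjectProperty.tStructure_isGE_iff _ _ _ _).1 h'
    obtain ⟨X, ⟨e⟩⟩ := DerivedCategory.exists_iso_singleFunctor_obj_of_isGE_of_isLE K.obj 0
    exact ⟨X, ⟨(DerivedCategory.Bounded.ι (C := A)).preimageIso e.symm⟩⟩
  eff X M φ hM := by
    haveI : M.obj.IsLE (-1) := (ObjectProperty.tStructure_isLE_iff _ _ _ _).1 hM
    obtain ⟨X', p, hp, h⟩ := exists_epi_singleFunctor_comp_eq_zero X M.obj φ.hom
    exact ⟨X', p, hp, (DerivedCategory.Bounded.ι (C := A)).map_injective
      (by rw [Functor.map_comp, Functor.map_zero]; exact h)⟩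
  ses {X' X} p hp := by
    have hS : (ShortComplex.mk (kernel.ι p) p (kernel.condition p)).ShortExact :=
      { exact := ShortComplex.exact_of_f_is_kernel _ (kernelIsKernel p) }
    let ι := DerivedCategory.Bounded.ι (C := A)
    obtain ⟨δ, hδ⟩ := ι.map_surjective (X := (DEquiv.singleB A).obj X)
      (Y := ((DEquiv.singleB A).obj (kernel p))⟦(1 : ℤ)⟧)
      (hS.singleδ ≫ (ι.commShiftIso (1 : ℤ)).inv.app ((DEquiv.singleB A).obj (kernel p)))
    refine ⟨kernel p, kernel.ι p, δ, ?_⟩
    show ι.mapTriangle.obj _ ∈ distTriang _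
    refine isomorphic_distinguished _ hS.singleTriangle_distinguished _ ?_
    refine Triangle.isoMk _ _ (Iso.refl _) (Iso.refl _) (Iso.refl _) ?_ ?_ ?_
    · dsimp [ι]; simp [DEquiv.singleB]
    · dsimp [ι]; simp [DEquiv.singleB]
    · show (ι.map δ ≫ (ι.commShiftIso (1 : ℤ)).hom.app _) ≫ (𝟙 _)⟦(1 : ℤ)⟧' = 𝟙 _ ≫ hS.singleδ
      erw [hδ, Category.assoc, Category.assoc, CategoryTheory.Functor.map_id, Category.comp_id,
        Iso.inv_hom_id_app, Category.id_comp]
      exact Category.comp_id _

end Groth.Agent.DEqT
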