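import Groth.Agent.DEqT.SibGen
import Mathlib.Data.Set.Countable
import Mathlib.Data.Countable.Basic
import Mathlib.GroupTheory.QuotientGroup.Basic

/-!
# A triangulated category with a countable effaceable heart is countable
-/

set_option linter.style.haveILetI false
set_option linter.unusedSectionVars false
set_option backward.defeqAttrib.useBackward true
set_option backward.isDefEq.respectTransparency false

universe v u w' z'

open CategoryTheory CategoryTheory.Limits CategoryTheory.Pretriangulated CategoryTheory.Triangulated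
open scoped ZeroObject

namespace Groth.Agent.DEqT

lemma countable_of_fibres {G H : Type*} [AddGroup G] [AddGroup H] [Countable H] (f : G →+ H)
    (hf : Countable f.ker) : Countable G := by
  have : ∀ h : H, Set.Countable {g : G | f g = h} := by
    intro h
    by_cases he : ∃ g₀, f g₀ = h
    · obtain ⟨g₀, rfl⟩ := he
      refine Set.Countable.mono (fun g hg => ?_) (Set.countable_range (fun k : f.ker => (k : G) + g₀))
      exact ⟨⟨g - g₀, by simp [show f g = f g₀ from hg]⟩, by simp⟩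
    · exact Set.Countable.mono (fun g hg => (he ⟨g, hg⟩).elim) Set.countable_empty
  refine Set.countable_univ_iff.1 (Set.Countable.mono (fun g _ => ?_) (Set.countable_iUnion this))
  exact Set.mem_iUnion.2 ⟨f g, rfl⟩

variable {C : Type u} [Category.{v} C] [Preadditive C] [HasZeroObject C] [HasShift C ℤ]
  [∀ n : ℤ, (shiftFunctor C n).Additive] [Pretriangulated C] [IsTriangulated C]
  {A : Type w'} [Category.{z'} A] {t : TStructure C} {j : A ⥤ C} [j.Full]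

lemma countable_hom_iso {K K' L L' : C} (eK : K ≅ K') (eL : L ≅ L') (h : Countable (K ⟶ L)) :
    Countable (K' ⟶ L') :=
  Function.Surjective.countable (f := fun f : K ⟶ L => eK.inv ≫ f ≫ eL.hom)
    (fun g => ⟨eK.hom ≫ g ≫ eL.inv, by simp⟩)

lemma countable_hom₂ (K : C) (T : Triangle C) (hT : T ∈ distTriang C)
    (h₁ : Countable (K ⟶ T.obj₁)) (h₃ : Countable (K ⟶ T.obj₃)) : Countable (K ⟶ T.obj₂) := by
  let f : (K ⟶ T.obj₂) →+ (K ⟶ T.obj₃) := Preadditive.rightComp K T.mor₂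
  refine countable_of_fibres f ?_
  exact Function.Surjective.countable (f := fun g : K ⟶ T.obj₁ =>
    (⟨g ≫ T.mor₁, show (g ≫ T.mor₁) ≫ T.mor₂ = 0 by
      simp [comp_distTriang_mor_zero₁₂ _ hT]⟩ : f.ker)) (fun k => by
      obtain ⟨g, hg⟩ := Triangle.coyoneda_exact₂ T hT k.1 k.2
      exact ⟨g, Subtype.ext hg.symm⟩)

lemma countable_hom₂' (L : C) (T : Triangle C) (hT : T ∈ distTriang C)
    (h₁ : Countable (T.obj₁ ⟶ L)) (h₃ : Countable (T.obj₃ ⟶ L)) : Countable (T.obj₂ ⟶ L) := by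
  let f : (T.obj₂ ⟶ L) →+ (T.obj₁ ⟶ L) := Preadditive.leftComp L T.mor₁
  refine countable_of_fibres f ?_
  exact Function.Surjective.countable (f := fun g : T.obj₃ ⟶ L =>
    (⟨T.mor₂ ≫ g, show T.mor₁ ≫ T.mor₂ ≫ g = 0 by
      simp [comp_distTriang_mor_zero₁₂_assoc _ hT]⟩ : f.ker)) (fun k => by
      obtain ⟨g, hg⟩ := Triangle.yoneda_exact₂ T hT k.1 k.2
      exact ⟨g, Subtype.ext hg.symm⟩)

variable (hj : HeartData t j) (hhom : ∀ X Y : A, Countable (X ⟶ Y))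
  (hiso : ∃ e : ℕ → A, ∀ X : A, ∃ n : ℕ, Nonempty (X ≅ e n))

include hj hhom hiso

lemma countable_ext1 (X Y : A) : Countable (j.obj X ⟶ (j.obj Y)⟦(1 : ℤ)⟧) := by
  obtain ⟨e, he⟩ := hiso
  haveI := hhom
  have key : ∀ δ : j.obj X ⟶ (j.obj Y)⟦(1 : ℤ)⟧, ∃ p : Σ n, (Y ⟶ e n) × (e n ⟶ X),
      Triangle.mk (j.map p.2.1) (j.map p.2.2) δ ∈ distTriang C := by
    intro δ
    obtain ⟨E, f, g, hT⟩ := distinguished_cocone_triangle₂ δ
    obtain ⟨E', ⟨i⟩⟩ := hj.essSurj E (t.isLE₂ _ hT 0 (hj.isLE Y) (hj.isLE X))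
      (t.isGE₂ _ hT 0 (hj.isGE Y) (hj.isGE X))
    obtain ⟨n, ⟨i'⟩⟩ := he E'
    let I : j.obj (e n) ≅ E := (j.mapIso i').symm ≪≫ i
    obtain ⟨f', hf'⟩ := j.map_surjective (f ≫ I.inv)
    obtain ⟨g', hg'⟩ := j.map_surjective (I.hom ≫ g)
    refine ⟨⟨n, f', g'⟩, isomorphic_distinguished _ hT _ ?_⟩
    exact Triangle.isoMk _ _ (Iso.refl _) I (Iso.refl _) (by dsimp; simp [hf'])
      (by dsimp; simp [hg']) (by dsimp; simp)
  choose p hp using key
  refine Function.Injective.countable (f := p) (fun δ δ' h => ?_)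
  have h₁ := hp δ
  rw [h] at h₁
  obtain ⟨c, hc₂, hc₃⟩ := complete_distinguished_triangle_morphism _ _ h₁ (hp δ') (𝟙 _) (𝟙 _)
    (by simp)
  dsimp at c hc₂ hc₃
  obtain ⟨k, hk⟩ := Triangle.yoneda_exact₃ _ h₁ (c - 𝟙 _)
    (by dsimp; rw [Preadditive.comp_sub, hc₂]; simp)
  dsimp at k hk
  have h0 : k = 0 := by
    have h1 : t.IsLE ((j.obj Y)⟦(1 : ℤ)⟧) (-1) := hj.isLE_hobj Y 1 (-1) (by lia)
    exact t.zero_of_isLE_of_isGE k (-1) 0 (by lia) h1 (hj.isGE X)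
  rw [h0, comp_zero, sub_eq_zero] at hk
  rw [hk] at hc₃
  simpa using hc₃

lemma countable_hom_nat (n : ℕ) : ∀ X Y : A, Countable (j.obj X ⟶ hobj j Y (n : ℤ)) := by
  induction n with
  | zero =>
    intro X Y
    haveI := hhom X Y
    exact Function.Surjective.countable
      (f := fun f : X ⟶ Y => j.map f ≫ (shiftFunctorZero C ℤ).inv.app (j.obj Y))
      (fun g => by
        obtain ⟨f, hf⟩ := j.map_surjective (g ≫ (shiftFunctorZero C ℤ).hom.app (j.obj Y))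
        exact ⟨f, by simp [hf]⟩)
  | succ n ih =>
    intro X Y
    obtain ⟨e, he⟩ := id hiso
    haveI := fun m : ℕ => countable_ext1 hj hhom hiso X (e m)
    haveI : ∀ m : ℕ, Countable (hobj j (e m) 1 ⟶ hobj j Y ((n + 1 : ℕ) : ℤ)) := fun m => by
      have := ih (e m) Y
      exact Function.Surjective.countable (f := fun φ : j.obj (e m) ⟶ hobj j Y (n : ℤ) =>
        (shiftFunctor C (1 : ℤ)).map φ ≫
          ((shiftFunctorAdd' C (n : ℤ) 1 ((n + 1 : ℕ) : ℤ) (by omega)).app (j.obj Y)).inv)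
        (fun g => by
          obtain ⟨φ, hφ⟩ := (shiftFunctor C (1 : ℤ)).map_surjective
            (g ≫ ((shiftFunctorAdd' C (n : ℤ) 1 ((n + 1 : ℕ) : ℤ) (by omega)).app (j.obj Y)).hom)
          refine ⟨φ, ?_⟩
          dsimp only
          rw [hφ, Category.assoc, Iso.hom_inv_id]
          exact Category.comp_id g)
    refine Function.Surjective.countable
      (f := fun p : Σ m, (j.obj X ⟶ (j.obj (e m))⟦(1 : ℤ)⟧) ×
        (hobj j (e m) 1 ⟶ hobj j Y ((n + 1 : ℕ) : ℤ)) => p.2.1 ≫ p.2.2) (fun δ => ?_)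
    obtain ⟨X', p, hp, hpδ⟩ := hj.eff X _ δ (hj.isLE_hobj Y _ (-1) (by omega))
    obtain ⟨K, i, dd, hT⟩ := hj.ses p hp
    obtain ⟨φ, hφ⟩ := Triangle.yoneda_exact₃ _ hT δ hpδ
    dsimp at φ hφ
    obtain ⟨m, ⟨em⟩⟩ := he K
    refine ⟨⟨m, dd ≫ (j.map em.hom)⟦(1 : ℤ)⟧', (j.map em.inv)⟦(1 : ℤ)⟧' ≫ φ⟩, ?_⟩
    simp [hφ, ← Functor.map_comp_assoc]

lemma countable_hom_hobj (X Y : A) (a b : ℤ) : Countable (hobj j X a ⟶ hobj j Y b) := by
  by_cases hab : b < a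
  · have : ∀ f : hobj j X a ⟶ hobj j Y b, f = 0 := fun f =>
      t.zero_of_isLE_of_isGE f (-a) (-b) (by lia) (hj.isLE_hobj X a _ le_rfl)
        (hj.isGE_hobj Y b _ le_rfl)
    have : Subsingleton (hobj j X a ⟶ hobj j Y b) := ⟨fun f g => by rw [this f, this g]⟩
    infer_instance
  · obtain ⟨n, hn⟩ : ∃ n : ℕ, (n : ℤ) + a = b := ⟨(b - a).toNat, by omega⟩
    have := countable_hom_nat hj hhom hiso n X Y
    exact Function.Surjective.countable (f := fun φ : j.obj X ⟶ hobj j Y (n : ℤ) =>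
      (shiftFunctor C a).map φ ≫ ((shiftFunctorAdd' C (n : ℤ) a b hn).app (j.obj Y)).inv)
      (fun g => by
        obtain ⟨φ, hφ⟩ := (shiftFunctor C a).map_surjective
          (g ≫ ((shiftFunctorAdd' C (n : ℤ) a b hn).app (j.obj Y)).hom)
        refine ⟨φ, ?_⟩
        dsimp only
        rw [hφ, Category.assoc, Iso.hom_inv_id]
        exact Category.comp_id g)

theorem countable_hom (hb : ∀ K : C, t.bounded K) (K L : C) : Countable (K ⟶ L) := by
  obtain ⟨⟨a, ha⟩, b, hb'⟩ := hb L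
  have tgt : ∀ (X : A) (i : ℤ), Countable (hobj j X i ⟶ L) := fun X i =>
    hj.induction (P := fun L => Countable (hobj j X i ⟶ L)) a b
      (fun e h => countable_hom_iso (Iso.refl _) e h)
      (fun L hL => by
        have : Subsingleton (hobj j X i ⟶ L) := ⟨fun f g => hL.eq_of_tgt f g⟩
        infer_instance)
      (fun T hT h₁ h₃ => countable_hom₂ _ T hT h₁ h₃)
      (fun Y k _ _ => countable_hom_hobj hj hhom hiso X Y i (-k)) L
  obtain ⟨⟨a', ha'⟩, b', hb''⟩ := hb K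
  exact hj.induction (P := fun K => Countable (K ⟶ L)) a' b'
    (fun e h => countable_hom_iso e (Iso.refl _) h)
    (fun K hK => by
      have : Subsingleton (K ⟶ L) := ⟨fun f g => hK.eq_of_src f g⟩
      infer_instance)
    (fun T hT h₁ h₃ => countable_hom₂' _ T hT h₁ h₃)
    (fun Y k _ _ => tgt Y (-k)) K

theorem exists_enum (hb : ∀ K : C, t.bounded K) :
    ∃ e : ℕ → C, ∀ K : C, ∃ n, Nonempty (K ≅ e n) := by
  obtain ⟨e, he⟩ := id hiso
  haveI := fun K L : C => countable_hom hj hhom hiso hb K L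
  choose cone f g hT using fun (p : Σ (X Z : C), (Z ⟶ X⟦(1 : ℤ)⟧)) =>
    distinguished_cocone_triangle₂ p.2.2
  let next : Set C → Set C := fun S =>
    S ∪ ⋃ X ∈ S, ⋃ Z ∈ S, Set.range (fun δ : Z ⟶ X⟦(1 : ℤ)⟧ => cone ⟨X, Z, δ⟩)
  let R : ℕ → Set C := fun k => Nat.rec
    (insert (0 : C) (Set.range fun p : ℕ × ℤ => hobj j (e p.1) p.2)) (fun _ S => next S) k
  have hR : ∀ k, (R k).Countable := by
    intro k
    induction k with
    | zero => exact (Set.countable_range _).insert _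
    | succ k ih =>
      exact ih.union (ih.biUnion fun X _ => ih.biUnion fun Z _ => Set.countable_range _)
  have hmono : Monotone R := monotone_nat_of_le_succ fun k => Set.subset_union_left
  let U : Set C := ⋃ k, R k
  have hU : U.Countable := Set.countable_iUnion hR
  have key : ∀ K : C, ∃ L ∈ U, Nonempty (K ≅ L) := by
    intro K
    obtain ⟨⟨a, ha⟩, b, hb'⟩ := hb K
    refine hj.induction (P := fun K => ∃ L ∈ U, Nonempty (K ≅ L)) a b
      (fun i ⟨L, hL, ⟨i'⟩⟩ => ⟨L, hL, ⟨i.symm ≪≫ i'⟩⟩)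
      (fun K hK => ⟨0, Set.mem_iUnion.2 ⟨0, Set.mem_insert _ _⟩, ⟨hK.isoZero⟩⟩) ?_ ?_ K
    · rintro T hT' ⟨L₁, hL₁, ⟨i₁⟩⟩ ⟨L₃, hL₃, ⟨i₃⟩⟩
      obtain ⟨k₁, hk₁⟩ := Set.mem_iUnion.1 hL₁
      obtain ⟨k₃, hk₃⟩ := Set.mem_iUnion.1 hL₃
      let δ : L₃ ⟶ L₁⟦(1 : ℤ)⟧ := i₃.inv ≫ T.mor₃ ≫ i₁.hom⟦(1 : ℤ)⟧'
      refine ⟨cone ⟨L₁, L₃, δ⟩, Set.mem_iUnion.2 ⟨max k₁ k₃ + 1, Or.inr ?_⟩,
        ⟨Triangle.π₂.mapIso (isoTriangleOfIso₁₃ T _ hT' (hT ⟨L₁, L₃, δ⟩) i₁ i₃ (by simp [δ]))⟩⟩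
      exact Set.mem_biUnion (hmono (le_max_left k₁ k₃) hk₁)
        (Set.mem_biUnion (hmono (le_max_right k₁ k₃) hk₃) ⟨δ, rfl⟩)
    · intro X i _ _
      obtain ⟨n, ⟨en⟩⟩ := he X
      exact ⟨_, Set.mem_iUnion.2 ⟨0, Set.mem_insert_of_mem _ ⟨(n, -i), rfl⟩⟩,
        ⟨(shiftFunctor C (-i)).mapIso (j.mapIso en)⟩⟩
  obtain ⟨E, hE⟩ := hU.exists_eq_range ⟨0, Set.mem_iUnion.2 ⟨0, Set.mem_insert _ _⟩⟩
  refine ⟨E, fun K => ?_⟩
  obtain ⟨L, hL, hi⟩ := key K
  rw [hE] at hL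
  obtain ⟨n, rfl⟩ := hL
  exact ⟨n, hi⟩

end Groth.Agent.DEqT
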