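import Groth.Prelude.Def_DualFM
import Groth.Agent.KFlatLib.Scheme.ProjClosed
import Groth.Agent.KFlatLib.Scheme.ProjFormula
import Groth.Agent.KFlatLib.Scheme.AcyclicPush
import Groth.Agent.KFlatLib.Scheme.DualPerfect
import Groth.Agent.KFlatLib.Scheme.Adjoint
import Groth.Agent.KFlatLib.Scheme.LpullComp
import Groth.Agent.KFlatLib.Scheme.ProjLocFree

/-!
# The diagonal kernel induces the identity
-/

set_option linter.style.haveILetI false
set_option linter.unusedSectionVars false
set_option backward.isDefEq.respectTransparency false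

universe u

open CategoryTheory CategoryTheory.Limits AlgebraicGeometry

attribute [local instance] HasDerivedCategory.standard

namespace Groth.Agent.DEqT

open Groth.Agent.KFlatLib

variable {X Y : Scheme.{u}}

/-- A closed immersion pushes complexes forward termwise, naturally. -/
theorem isIso_rpushUnit_closed (f : X ⟶ Y) [IsClosedImmersion f] [DCoh.HasRpush f]
    (C : CochainComplex X.Modules ℤ) : IsIso ((rpushUnit f).app C) := by
  haveI : PreservesFiniteColimits (Scheme.Modules.pushforward f) :=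
    ⟨fun J _ _ => preservesColimitsOfShape_push f J⟩
  obtain ⟨J, s, hJ, hs⟩ : ∃ (J : CochainComplex X.Modules ℤ) (s : C ⟶ J), J.IsKInjective ∧ QuasiIso s :=
    exists_kInjective_res C
  haveI := hJ
  haveI := hs
  let P := (Scheme.Modules.pushforward f).mapHomologicalComplex (ComplexShape.up ℤ)
  haveI : IsIso (DerivedCategory.Q.map s) := isIso_Q_map s hs
  haveI : QuasiIso (P.map s) := inferInstance
  haveI : IsIso (DerivedCategory.Q.map (P.map s)) := isIso_Q_map _ inferInstance
  haveI := isIso_rpushUnit_of_kInjective f J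
  have hn := (rpushUnit f).naturality s
  have : IsIso ((rpushUnit f).app C ≫ (DerivedCategory.Q ⋙ DCoh.Rpush f).map s) := by
    rw [← hn]
    simp only [Functor.comp_map]
    infer_instance
  haveI : IsIso ((DerivedCategory.Q ⋙ DCoh.Rpush f).map s) :=
    inferInstanceAs (IsIso ((DCoh.Rpush f).map (DerivedCategory.Q.map s)))
  exact IsIso.of_isIso_comp_right _ ((DerivedCategory.Q ⋙ DCoh.Rpush f).map s)

/-- `Q ⋙ Rf_* = f_* ⋙ Q` for a closed immersion. -/
noncomputable def rpushClosedIso (f : X ⟶ Y) [IsClosedImmersion f] [DCoh.HasRpush f] :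
    (Scheme.Modules.pushforward f).mapHomologicalComplex (ComplexShape.up ℤ) ⋙ DerivedCategory.Q ≅
      DerivedCategory.Q ⋙ DCoh.Rpush f :=
  haveI : ∀ C, IsIso ((rpushUnit f).app C) := isIso_rpushUnit_closed f
  haveI := NatIso.isIso_of_isIso_app (rpushUnit f)
  asIso (rpushUnit f)

/-- `R(id)_* = id`. -/
theorem nonempty_rpush_id [DCoh.HasRpush (𝟙 X)] : Nonempty (DCoh.Rpush (𝟙 X) ≅ 𝟭 (DCoh.D X)) :=
  ⟨Localization.liftNatIso DerivedCategory.Q (qisX X) (DerivedCategory.Q ⋙ DCoh.Rpush (𝟙 X))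
    (DerivedCategory.Q ⋙ 𝟭 _) _ _
    ((rpushClosedIso (𝟙 X)).symm ≪≫ Functor.isoWhiskerRight
      (NatIso.mapHomologicalComplex (Scheme.Modules.pushforwardId X) (ComplexShape.up ℤ) ≪≫
        Functor.mapHomologicalComplexIdIso _ _) DerivedCategory.Q ≪≫
      Functor.leftUnitor _ ≪≫ (Functor.rightUnitor _).symm)⟩

/-- `O ⊗ - = id`. -/
noncomputable def tensorUnitLeftIso (X : Scheme.{u}) :
    DCoh.tensorBi.obj (Coh.structureModule X) ≅ 𝟭 X.Modules :=
  ((tensorBiFlipIso X).app (Coh.structureModule X)).symm ≪≫ tensorStructureIso X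

/-- Tensoring with `i_* O` is restricting to the closed subscheme. -/
theorem nonempty_tensorPushStructureIso (i : X ⟶ Y) [IsClosedImmersion i] :
    Nonempty (DCoh.tensorBi.flip.obj ((Scheme.Modules.pushforward i).obj (Coh.structureModule X)) ≅
      Scheme.Modules.pullback i ⋙ Scheme.Modules.pushforward i) := by
  let O := Coh.structureModule X
  haveI : ∀ N, IsIso (projMod i O N) := fun N => isIso_projMod_of_isClosedImmersion i O N
  let e1 : DCoh.tensorBi.obj ((Scheme.Modules.pushforward i).obj O) ≅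
      Scheme.Modules.pullback i ⋙ DCoh.tensorBi.obj O ⋙ Scheme.Modules.pushforward i :=
    NatIso.ofComponents (fun N => asIso (projMod i O N)) fun g => projMod_naturality_right i O g
  exact ⟨(tensorBiFlipIso Y).app _ ≪≫ e1 ≪≫ Functor.isoWhiskerLeft _
    (Functor.isoWhiskerRight (tensorUnitLeftIso X) _ ≪≫ Functor.leftUnitor _)⟩

/-- The Fourier–Mukai functor of the diagonal is the identity. -/
theorem nonempty_phi_diagonal {S : Scheme.{u}} (a : X ⟶ S) [IsSeparated a]
    (K : CochainComplex (Limits.pullback a a).Modules ℤ) (hK : Nonempty (DCoh.toD _ K ≅ FMK.diagO a))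
    [DCoh.HasLpull (Limits.pullback.fst a a)] [DCoh.HasLTensorCx K]
    [DCoh.HasRpush (Limits.pullback.snd a a)] :
    Nonempty (FMK.phi a a K ≅ 𝟭 (DCoh.D X)) := by
  let W := Limits.pullback a a
  let Δ : X ⟶ W := pullback.diagonal a
  let p1 : W ⟶ X := pullback.fst a a
  let p2 : W ⟶ X := pullback.snd a a
  have h1 : Δ ≫ p1 = 𝟙 X := pullback.diagonal_fst a
  have h2 : Δ ≫ p2 = 𝟙 X := pullback.diagonal_snd a
  obtain ⟨eK⟩ := hK
  let G := (Scheme.Modules.pushforward Δ).obj (Coh.structureModule X)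
  let S' := (HomologicalComplex.single W.Modules (ComplexShape.up ℤ) 0).obj G
  let eS : DerivedCategory.Q.obj S' ≅ DerivedCategory.Q.obj K :=
    ((DerivedCategory.singleFunctorIsoCompQ W.Modules 0).app G).symm ≪≫ eK.symm
  haveI := hasLTensorCx S'
  haveI := hasRpush_scheme Δ
  haveI := hasRpush_scheme (Δ ≫ p2)
  haveI := hasRpush_scheme (𝟙 X)
  obtain ⟨cK⟩ := nonempty_LTensorCx_congr_D eS
  let c := (DCoh.tensorCxQ S').totalLeftDerivedCounit DerivedCategory.Q (qisX W)
  let P := kRes X ⋙ pullCx p1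
  haveI : ∀ C, IsIso ((Functor.whiskerLeft P c).app C) := fun C =>
    isIso_LTensorCx_counit S' (isKFlat_pullback p1 (isKFlat_kRes C))
  haveI := NatIso.isIso_of_isIso_app (Functor.whiskerLeft P c)
  obtain ⟨τ⟩ := nonempty_tensorPushStructureIso Δ
  let eT : DCoh.tensorCx.flip.obj S' ≅
      pullCx Δ ⋙ (Scheme.Modules.pushforward Δ).mapHomologicalComplex (ComplexShape.up ℤ) :=
    singleIso (DCoh.tensorBi (X := W)) G ≪≫ NatIso.mapHomologicalComplex τ (ComplexShape.up ℤ) ≪≫
      (Functor.mapHomologicalComplexCompIso (Iso.refl _) (ComplexShape.up ℤ)).symm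
  let eI : pullCx p1 ⋙ pullCx Δ ≅ 𝟭 _ :=
    pullCxCompIso Δ p1 ≪≫ NatIso.mapHomologicalComplex
      (Scheme.Modules.pullbackCongr h1 ≪≫ Scheme.Modules.pullbackId X) (ComplexShape.up ℤ) ≪≫
      Functor.mapHomologicalComplexIdIso _ _
  obtain ⟨eC⟩ := nonempty_rpush_comp Δ p2
  obtain ⟨eid⟩ := nonempty_rpush_id (X := X)
  let Push := (Scheme.Modules.pushforward Δ).mapHomologicalComplex (ComplexShape.up ℤ)
  let A : DerivedCategory.Q ⋙ DCoh.Lpull p1 ⋙ DCoh.LTensorCx K ≅
      DerivedCategory.Q ⋙ DCoh.Rpush Δ :=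
    Functor.isoWhiskerLeft DerivedCategory.Q (Functor.isoWhiskerLeft (DCoh.Lpull p1) cK.symm) ≪≫
      (Functor.associator _ _ _).symm ≪≫
      Functor.isoWhiskerRight (lpullResIso p1) (DCoh.LTensorCx S') ≪≫
      asIso (Functor.whiskerLeft P c) ≪≫
      Functor.isoWhiskerLeft P (Functor.isoWhiskerRight eT DerivedCategory.Q) ≪≫
      Functor.isoWhiskerLeft (kRes X) (Functor.isoWhiskerRight eI (Push ⋙ DerivedCategory.Q)) ≪≫
      Functor.isoWhiskerLeft (kRes X) (Functor.leftUnitor _ ≪≫ rpushClosedIso Δ) ≪≫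
      (Functor.associator _ _ _).symm ≪≫ Functor.isoWhiskerRight (resQIso X) (DCoh.Rpush Δ)
  let e : DCoh.Lpull p1 ⋙ DCoh.LTensorCx K ≅ DCoh.Rpush Δ :=
    Localization.liftNatIso DerivedCategory.Q (qisX X) _ _ _ _ A
  exact ⟨(Functor.associator _ _ _).symm ≪≫ Functor.isoWhiskerRight e (DCoh.Rpush p2) ≪≫ eC ≪≫
    eqToIso (by simp only [h2]) ≪≫ eid⟩

end Groth.Agent.DEqT
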