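import Groth.Agent.DEqT.FibreVanish
import Groth.Agent.KFlatLib.Scheme.RGammaPush
import Groth.Agent.KFlatLib.Scheme.Amplitude

/-!
# Cohomology of the derived fibre
-/

set_option linter.style.haveILetI false
set_option linter.unusedSectionVars false
set_option backward.isDefEq.respectTransparency false

universe u

open CategoryTheory CategoryTheory.Limits AlgebraicGeometry Opposite

attribute [local instance] HasDerivedCategory.standard

namespace Groth.Agent.DEqT

open Groth.Agent.KFlatLib

variable {X : Scheme.{u}}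

/-- `RΓ(X, -)` exists. -/
theorem hasRΓ_scheme (X : Scheme.{u}) : DCoh.HasRΓ X := by
  haveI := TriCat.qh_isLeftAdjoint_of_exists_resolution (A := X.Modules) exists_kInjective_res
  let adjQ := Adjunction.ofIsLeftAdjoint (DerivedCategory.Qh (C := X.Modules))
  let W := HomotopyCategory.quasiIso X.Modules (ComplexShape.up ℤ)
  have hd := TriCat.isRightDerivedFunctor_of_adjunction adjQ W (DCoh.gammaKh X)
  exact Functor.HasRightDerivedFunctor.mk' (L := DerivedCategory.Qh)
    (DerivedCategory.Qh.rightAdjoint ⋙ DCoh.gammaKh X)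
    (Functor.whiskerRight adjQ.unit (DCoh.gammaKh X)) (W := W)

set_option maxHeartbeats 800000 in
/-- If `H^i(X, L) = 0` then `O` has no maps to `L⟦i⟧`. -/
theorem eq_zero_of_isZero_RΓ [DCoh.HasRΓ X] (L : DCoh.D X) (i : ℤ)
    (h : IsZero ((DerivedCategory.homologyFunctor AddCommGrpCat.{u} i).obj ((DCoh.RΓ X).obj L)))
    (φ : DCoh.inD X (Coh.structureModule X) ⟶ L⟦i⟧) : φ = 0 := by
  let c := ComplexShape.up ℤ
  let q := HomotopyCategory.quotient X.Modules c
  let O := Coh.structureModule X
  obtain ⟨I, hI, -, ⟨eI⟩⟩ := exists_kInjective_rep L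
  haveI := isIso_rightDerivedUnit_of_kInjective (DCoh.gammaKh X) I
  -- global sections of `I` are exact at `i`
  let G := (mapCx (DCoh.gammaAb X)).obj I
  have hG : IsZero (G.homology i) := by
    refine IsZero.of_iso h ?_
    exact ((DerivedCategory.homologyFunctorFactors AddCommGrpCat.{u} i).app G).symm ≪≫
      (DerivedCategory.homologyFunctor _ i).mapIso
        (((DerivedCategory.quotientCompQhIso AddCommGrpCat.{u}).app G).symm ≪≫
          asIso (((DCoh.gammaKh X).totalRightDerivedUnit DerivedCategory.Qh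
            (HomotopyCategory.quasiIso X.Modules c)).app (q.obj I)) ≪≫
          (DCoh.RΓ X).mapIso ((DerivedCategory.quotientCompQhIso X.Modules).app I ≪≫ eI.symm))
  rw [← HomologicalComplex.exactAt_iff_isZero_homology,
    HomologicalComplex.exactAt_iff' _ (i - 1) i (i + 1) (by simp) (by simp),
    ShortComplex.ab_exact_iff] at hG
  -- maps from `O[-i]` to `I` vanish
  have hzero : ∀ ψ : DerivedCategory.Q.obj ((HomologicalComplex.single X.Modules c i).obj O) ⟶
      DerivedCategory.Q.obj I, ψ = 0 := fun ψ => by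
    obtain ⟨g, rfl⟩ := exists_Q_map ψ
    let σ := (HomologicalComplex.singleObjXSelf c i O).inv ≫ g.f i
    have hσ : σ ≫ I.d i (i + 1) = 0 := by
      rw [Category.assoc, g.comm, HomologicalComplex.single_obj_d, zero_comp, comp_zero]
    obtain ⟨w, hw⟩ := hG (topEquiv (I.X i) σ) ((topEquiv_naturality σ (I.d i (i + 1))).symm.trans
      ((congrArg (topEquiv _) hσ).trans (topEquiv_zero _)))
    obtain ⟨η, rfl⟩ := (topEquiv (I.X (i - 1))).surjective w
    have hη : η ≫ I.d (i - 1) i = σ :=
      (topEquiv _).injective ((topEquiv_naturality η (I.d (i - 1) i)).trans hw)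
    let h : ∀ p q, c.Rel q p → (((HomologicalComplex.single X.Modules c i).obj O).X p ⟶ I.X q) :=
      fun p q _ => if e : p = i ∧ q = i - 1 then
        (HomologicalComplex.singleObjXIsoOfEq c i O p e.1).hom ≫ η ≫ (I.XIsoOfEq e.2.symm).hom else 0
    rw [← DerivedCategory.Q.map_zero]
    refine DerivedCategory.Q_map_eq_of_homotopy _
      (Homotopy.trans (Homotopy.ofEq ?_) (Homotopy.nullHomotopy' h))
    apply HomologicalComplex.from_single_hom_ext
    rw [Homotopy.nullHomotopicMap'_f (show c.Rel (i - 1) i by simp [c]) (show c.Rel i (i + 1) from rfl),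
      HomologicalComplex.single_obj_d, zero_comp, zero_add]
    simp [h, HomologicalComplex.XIsoOfEq_rfl, hη, σ]
    exact ((HomologicalComplex.singleObjXSelf c i O).hom_inv_id_assoc (g.f i)).symm
  let S : DCoh.D X ⥤ DCoh.D X := shiftFunctor _ (-i)
  let eS : S.obj (DCoh.inD X O) ≅ DerivedCategory.Q.obj ((HomologicalComplex.single X.Modules c i).obj O) :=
    ((DerivedCategory.singleFunctors X.Modules).shiftIso (-i) i 0 (by omega)).app O ≪≫
      (DerivedCategory.singleFunctorIsoCompQ X.Modules i).app O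
  let eL : S.obj (L⟦i⟧) ≅ DerivedCategory.Q.obj I :=
    (shiftFunctorCompIsoId _ i (-i) (by omega)).app L ≪≫ eI
  refine (shiftFunctor (DCoh.D X) (-i)).map_injective ?_
  rw [Functor.map_zero, ← cancel_epi eS.inv, ← cancel_mono eL.hom]
  exact (hzero _).trans (hzero _).symm

set_option maxHeartbeats 800000 in
/-- Vanishing of the cohomology of the derived fibre kills the fibre dimension. -/
theorem betti_eq_zero_of_fibre (x : X) (hx : IsClosed ({x} : Set X)) (K : DCoh.D X) (hK : DCoh.IsPerfect K)
    [DCoh.HasLTensorMod ((Coh.push (X.fromSpecResidueField x)).obj (Coh.structureModule _))]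
    [DCoh.HasRΓ X] [DCoh.HasLpull (X.fromSpecResidueField x)] (i : ℤ)
    (h : IsZero ((DerivedCategory.homologyFunctor AddCommGrpCat.{u} i).obj
      ((DCoh.RΓ X).obj ((DCoh.LTensorMod
        ((Coh.push (X.fromSpecResidueField x)).obj (Coh.structureModule _))).obj K)))) :
    PerfD.betti K x i = 0 := by
  let ι := X.fromSpecResidueField x
  haveI : IsClosedImmersion ι := isClosedImmersion_point x hx
  haveI := hasRpush_scheme ι
  let T := Spec (X.residueField x)
  haveI := hasRΓ_scheme T
  let G := (Coh.push ι).obj (Coh.structureModule T)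
  let R := repK K
  haveI := isIso_ltensorModComparison G (isKFlat_repK K : DCoh.IsKFlat R)
  obtain ⟨τ⟩ := nonempty_tensorPushStructureIso ι
  obtain ⟨eΓ⟩ := nonempty_rpush_RΓ_iso ι
  let C := DCoh.toD T ((pullCx ι).obj R)
  let e : (DCoh.LTensorMod G).obj K ≅ (DCoh.Rpush ι).obj C :=
    (DCoh.LTensorMod G).mapIso (repKIso K).symm ≪≫ asIso ((ltensorModComparison G).app R) ≪≫
      DerivedCategory.Q.mapIso ((NatIso.mapHomologicalComplex τ (ComplexShape.up ℤ)).app R) ≪≫
      (rpushClosedIso ι).app ((pullCx ι).obj R)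
  let eC : C ≅ (DCoh.Lpull ι).obj K := lpullRepIso ι K
  have hz : IsZero ((DerivedCategory.homologyFunctor AddCommGrpCat.{u} i).obj ((DCoh.RΓ T).obj C)) :=
    h.of_iso ((DerivedCategory.homologyFunctor _ i).mapIso ((eΓ.app C).symm ≪≫ (DCoh.RΓ X).mapIso e.symm))
  have hq : DCoh.IsQCohD C := isQCohD_of_iso eC.symm (isQCohD_lpull ι (Perf52.isQCohD_of_isPerfect hK))
  exact betti_eq_zero_of_isZero K x i ((isZero_HD_of_hom_structure hq i
    (eq_zero_of_isZero_RΓ C i hz)).of_iso ((DerivedCategory.homologyFunctor _ i).mapIso eC).symm)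

/-- A perfect object has bounded cohomology near a point. -/
theorem exists_nhd_bounded {K : DCoh.D X} (hK : DCoh.IsPerfect K) (x : X) :
    ∃ (U : X.Opens) (a b : ℤ), x ∈ U ∧ ∀ i : ℤ, i < a ∨ b < i →
      ∀ y : X, y ∈ U → y ∉ CohB1.support (DCoh.HD K i) := by
  obtain ⟨U, j, _, ⟨z, rfl⟩, P, a, b, hab, hfree, ⟨eE⟩⟩ := exists_free_rep hK x
  refine ⟨j.opensRange, a, b, ⟨z, rfl⟩, fun i hi y hy => ?_⟩
  obtain ⟨w, rfl⟩ := hy
  have hz : IsZero ((DCoh.HD K i).restrict j) := by
    refine IsZero.of_iso (ShortComplex.isZero_homology_of_isZero_X₂ (P.sc i) (hab i hi))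
      ((hdRhoIso j K i).symm ≪≫ (DerivedCategory.homologyFunctor _ i).mapIso eE.symm ≪≫
        (DerivedCategory.homologyFunctorFactors _ i).app P)
  haveI := ModuleCat.subsingleton_of_isZero (Functor.map_isZero (DerSch.stalkFunctor U w) hz)
  let eAb := (Scheme.Modules.restrictStalkNatIso j w).app (DCoh.HD K i)
  exact not_not.2 (@Equiv.subsingleton _ _ eAb.addCommGroupIsoToAddEquiv.symm.toEquiv ‹_›)

end Groth.Agent.DEqT
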