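import Groth.Agent.DEqT.RHomExists
import Groth.Agent.DEqT.DiagKernel
import Groth.Agent.KFlatLib.Perfect.LocFreeLocus
import Groth.Agent.KFlatLib.Scheme.DualPerfect
import Groth.Agent.KFlatLib.Scheme.TildeD
import Groth.Agent.KFlatLib.Scheme.ProjClosed
import Groth.Agent.KFlatLib.Scheme.RpushQCoh
import Groth.Agent.Perf52.AffineKill

/-!
# Vanishing of cohomology near a point from vanishing on the fibre
-/

set_option linter.style.haveILetI false
set_option linter.unusedSectionVars false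
set_option backward.isDefEq.respectTransparency false

universe u

open CategoryTheory CategoryTheory.Limits AlgebraicGeometry TopologicalSpace Opposite

attribute [local instance] HasDerivedCategory.standard

namespace Groth.Agent.DEqT

open Groth.Agent.KFlatLib

variable {X Y : Scheme.{u}}

set_option maxHeartbeats 800000 in
/-- `H^n L = 0` on an affine scheme if `O` has no maps to `L⟦n⟧`. -/
theorem isZero_HD_of_hom_structure {R : CommRingCat.{u}} {L : DCoh.D (Spec R)} (hL : DCoh.IsQCohD L)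
    (n : ℤ) (h : ∀ φ : DCoh.inD (Spec R) (Coh.structureModule (Spec R)) ⟶ L⟦n⟧, φ = 0) :
    IsZero (DCoh.HD L n) := by
  have hq := isQCohD_shift hL n
  let eH : DCoh.HD (L⟦n⟧) 0 ≅ DCoh.HD L n :=
    ((DerivedCategory.homologyFunctor (Spec R).Modules 0).shiftIso n 0 n (add_zero n)).app L
  refine IsZero.of_iso ?_ eH.symm
  have hb := bijective_psiC_tildeR hq 0
  have hz : ∀ s : (tilde.functor R).obj (ModuleCat.of R R) ⟶ DCoh.HD (L⟦n⟧) 0, s = 0 := fun s => by
    obtain ⟨φ, rfl⟩ := hb.2 s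
    rw [show φ = 0 from h φ, psiC, Functor.map_zero, comp_zero]
  have hiso := isIso_of_bijective_comp_qcoh (hq 0) (hq 0) (0 : DCoh.HD (L⟦n⟧) 0 ⟶ DCoh.HD (L⟦n⟧) 0)
    ⟨fun a b _ => (hz a).trans (hz b).symm, fun b => ⟨0, by simp [hz b]⟩⟩
  exact (IsZero.iff_id_eq_zero _).2 ((isIsoZeroEquiv _ _).toFun hiso).1

/-- A fibre dimension is zero if the cohomology of the derived fibre vanishes. -/
theorem betti_eq_zero_of_isZero (E : DCoh.D X) (x : X) [DCoh.HasLpull (X.fromSpecResidueField x)] (i : ℤ)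
    (h : IsZero (DCoh.HD ((DCoh.Lpull (X.fromSpecResidueField x)).obj E) i)) :
    PerfD.betti E x i = 0 := by
  rw [PerfD.betti, finrank_top_eq_stalk _ default]
  haveI := ModuleCat.subsingleton_of_isZero (Functor.map_isZero (DerSch.stalkFunctor _ default) h)
  exact Module.finrank_zero_of_subsingleton

/-- A vanishing fibre dimension kills the stalk of the cohomology sheaf. -/
theorem notMem_support_of_betti {E : DCoh.D X} [∀ x : X, DCoh.HasLpull (X.fromSpecResidueField x)]
    (hE : DCoh.IsPerfect E) {x : X} {k : ℤ} (h : PerfD.betti E x k = 0) :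
    x ∉ CohB1.support (DCoh.HD E k) := by
  obtain ⟨U, j, _, ⟨y, rfl⟩, P, a, b, hab, hfree, ⟨eE⟩⟩ := exists_free_rep hE x
  obtain ⟨n, e, hP, -⟩ := exists_free_bounded hab hfree
  have hf := betti_formula E (j.base y) j y rfl hP e eE.hom (isPcMap_of_isIso (k - 1) eE.hom)
    (k - 1) k (k + 1) (by omega) rfl (by omega)
  rw [h] at hf
  obtain ⟨hex, -, -⟩ := exact_free_stalk y e (k - 1) k (k + 1) (by omega)
  haveI : (DerSch.stalkFunctor U y).PreservesHomology :=
    Functor.preservesHomology_of_map_exact _ fun S hS => (exact_iff_stalk S).1 hS y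
  have hz : IsZero ((DerSch.stalkFunctor U y).obj ((DCoh.HD E k).restrict j)) := by
    refine IsZero.of_iso ((ShortComplex.exact_iff_isZero_homology _).1 hex) ?_
    exact (DerSch.stalkFunctor U y).mapIso ((hdRhoIso j E k).symm ≪≫
      (DerivedCategory.homologyFunctor _ k).mapIso eE.symm ≪≫
      (DerivedCategory.homologyFunctorFactors _ k).app P ≪≫
      P.homologyIsoSc' (k - 1) k (k + 1) (by simp) (by simp)) ≪≫
      ((P.sc' (k - 1) k (k + 1)).mapHomologyIso _).symm
  haveI := ModuleCat.subsingleton_of_isZero hz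
  let eAb := (Scheme.Modules.restrictStalkNatIso j y).app (DCoh.HD E k)
  exact not_not.2 (@Equiv.subsingleton _ _ eAb.addCommGroupIsoToAddEquiv.symm.toEquiv ‹_›)

/-- Vanishing on the fibre spreads out. -/
theorem exists_nhd_of_betti [∀ x : X, DCoh.HasLpull (X.fromSpecResidueField x)] {E : DCoh.D X}
    (hE : DCoh.IsPerfect E) {x : X} {k : ℤ} (h : PerfD.betti E x k = 0) :
    ∃ U : X.Opens, x ∈ U ∧ ∀ y : X, y ∈ U → y ∉ CohB1.support (DCoh.HD E k) := by
  obtain ⟨U, hU, hx⟩ : ∃ U : Set X, IsOpen U ∧ (x ∈ U ∧ U ⊆ {y | PerfD.betti E y k < 1}) :=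
    ⟨_, isOpen_betti_lt E (((isPerfect_iff _).1 hE).locPC (k - 1)) (by omega) 1,
      by show PerfD.betti E x k < 1; omega, subset_rfl⟩
  exact ⟨⟨U, hU⟩, hx.1, fun y hy => notMem_support_of_betti hE
    (Nat.lt_one_iff.1 (hx.2 hy))⟩

theorem isClosedImmersion_point (x : X) (hx : IsClosed ({x} : Set X)) :
    IsClosedImmersion (X.fromSpecResidueField x) :=
  IsClosedImmersion.of_isPreimmersion _ (by rwa [Scheme.range_fromSpecResidueField])

/-- `Lf^* O = O`. -/
theorem nonempty_lpull_structure (f : X ⟶ Y) [DCoh.HasLpull f] :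
    Nonempty ((DCoh.Lpull f).obj (DCoh.inD Y (Coh.structureModule Y)) ≅
      DCoh.inD X (Coh.structureModule X)) := by
  let S := (HomologicalComplex.single Y.Modules (ComplexShape.up ℤ) 0).obj (Coh.structureModule Y)
  haveI : CochainComplex.IsStrictlyLE S 0 := (CochainComplex.isStrictlyLE_iff _ 0).2
    fun j hj => HomologicalComplex.isZero_single_obj_X (ComplexShape.up ℤ) 0 _ j (by omega)
  have hS : DCoh.IsKFlat S := isKFlat_of_isStrictlyLE S 0 (isFlat_single 0 KFlatLib.isFlat_structureModule)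
  haveI : IsIso (SheafOfModules.pullbackObjUnitToUnit f.toRingCatSheafHom) := inferInstance
  let e : (Scheme.Modules.pullback f).obj (Coh.structureModule Y) ≅ Coh.structureModule X :=
    asIso (SheafOfModules.pullbackObjUnitToUnit f.toRingCatSheafHom)
  exact ⟨(DCoh.Lpull f).mapIso ((DerivedCategory.singleFunctorIsoCompQ Y.Modules 0).app _) ≪≫
    lpullIso f hS ≪≫ DerivedCategory.Q.mapIso
      ((HomologicalComplex.singleMapHomologicalComplex (Scheme.Modules.pullback f) _ 0).app _ ≪≫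
        (HomologicalComplex.single _ _ 0).mapIso e) ≪≫
    ((DerivedCategory.singleFunctorIsoCompQ X.Modules 0).app _).symm⟩

/-- `O⟦i⟧ ⊗ D = D⟦i⟧`. -/
theorem nonempty_ltensor_shift_structure (D : CochainComplex X.Modules ℤ) [DCoh.HasLTensorCx D] (i : ℤ) :
    Nonempty ((DCoh.LTensorCx D).obj ((DCoh.inD X (Coh.structureModule X))⟦i⟧) ≅ (DCoh.toD X D)⟦i⟧) := by
  let S := (HomologicalComplex.single X.Modules (ComplexShape.up ℤ) (-i)).obj (Coh.structureModule X)
  haveI : CochainComplex.IsStrictlyLE S (-i) := (CochainComplex.isStrictlyLE_iff _ _).2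
    fun j hj => HomologicalComplex.isZero_single_obj_X (ComplexShape.up ℤ) (-i) _ j (by omega)
  have hS : DCoh.IsKFlat S := isKFlat_of_isStrictlyLE S (-i) (isFlat_single (-i) KFlatLib.isFlat_structureModule)
  let eS : (DCoh.inD X (Coh.structureModule X))⟦i⟧ ≅ DerivedCategory.Q.obj S :=
    ((DerivedCategory.singleFunctors X.Modules).shiftIso i (-i) 0 (by omega)).app _ ≪≫
      (DerivedCategory.singleFunctorIsoCompQ X.Modules (-i)).app _
  exact ⟨(DCoh.LTensorCx D).mapIso eS ≪≫ ltensorCxIso D hS ≪≫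
    DerivedCategory.Q.mapIso ((symmIso (tensorBiFlipIso X) D).app S) ≪≫
    DerivedCategory.Q.mapIso ((Inner.tensorUnitShiftIso (DCoh.tensorBi (X := X))
      (Coh.structureModule X) (tensorStructureIso X) (-i)).app D) ≪≫
    ((DerivedCategory.Q.commShiftIso (-(-i))).app D) ≪≫ eqToIso (by rw [neg_neg]; rfl)⟩

/-- Vanishing of `Hom(E, O_x⟦i⟧)` kills `H^i` of the dual near `x`. -/
theorem exists_nhd_dual (x : X) (hx : IsClosed ({x} : Set X))
    (E : CochainComplex X.Modules ℤ) (hE : DCoh.IsPerfect (DCoh.toD X E))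
    [DCoh.HasLTensorCx E] [DCoh.HasRSheafHom E] (i : ℤ)
    (h : ∀ φ : DCoh.toD X E ⟶ (shiftFunctor (DCoh.D X) i).obj
      (DCoh.inD X ((Coh.push (X.fromSpecResidueField x)).obj (Coh.structureModule _))), φ = 0) :
    ∃ U : X.Opens, x ∈ U ∧ ∀ y : X, y ∈ U →
      y ∉ CohB1.support (DCoh.HD ((DCoh.RSheafHom E).obj (DCoh.inD X (Coh.structureModule X))) i) := by
  haveI := fun y : X => hasLpull (X.fromSpecResidueField y)
  let ι := X.fromSpecResidueField x
  haveI : IsClosedImmersion ι := isClosedImmersion_point x hx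
  haveI := hasRpush_scheme ι
  haveI := hasLpull ι
  let T := Spec (X.residueField x)
  let O := DCoh.inD X (Coh.structureModule X)
  let OT := DCoh.inD T (Coh.structureModule T)
  let K := repK (DCoh.toD X E)
  have hK : DCoh.IsKFlat K := isKFlat_repK _
  let eK : DerivedCategory.Q.obj K ≅ DCoh.toD X E := repKIso _
  have hKp : DCoh.IsPerfect (DCoh.toD X K) :=
    (isPerfect_iff _).2 (((isPerfect_iff _).1 hE).of_iso eK.symm)
  haveI := hasLTensorCx K
  haveI := hasRSheafHom K
  obtain ⟨cE⟩ := nonempty_LTensorCx_congr_D eK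
  let eR : DCoh.RSheafHom E ≅ DCoh.RSheafHom K :=
    ((DCoh.RSheafHomAdj E).ofNatIsoLeft cE.symm).rightAdjointUniq (DCoh.RSheafHomAdj K)
  let Dual := (DCoh.RSheafHom K).obj O
  have hDual : DCoh.IsPerfect Dual := isPerfect_RSheafHom_structure K hKp
  let D := repK Dual
  have hD : DCoh.IsKFlat D := isKFlat_repK _
  haveI := hasLTensorCx D
  haveI := hasLTensorCx ((pullCx ι).obj D)
  let G := (Scheme.Modules.pushforward ι).obj (Coh.structureModule T)
  let M := (DCoh.inD X G)⟦i⟧
  obtain ⟨eD⟩ := nonempty_ltensor_dual_iso K hK hKp D hD ⟨repKIso Dual⟩ M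
  obtain ⟨eO⟩ := nonempty_ltensor_shift_structure K 0
  have hzero : ∀ φ : O ⟶ (DCoh.LTensorCx D).obj M, φ = 0 := fun φ => by
    let e0 : (DCoh.LTensorCx K).obj O ≅ DCoh.toD X E :=
      (DCoh.LTensorCx K).mapIso ((shiftFunctorZero (DCoh.D X) ℤ).app O).symm ≪≫ eO ≪≫
        (shiftFunctorZero (DCoh.D X) ℤ).app _ ≪≫ eK
    rw [← cancel_mono eD.hom, zero_comp]
    refine ((DCoh.RSheafHomAdj K).homEquiv O M).symm.injective ?_
    rw [← cancel_epi e0.inv]
    exact (h _).trans (h _).symm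
  obtain ⟨es⟩ := nonempty_rpush_shift ι OT i
  obtain ⟨ep⟩ := nonempty_projection_closed ι D hD (OT⟦i⟧)
  obtain ⟨et⟩ := nonempty_ltensor_shift_structure ((pullCx ι).obj D) i
  let eG : (DCoh.Rpush ι).obj OT ≅ DCoh.inD X G :=
    (DCoh.Rpush ι).mapIso ((DerivedCategory.singleFunctorIsoCompQ T.Modules 0).app _) ≪≫
      ((rpushClosedIso ι).app _).symm ≪≫
      DerivedCategory.Q.mapIso ((HomologicalComplex.singleMapHomologicalComplex
        (Scheme.Modules.pushforward ι) _ 0).app _) ≪≫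
      ((DerivedCategory.singleFunctorIsoCompQ X.Modules 0).app G).symm
  let C := DCoh.toD T ((pullCx ι).obj D)
  let eM : (DCoh.LTensorCx D).obj M ≅ (DCoh.Rpush ι).obj (C⟦i⟧) :=
    (DCoh.LTensorCx D).mapIso ((shiftFunctor (DCoh.D X) i).mapIso eG.symm ≪≫ es.symm) ≪≫ ep ≪≫
      (DCoh.Rpush ι).mapIso et
  obtain ⟨adj⟩ := nonempty_lpull_rpush_adj ι
  obtain ⟨eu⟩ := nonempty_lpull_structure ι
  let eC : C ≅ (DCoh.Lpull ι).obj Dual := lpullRepIso ι Dual
  have hqD : DCoh.IsQCohD C :=
    isQCohD_of_iso eC.symm (isQCohD_lpull ι (Perf52.isQCohD_of_isPerfect hDual))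
  have hC : IsZero (DCoh.HD C i) := isZero_HD_of_hom_structure hqD i fun φ => by
    rw [← cancel_epi eu.hom, comp_zero]
    refine (adj.homEquiv O (C⟦i⟧)).injective ?_
    rw [← cancel_mono eM.inv]
    exact (hzero _).trans (hzero _).symm
  obtain ⟨U, hxU, hU⟩ := exists_nhd_of_betti hDual (betti_eq_zero_of_isZero Dual x i
    (hC.of_iso ((DerivedCategory.homologyFunctor _ i).mapIso eC).symm))
  refine ⟨U, hxU, fun y hy hy' => hU y hy fun hs => hy' ?_⟩
  let eS := (DerSch.stalkFunctor X y).mapIso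
    ((DerivedCategory.homologyFunctor X.Modules i).mapIso (eR.app O))
  exact @Equiv.subsingleton _ _ eS.toLinearEquiv.toEquiv hs

end Groth.Agent.DEqT
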