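import Mathlib.RingTheory.Adjoin.FG
import Mathlib.RingTheory.Polynomial.Basic
import Mathlib.RingTheory.Finiteness.Basic
import Mathlib.RingTheory.Noetherian.Basic
import Mathlib.Algebra.DirectSum.Module
import Mathlib.RingTheory.FiniteType

/-!
# Stabilisation of families with commuting degree-raising operators

A family `H d` with operators `x j d : H d → H (d+1)` stabilises when from some degree on every piece
is spanned by the images of the previous one.
-/

set_option linter.style.haveILetI false
set_option linter.unusedSectionVars false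

universe u v w

open DirectSum

namespace Groth.Agent.DEqT

variable {R : Type u} [CommRing R] {ι : Type w}

/-- From some degree on the images of the operators span. -/
def Stab {H : ℕ → Type v} [∀ d, AddCommGroup (H d)] [∀ d, Module R (H d)]
    (x : ι → ∀ d, H d →ₗ[R] H (d + 1)) : Prop :=
  ∃ D, ∀ d, D ≤ d → ⊤ ≤ ⨆ j, LinearMap.range (x j d)

section

variable {G : ℕ → Type v} [∀ d, AddCommGroup (G d)] [∀ d, Module R (G d)]
  (y : ι → ∀ d, G d →ₗ[R] G (d + 1))

/-- The operator on the direct sum. -/
noncomputable def sumOp (j : ι) : Module.End R (⨁ d, G d) :=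
  DirectSum.toModule R ℕ _ fun d => (DirectSum.lof R ℕ G (d + 1)).comp (y j d)

theorem sumOp_lof (j : ι) (d : ℕ) (g : G d) :
    sumOp y j (DirectSum.lof R ℕ G d g) = DirectSum.lof R ℕ G (d + 1) (y j d g) := by
  simp [sumOp]

theorem sumOp_apply_succ (j : ι) (m : ⨁ d, G d) (e : ℕ) :
    (sumOp y j m) (e + 1) = y j e (m e) := by
  induction m using DirectSum.induction_on with
  | zero => simp
  | of d g =>
    rw [← DirectSum.lof_eq_of R, sumOp_lof]
    by_cases h : d = e
    · subst h
      simp [DirectSum.lof_eq_of]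
    · simp [DirectSum.lof_eq_of, DirectSum.of_eq_of_ne, Ne.symm h]
  | add a b ha hb => simp [ha, hb]

theorem sumOp_apply_zero (j : ι) (m : ⨁ d, G d) : (sumOp y j m) 0 = 0 := by
  induction m using DirectSum.induction_on with
  | zero => simp
  | of d g =>
    rw [← DirectSum.lof_eq_of R, sumOp_lof]
    simp [DirectSum.lof_eq_of, DirectSum.of_eq_of_ne]
  | add a b ha hb => simp [ha, hb]

variable [IsNoetherianRing R] [Finite ι] [∀ d, Module.Finite R (G d)]
  (hy : ∀ j l d (g : G d), y l (d + 1) (y j d g) = y j (d + 1) (y l d g))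

include hy in
theorem sumOp_comm (j l : ι) : sumOp y j * sumOp y l = sumOp y l * sumOp y j := by
  refine DirectSum.linearMap_ext R fun d => LinearMap.ext fun g => ?_
  simp [Module.End.mul_apply, sumOp_lof, hy]

include hy in
/-- A stable family of submodules of a stabilising family of finite modules stabilises. -/
theorem exists_bound_of_stab (hG : Stab y) (N : ∀ d, Submodule R (G d))
    (hN : ∀ j d, (N d).map (y j d) ≤ N (d + 1)) :
    ∃ D, ∀ d, D ≤ d → N (d + 1) ≤ ⨆ j, (N d).map (y j d) := by
  classical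
  haveI := Fintype.ofFinite ι
  let M := ⨁ d, G d
  let S := Algebra.adjoin R (Set.range (sumOp y))
  letI : CommRing S := Algebra.adjoinCommRingOfComm R (by
    rintro _ ⟨j, rfl⟩ _ ⟨l, rfl⟩
    exact sumOp_comm y hy j l)
  haveI : Algebra.FiniteType R S :=
    (Subalgebra.fg_iff_finiteType S).1 ⟨Finset.univ.image (sumOp y), by
      rw [Finset.coe_image, Finset.coe_univ, Set.image_univ]⟩
  haveI : IsNoetherianRing S := Algebra.FiniteType.isNoetherianRing R S
  let op : ι → S := fun j => ⟨sumOp y j, Algebra.subset_adjoin ⟨j, rfl⟩⟩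
  -- finiteness of the sum
  obtain ⟨D₀, hD₀⟩ := hG
  choose b hb using fun d => Module.Finite.fg_top (R := R) (M := G d)
  haveI : Module.Finite S M := by
    let gs : Finset M := (Finset.range (D₀ + 1)).biUnion fun d => (b d).image (DirectSum.lof R ℕ G d)
    refine ⟨⟨gs, ?_⟩⟩
    rw [Submodule.eq_top_iff']
    let P : Submodule R M := (Submodule.span S (gs : Set M)).restrictScalars R
    suffices h : ∀ d (g : G d), DirectSum.lof R ℕ G d g ∈ P by
      intro m
      induction m using DirectSum.induction_on with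
      | zero => exact zero_mem _
      | of d g => exact h d g
      | add a c ha hc => exact add_mem ha hc
    intro d
    induction d with
    | zero =>
      intro g
      have : (⊤ : Submodule R (G 0)) ≤ P.comap (DirectSum.lof R ℕ G 0) := by
        rw [← hb 0, Submodule.span_le]
        exact fun c hc => Submodule.subset_span (Finset.mem_biUnion.2
          ⟨0, by simp, Finset.mem_image_of_mem _ hc⟩)
      exact this Submodule.mem_top
    | succ d ih =>
      intro g
      by_cases hd : D₀ ≤ d
      · have : (⊤ : Submodule R (G (d + 1))) ≤ P.comap (DirectSum.lof R ℕ G (d + 1)) := by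
          refine (hD₀ d hd).trans (iSup_le fun j => ?_)
          rintro _ ⟨c, rfl⟩
          show DirectSum.lof R ℕ G (d + 1) (y j d c) ∈ P
          rw [← sumOp_lof]
          exact Submodule.smul_mem (Submodule.span S (gs : Set M)) (op j) (ih c)
        exact this Submodule.mem_top
      · have : (⊤ : Submodule R (G (d + 1))) ≤ P.comap (DirectSum.lof R ℕ G (d + 1)) := by
          rw [← hb (d + 1), Submodule.span_le]
          exact fun c hc => Submodule.subset_span (Finset.mem_biUnion.2
            ⟨d + 1, Finset.mem_range.2 (by omega), Finset.mem_image_of_mem _ hc⟩)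
        exact this Submodule.mem_top
  haveI : IsNoetherian S M := isNoetherian_of_isNoetherianRing_of_finite S M
  -- the stable submodule
  let N' : Submodule R M := ⨅ d, (N d).comap (DirectSum.component R ℕ G d)
  have memN' : ∀ m : M, m ∈ N' ↔ ∀ d, m d ∈ N d := fun m => by
    simp only [N', Submodule.mem_iInf, Submodule.mem_comap]
    rfl
  have hN'op : ∀ (j : ι), ∀ m ∈ N', sumOp y j m ∈ N' := fun j m hm => (memN' _).2 fun d => by
    cases d with
    | zero => rw [sumOp_apply_zero]; exact zero_mem _
    | succ d => rw [sumOp_apply_succ]; exact hN j d ⟨_, (memN' m).1 hm d, rfl⟩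
  have stable : ∀ (Q : Submodule R M), (∀ (j : ι), ∀ m ∈ Q, sumOp y j m ∈ Q) →
      ∀ (s : S), ∀ m ∈ Q, s • m ∈ Q := fun Q hQ s m hm => by
    obtain ⟨s, hs⟩ := s
    show s m ∈ Q
    induction hs using Algebra.adjoin_induction generalizing m with
    | mem c hc => obtain ⟨j, rfl⟩ := hc; exact hQ j m hm
    | algebraMap r => exact Q.smul_mem r hm
    | add a c _ _ ha hc => exact add_mem (ha m hm) (hc m hm)
    | mul a c _ _ ha hc => exact ha _ (hc m hm)
  let NS : Submodule S M :=
    { carrier := N'
      add_mem' := N'.add_mem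
      zero_mem' := N'.zero_mem
      smul_mem' := fun s m hm => stable N' hN'op s m hm }
  obtain ⟨gens, hgens⟩ := IsNoetherian.noetherian NS
  let D := gens.sup fun m => (DFinsupp.support m).sup id
  refine ⟨D, fun d hd g hg => ?_⟩
  -- the elements whose top components are spanned
  let Q : Submodule R M := N' ⊓
    ⨅ e ∈ Set.Ici D, (⨆ j, (N e).map (y j e)).comap (DirectSum.component R ℕ G (e + 1))
  have memQ : ∀ m : M, m ∈ Q ↔ m ∈ N' ∧ ∀ e, D ≤ e → m (e + 1) ∈ ⨆ j, (N e).map (y j e) := fun m => by
    simp only [Q, Submodule.mem_inf, Submodule.mem_iInf, Submodule.mem_comap, Set.mem_Ici]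
    rfl
  have hQop : ∀ (j : ι), ∀ m ∈ Q, sumOp y j m ∈ Q := fun j m hm =>
    (memQ _).2 ⟨hN'op j m ((memQ m).1 hm).1, fun e _ => by
      rw [sumOp_apply_succ]
      exact Submodule.mem_iSup_of_mem j ⟨_, (memN' m).1 ((memQ m).1 hm).1 e, rfl⟩⟩
  let QS : Submodule S M :=
    { carrier := Q
      add_mem' := Q.add_mem
      zero_mem' := Q.zero_mem
      smul_mem' := fun s m hm => stable Q hQop s m hm }
  have hle : NS ≤ QS := by
    rw [← hgens, Submodule.span_le]
    intro m hm
    refine (memQ m).2 ⟨hgens.le (Submodule.subset_span hm), fun e he => ?_⟩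
    have : m (e + 1) = 0 := by
      by_contra hne
      have h1 : e + 1 ≤ D := le_trans (Finset.le_sup (f := id) (DFinsupp.mem_support_iff.2 hne))
        (Finset.le_sup (f := fun m => (DFinsupp.support m).sup id) hm)
      omega
    rw [this]
    exact zero_mem _
  have hmem : DirectSum.lof R ℕ G (d + 1) g ∈ NS := (memN' _).2 fun e => by
    by_cases he : d + 1 = e
    · subst he
      simpa [DirectSum.lof_eq_of] using hg
    · simp [DirectSum.lof_eq_of, DirectSum.of_eq_of_ne, Ne.symm he]
  have := ((memQ _).1 (hle hmem)).2 d hd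
  simpa [DirectSum.lof_eq_of] using this

end

/-- Stabilisation passes from the cokernel-image of one operator. -/
theorem Stab.of_exact [IsNoetherianRing R] [Finite ι] {H G : ℕ → Type v} [∀ d, AddCommGroup (H d)]
    [∀ d, Module R (H d)] [∀ d, AddCommGroup (G d)] [∀ d, Module R (G d)] [∀ d, Module.Finite R (G d)]
    {x : ι → ∀ d, H d →ₗ[R] H (d + 1)} {y : ι → ∀ d, G d →ₗ[R] G (d + 1)}
    (π : ∀ d, H d →ₗ[R] G d) (hπ : ∀ j d (h : H d), π (d + 1) (x j d h) = y j d (π d h))
    (hy : ∀ j l d (g : G d), y l (d + 1) (y j d g) = y j (d + 1) (y l d g))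
    (i : ι) (hker : ∀ d (h : H (d + 1)), π (d + 1) h = 0 → h ∈ LinearMap.range (x i d))
    (hG : Stab y) : Stab x := by
  obtain ⟨D, hD⟩ := exists_bound_of_stab y hy hG (fun d => LinearMap.range (π d)) (fun j d => by
    rintro _ ⟨_, ⟨h, rfl⟩, rfl⟩
    exact ⟨_, hπ j d h⟩)
  refine ⟨D, fun d hd h _ => ?_⟩
  have hmem : π (d + 1) h ∈ (⨆ j, LinearMap.range (x j d)).map (π (d + 1)) := by
    refine (?_ : (⨆ j, (LinearMap.range (π d)).map (y j d)) ≤ _) (hD d hd ⟨h, rfl⟩)
    refine iSup_le fun j => ?_
    rintro _ ⟨_, ⟨c, rfl⟩, rfl⟩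
    exact ⟨x j d c, Submodule.mem_iSup_of_mem j ⟨c, rfl⟩, hπ j d c⟩
  obtain ⟨c, hc, hπc⟩ := hmem
  have := Submodule.mem_iSup_of_mem (p := fun j => LinearMap.range (x j d)) i
    (hker d (h - c) (by rw [map_sub, hπc, sub_self]))
  simpa using add_mem this hc

theorem stab_of_subsingleton {H : ℕ → Type v} [∀ d, AddCommGroup (H d)] [∀ d, Module R (H d)]
    [∀ d, Subsingleton (H d)] (x : ι → ∀ d, H d →ₗ[R] H (d + 1)) : Stab x :=
  ⟨0, fun d _ h _ => by rw [Subsingleton.elim h 0]; exact zero_mem _⟩

end Groth.Agent.DEqT
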