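import Mathlib.CategoryTheory.Triangulated.TStructure.AbelianSubcategory
import Mathlib.CategoryTheory.Triangulated.TStructure.Heart
import Mathlib.CategoryTheory.Triangulated.TStructure.TruncLEGT
import Mathlib.CategoryTheory.Triangulated.HomologicalFunctor
import Mathlib.CategoryTheory.Limits.FullSubcategory
import Mathlib.Algebra.Homology.ShortComplex.ShortExact

/-!
# The heart of a t-structure is abelian; `H⁰` is homological
-/

set_option linter.style.haveILetI false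
set_option backward.defeqAttrib.useBackward true
set_option backward.isDefEq.respectTransparency false

universe v u v' u'

open CategoryTheory CategoryTheory.Limits CategoryTheory.Pretriangulated CategoryTheory.Triangulated
open scoped ZeroObject

namespace Groth.Agent.DEqT

variable {C : Type u} [Category.{v} C] [Preadditive C] [HasZeroObject C] [HasShift C ℤ]
  [∀ n : ℤ, (shiftFunctor C n).Additive] [Pretriangulated C] (t : TStructure C)

section
variable {H : Type u'} [Category.{v'} H] [Preadditive H] [t.Heart H]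

lemma exists_heart_preimage {X : C} (hX : t.heart X) :
    ∃ Y : H, Nonempty (t.ιHeart.obj Y ≅ X) := by
  rw [← t.essImage_ιHeart H] at hX
  exact hX

lemma exists_heart_preimage' (X : C) [t.IsLE X 0] [t.IsGE X 0] :
    ∃ Y : H, Nonempty (t.ιHeart.obj Y ≅ X) :=
  exists_heart_preimage t ((t.mem_heart_iff X).2 ⟨inferInstance, inferInstance⟩)

lemma heart_hom_shift_neg ⦃X Y : H⦄ ⦃n : ℤ⦄
    (f : t.ιHeart.obj X ⟶ (t.ιHeart.obj Y)⟦n⟧) (hn : n < 0) : f = 0 := by
  have := t.isGE_shift (t.ιHeart.obj Y) 0 n (-n) (by lia)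
  exact t.zero f 0 (-n) (by lia)

include t in
lemma hasFiniteProducts_heart [IsTriangulated C] : HasFiniteProducts H := by
  have h0 : ∃ Z : H, IsZero Z := by
    obtain ⟨Z, ⟨e⟩⟩ := exists_heart_preimage' (H := H) t (0 : C)
    exact ⟨Z, IsZero.of_full_of_faithful_of_isZero t.ιHeart Z ((isZero_zero C).of_iso e)⟩
  haveI : HasZeroObject H := ⟨h0⟩
  haveI : HasBinaryBiproducts H := ⟨fun X Y => by
    have hT := binaryBiproductTriangle_distinguished (t.ιHeart.obj X) (t.ιHeart.obj Y)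
    have h1 : t.IsLE (t.ιHeart.obj X ⊞ t.ιHeart.obj Y) 0 :=
      t.isLE₂ _ hT 0 (inferInstanceAs (t.IsLE (t.ιHeart.obj X) 0))
        (inferInstanceAs (t.IsLE (t.ιHeart.obj Y) 0))
    have h2 : t.IsGE (t.ιHeart.obj X ⊞ t.ιHeart.obj Y) 0 :=
      t.isGE₂ _ hT 0 (inferInstanceAs (t.IsGE (t.ιHeart.obj X) 0))
        (inferInstanceAs (t.IsGE (t.ιHeart.obj Y) 0))
    obtain ⟨P, ⟨e⟩⟩ := exists_heart_preimage' (H := H) t
      (t.ιHeart.obj X ⊞ t.ιHeart.obj Y)
    let fF := Functor.FullyFaithful.ofFullyFaithful (t.ιHeart (H := H))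
    refine HasBinaryBiproduct.mk ⟨
      { pt := P
        fst := fF.preimage (e.hom ≫ biprod.fst)
        snd := fF.preimage (e.hom ≫ biprod.snd)
        inl := fF.preimage (biprod.inl ≫ e.inv)
        inr := fF.preimage (biprod.inr ≫ e.inv)
        inl_fst := fF.map_injective (by simp)
        inl_snd := fF.map_injective (by simp)
        inr_fst := fF.map_injective (by simp)
        inr_snd := fF.map_injective (by simp) }, ?_⟩
    refine isBinaryBilimitOfTotal _ (fF.map_injective ?_)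
    simp only [Functor.map_add, Functor.map_comp, fF.map_preimage, Category.assoc]
    rw [← Preadditive.comp_add, ← Category.assoc biprod.fst, ← Category.assoc biprod.snd,
      ← Preadditive.add_comp, biprod.total, Category.id_comp, e.hom_inv_id, CategoryTheory.Functor.map_id]⟩
  exact hasFiniteProducts_of_has_binary_and_terminal

lemma admissibleMorphism_heart_eq_top [IsTriangulated C] :
    AbelianSubcategory.admissibleMorphism (t.ιHeart (H := H)) = ⊤ := by
  refine eq_top_iff.2 ?_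
  intro X₁ X₂ f _ X₃ f₂ f₃ hT
  have hLE : t.IsLE X₃ 0 := by
    have := t.isLE_shift (t.ιHeart.obj X₁) 0 1 (-1) (by lia)
    exact t.isLE₂ _ (rot_of_distTriang _ hT) 0 (inferInstanceAs (t.IsLE (t.ιHeart.obj X₂) 0))
      (t.isLE_of_le ((t.ιHeart.obj X₁)⟦(1 : ℤ)⟧) (-1) 0 (by lia))
  have hGE : t.IsGE X₃ (-1) := by
    have := t.isGE_shift (t.ιHeart.obj X₁) 0 1 (-1) (by lia)
    exact t.isGE₂ _ (rot_of_distTriang _ hT) (-1)
      (t.isGE_of_ge (t.ιHeart.obj X₂) (-1) 0 (by lia))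
      (inferInstanceAs (t.IsGE ((t.ιHeart.obj X₁)⟦(1 : ℤ)⟧) (-1)))
  set K' := ((t.truncLE (-1)).obj X₃)⟦(-1 : ℤ)⟧ with hK'
  have : t.IsLE K' 0 := t.isLE_shift _ (-1) (-1) 0 (by lia)
  have : t.IsGE K' 0 := t.isGE_shift _ (-1) (-1) 0 (by lia)
  obtain ⟨K, ⟨eK⟩⟩ := exists_heart_preimage' (H := H) t K'
  obtain ⟨Q, ⟨eQ⟩⟩ := exists_heart_preimage' (H := H) t ((t.truncGE 0).obj X₃)
  let eK' : (t.ιHeart.obj K)⟦(1 : ℤ)⟧ ≅ (t.truncLE (-1)).obj X₃ :=
    (shiftFunctor C (1 : ℤ)).mapIso eK ≪≫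
      (shiftFunctorCompIsoId C (-1 : ℤ) (1 : ℤ) (by lia)).app _
  refine ⟨K, Q, eK'.hom ≫ (t.truncLEι (-1)).app X₃, (t.truncGEπ 0).app X₃ ≫ eQ.inv,
    eQ.hom ≫ (t.truncGEδLE (-1) 0 (by lia)).app X₃ ≫ eK'.inv⟦(1 : ℤ)⟧', ?_⟩
  refine isomorphic_distinguished _ (t.triangleLEGE_distinguished (-1) 0 (by lia) X₃) _ ?_
  exact Triangle.isoMk _ _ eK' (Iso.refl _) eQ (by dsimp; simp) (by dsimp; simp)
    (by dsimp; simp [← Functor.map_comp])

include t in
lemma exists_abelian_heart [IsTriangulated C] :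
    ∃ a : Abelian H, @Abelian.toPreadditive H _ a = ‹Preadditive H› := by
  haveI := hasFiniteProducts_heart t (H := H)
  exact ⟨AbelianSubcategory.abelian t.ιHeart (heart_hom_shift_neg t)
    (admissibleMorphism_heart_eq_top t), rfl⟩

end

section
variable [IsTriangulated C] {H : Type u'} [Category.{v'} H] [Abelian H] [t.Heart H]

theorem shortExact_iff_exists_triangle {X Y Z : H} (u : X ⟶ Y) (v : Y ⟶ Z) :
    (∃ huv : u ≫ v = 0, (ShortComplex.mk u v huv).ShortExact) ↔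
      ∃ (w : t.ιHeart.obj Z ⟶ (t.ιHeart.obj X)⟦(1 : ℤ)⟧),
        Triangle.mk (t.ιHeart.map u) (t.ιHeart.map v) w ∈ distTriang C := by
  constructor
  · rintro ⟨huv, hS⟩
    haveI : Epi v := hS.epi_g
    obtain ⟨X', i, δ, hT⟩ := AbelianSubcategory.exists_distinguished_triangle_of_epi
      (heart_hom_shift_neg t (H := H)) (admissibleMorphism_heart_eq_top t) v
    have hi := AbelianSubcategory.isLimitKernelForkOfDistTriang
      (heart_hom_shift_neg t (H := H)) i v δ hT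
    let e : X ≅ X' := IsLimit.conePointUniqueUpToIso hS.fIsKernel hi
    have he : e.hom ≫ i = u :=
      IsLimit.conePointUniqueUpToIso_hom_comp hS.fIsKernel hi WalkingParallelPair.zero
    refine ⟨δ ≫ (t.ιHeart.map e.inv)⟦(1 : ℤ)⟧', isomorphic_distinguished _ hT _ ?_⟩
    refine Triangle.isoMk _ _ (t.ιHeart.mapIso e) (Iso.refl _) (Iso.refl _) ?_ (by simp) ?_
    · simp [← Functor.map_comp, he]
    · simp [← Functor.map_comp]
  · rintro ⟨w, hT⟩
    have h := comp_distTriang_mor_zero₁₂ _ hT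
    dsimp at h
    have huv : u ≫ v = 0 := t.ιHeart.map_injective (by simpa using h)
    refine ⟨huv, ?_⟩
    have hk := AbelianSubcategory.isLimitKernelForkOfDistTriang
      (heart_hom_shift_neg t (H := H)) u v w hT
    have hc := AbelianSubcategory.isColimitCokernelCoforkOfDistTriang
      (heart_hom_shift_neg t (H := H)) u v w hT
    exact
      { exact := ShortComplex.exact_of_f_is_kernel _ hk
        mono_f := mono_of_isLimit_fork hk
        epi_g := epi_of_isColimit_cofork hc }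

/-- The canonical map `τ≤0 X ⟶ τ≤0 τ≥0 X`. -/
noncomputable abbrev toH0 : t.truncLE 0 ⟶ t.truncGE 0 ⋙ t.truncLE 0 :=
  Functor.whiskerRight (t.truncGEπ 0) (t.truncLE 0)

lemma bijective_toH0_comp (X B : C) [t.IsGE B 0] :
    Function.Bijective fun g : (t.truncLE 0).obj ((t.truncGE 0).obj X) ⟶ B =>
      (toH0 t).app X ≫ g := by
  let φ : (t.truncGE 0).obj ((t.truncLE 0).obj X) ⟶ (t.truncLE 0).obj ((t.truncGE 0).obj X) :=
    (t.truncGELEIsoLEGE 0 0).hom.app X
  have hφ : (t.truncGEπ 0).app _ ≫ φ = (toH0 t).app X := by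
    haveI : t.IsLE ((𝟭 C).obj ((t.truncLE 0).obj X)) 0 :=
      inferInstanceAs (t.IsLE ((t.truncLE 0).obj X) 0)
    apply t.to_truncLE_obj_ext
    simp only [Category.assoc]
    refine (t.truncGELTToLTGE_app_pentagon 0 (0 + 1) X).trans ?_
    exact ((t.truncLEι 0).naturality _).symm
  haveI : IsIso φ := by dsimp only [φ]; infer_instance
  constructor
  · intro g g' h
    simp only [← hφ, Category.assoc] at h
    exact (cancel_epi φ).1 (t.from_truncGE_obj_ext h)
  · intro a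
    refine ⟨inv φ ≫ t.descTruncGE a 0, ?_⟩
    show (toH0 t).app X ≫ _ = a
    rw [← hφ, Category.assoc, IsIso.hom_inv_id_assoc, t.π_descTruncGE]

/-- `H⁰ Y ⟶ B` killing `H⁰ X` factors through `H⁰ Z`, when `X ≤ 0`. -/
lemma exists_desc_h0_of_isLE (T : Triangle C) (hT : T ∈ distTriang C) [t.IsLE T.obj₁ 0]
    (B : C) [t.IsGE B 0]
    (b : (t.truncLE 0).obj ((t.truncGE 0).obj T.obj₂) ⟶ B)
    (hb : (t.truncLE 0).map ((t.truncGE 0).map T.mor₁) ≫ b = 0) :
    ∃ c : (t.truncLE 0).obj ((t.truncGE 0).obj T.obj₃) ⟶ B,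
      b = (t.truncLE 0).map ((t.truncGE 0).map T.mor₂) ≫ c := by
  let u : T.obj₁ ⟶ (t.truncLE 0).obj T.obj₂ := t.liftTruncLE T.mor₁ 0
  have hu : u ≫ (t.truncLEι 0).app T.obj₂ = T.mor₁ := by simp [u]
  obtain ⟨W, g, h, hW⟩ := distinguished_cocone_triangle u
  let O := someOctahedron hu hW (t.triangleLEGE_distinguished 0 1 (by lia) T.obj₂) hT
  have hWle : t.IsLE W 0 := by
    have := t.isLE_shift T.obj₁ 0 1 (-1) (by lia)
    exact t.isLE₂ _ (rot_of_distTriang _ hW) 0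
      (inferInstanceAs (t.IsLE ((t.truncLE 0).obj T.obj₂) 0))
      (t.isLE_of_le (T.obj₁⟦(1 : ℤ)⟧) (-1) 0 (by lia))
  haveI := t.isIso₁_truncLE_map_of_isGE _ O.mem 0 1 (by lia) (by dsimp; infer_instance)
  let m : W ⟶ (t.truncLE 0).obj T.obj₃ := inv ((t.truncLEι 0).app W) ≫ (t.truncLE 0).map O.m₁
  haveI : IsIso m := by
    haveI : IsIso ((t.truncLE 0).map O.m₁) := this
    dsimp [m]; infer_instance
  have hm : g ≫ m = (t.truncLE 0).map T.mor₂ := by
    apply t.to_truncLE_obj_ext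
    have h1 := O.comm₁
    simp [m, h1]
  have hub : u ≫ (toH0 t).app T.obj₂ ≫ b = 0 := by
    have : (t.truncLE 0).map T.mor₁ = (t.truncLEι 0).app T.obj₁ ≫ u :=
      t.to_truncLE_obj_ext (by simp [u])
    rw [← cancel_epi ((t.truncLEι 0).app T.obj₁), ← Category.assoc, ← this,
      (toH0 t).naturality_assoc, comp_zero]
    dsimp
    rw [hb, comp_zero]
  obtain ⟨c', hc'⟩ := Triangle.yoneda_exact₂ _ hW ((toH0 t).app T.obj₂ ≫ b) hub
  obtain ⟨c, hc⟩ := (bijective_toH0_comp t T.obj₃ B).2 (inv m ≫ c')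
  refine ⟨c, (bijective_toH0_comp t T.obj₂ B).1 ?_⟩
  have := (toH0 t).naturality_assoc T.mor₂ c
  dsimp at this hc hc' ⊢
  rw [← this, hc, ← hm, Category.assoc, IsIso.hom_inv_id_assoc, hc']

/-- If the cone of `W ⟶ Z` is `≥ 0`, then `H⁰ W ⟶ H⁰ Z` is mono on maps from `≤ 0`. -/
lemma eq_zero_of_comp_h0_of_isGE (T : Triangle C) (hT : T ∈ distTriang C) [t.IsGE T.obj₃ 0]
    (A : C) [t.IsLE A 0]
    (a : A ⟶ (t.truncLE 0).obj ((t.truncGE 0).obj T.obj₁))
    (ha : a ≫ (t.truncLE 0).map ((t.truncGE 0).map T.mor₁) = 0) : a = 0 := by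
  haveI := t.isIso₁_truncLT_map_of_isGE T hT 0 inferInstance
  have h13 : Triangle.mk ((t.truncLTι 0).app T.obj₁ ≫ T.mor₁) ((t.truncGEπ 0).app T.obj₂)
      ((t.truncGEδLT 0).app T.obj₂ ≫ (inv ((t.truncLT 0).map T.mor₁))⟦(1 : ℤ)⟧')
      ∈ distTriang C := by
    refine isomorphic_distinguished _ (t.triangleLTGE_distinguished 0 T.obj₂) _ ?_
    exact Triangle.isoMk _ _ (asIso ((t.truncLT 0).map T.mor₁)) (Iso.refl _) (Iso.refl _)
      (by simp) (by simp) (by simp)
  let O := someOctahedron rfl (t.triangleLTGE_distinguished 0 T.obj₁) hT h13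
  have hm : O.m₁ = (t.truncGE 0).map T.mor₁ := t.from_truncGE_obj_ext (by
    have h1 := O.comm₁
    dsimp at h1
    exact h1.trans ((t.truncGEπ_naturality 0 T.mor₁).symm))
  have hmem := inv_rot_of_distTriang _ O.mem
  have ha' : (a ≫ (t.truncLEι 0).app _) ≫ O.m₁ = 0 := by
    have := ha =≫ (t.truncLEι 0).app _
    simpa [hm] using this
  obtain ⟨k, hk⟩ := Triangle.coyoneda_exact₂ _ hmem (a ≫ (t.truncLEι 0).app _) ha'
  have : t.IsGE (T.obj₃⟦(-1 : ℤ)⟧) 1 := t.isGE_shift _ 0 (-1) 1 (by lia)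
  have hk0 : k = 0 := t.zero_of_isLE_of_isGE k 0 1 (by lia) inferInstance this
  exact t.to_truncLE_obj_ext (by rw [hk, hk0, zero_comp, zero_comp])

theorem isHomological_of_iso (H0 : C ⥤ H)
    (e : H0 ⋙ t.ιHeart ≅ t.truncGE 0 ⋙ t.truncLE 0) : H0.IsHomological := by
  have key : ∀ {X Y : C} (f : X ⟶ Y), t.ιHeart.map (H0.map f) ≫ e.hom.app Y =
      e.hom.app X ≫ (t.truncLE 0).map ((t.truncGE 0).map f) := fun f => e.hom.naturality f
  haveI : H0.PreservesZeroMorphisms := ⟨fun X Y => t.ιHeart.map_injective (by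
    rw [← cancel_mono (e.hom.app Y), key]; simp)⟩
  refine Functor.IsHomological.mk' _ (fun T hT => ⟨T, Iso.refl _, ?_⟩)
  rw [ShortComplex.exact_iff_kernel_ι_comp_cokernel_π_zero]
  set S := (shortComplexOfDistTriangle T hT).map H0
  -- the triangle `τ≤0 X ⟶ Y ⟶ W` and the comparison `W ⟶ Z`
  obtain ⟨W, g, h, hW⟩ := distinguished_cocone_triangle ((t.truncLEι 0).app T.obj₁ ≫ T.mor₁)
  let O := someOctahedron rfl (t.triangleLEGE_distinguished 0 1 (by lia) T.obj₁) hT hW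
  have hgm : g ≫ O.m₃ = T.mor₂ := O.comm₃
  have hge : t.IsGE (((t.truncGE 1).obj T.obj₁)⟦(1 : ℤ)⟧) 0 := t.isGE_shift _ 1 1 0 (by lia)
  have hrot := rot_of_distTriang _ O.mem
  let p : H0.obj T.obj₂ ⟶ cokernel S.f := cokernel.π S.f
  have hp : H0.map T.mor₁ ≫ p = 0 := cokernel.condition S.f
  haveI : t.IsLE (Triangle.mk ((t.truncLEι 0).app T.obj₁ ≫ T.mor₁) g h).obj₁ 0 := by
    dsimp; infer_instance
  obtain ⟨c, hc⟩ := exists_desc_h0_of_isLE t _ hW (t.ιHeart.obj (cokernel S.f))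
    (e.inv.app T.obj₂ ≫ t.ιHeart.map p) (by
      dsimp
      have h1 := congrArg (fun q => e.inv.app ((t.truncLE 0).obj T.obj₁) ≫ t.ιHeart.map q)
        (show H0.map ((t.truncLEι 0).app T.obj₁ ≫ T.mor₁) ≫ p = 0 by
          rw [Functor.map_comp, Category.assoc, hp, comp_zero])
      simp only [Functor.map_comp, Functor.map_zero, comp_zero, Category.assoc] at h1
      simp only [Functor.map_comp, Category.assoc]
      have n1 := e.inv.naturality ((t.truncLEι 0).app T.obj₁)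
      have n2 := e.inv.naturality T.mor₁
      dsimp at n1 n2
      rw [reassoc_of% n2, reassoc_of% n1]
      exact h1)
  dsimp at hc
  have hpc : t.ιHeart.map p = t.ιHeart.map (H0.map g) ≫ e.hom.app W ≫ c := by
    rw [reassoc_of% key g, ← hc]; simp
  let x : kernel S.g ⟶ H0.obj T.obj₂ := kernel.ι S.g
  have hx : x ≫ H0.map T.mor₂ = 0 := kernel.condition S.g
  haveI : t.IsGE (Triangle.mk O.m₃ (T.mor₃ ≫ ((t.truncGEπ 1).app T.obj₁)⟦(1 : ℤ)⟧')
      (-O.m₁⟦(1 : ℤ)⟧')).obj₃ 0 := by dsimp; exact hge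
  have h0 : t.ιHeart.map (x ≫ H0.map g) ≫ e.hom.app W = 0 := by
    refine eq_zero_of_comp_h0_of_isGE t (Triangle.mk O.m₃
      (T.mor₃ ≫ ((t.truncGEπ 1).app T.obj₁)⟦(1 : ℤ)⟧') (-O.m₁⟦(1 : ℤ)⟧')) hrot
      (t.ιHeart.obj _) _ ?_
    dsimp
    rw [Category.assoc, ← key, ← Category.assoc, ← Functor.map_comp, Category.assoc,
      ← Functor.map_comp, hgm, hx, Functor.map_zero, zero_comp]
  refine t.ιHeart.map_injective ?_
  rw [Functor.map_comp, Functor.map_zero]
  show t.ιHeart.map x ≫ t.ιHeart.map p = 0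
  rw [hpc, ← Category.assoc, ← Functor.map_comp, ← Category.assoc, h0, zero_comp]

end

end Groth.Agent.DEqT
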