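import Groth.Agent.DEqT.RHomExists
import Groth.Agent.Lib.PnDualSheafHom
import Groth.Agent.SheafHomX.Smul
import Groth.Agent.SheafHomX.Coherent
import Groth.Agent.KFlatLib.Scheme.CohD
import Groth.Agent.KFlatLib.Scheme.DualPerfect
import Groth.Agent.KFlatLib.Scheme.CompactGlobal
import Groth.Agent.KFlatLib.Ghost
import Groth.Agent.H23.PullPush
import Groth.Agent.QCoh.DevissageP
import Groth.Agent.QCoh.Bound
import Groth.Agent.S0002
import Groth.Agent.S1116
import Groth.Agent.S1006
import Groth.Prelude.Def_KLin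
import Groth.Prelude.Def_SGA6
import Mathlib.Algebra.Homology.DerivedCategory.Ext.Linear

/-!
# Finiteness of `Hom` from perfect objects to bounded objects with coherent cohomology
-/

set_option linter.style.haveILetI false
set_option backward.isDefEq.respectTransparency false

universe u

open CategoryTheory CategoryTheory.Limits CategoryTheory.Pretriangulated AlgebraicGeometry
open TopologicalSpace Opposite

attribute [local instance] HasDerivedCategory.standard

namespace Groth.Agent.DEqT

open KFlatLib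

variable {A : Type u} [CommRing A] {X : Scheme.{u}} [X.Over (Spec (CommRingCat.of A))]

lemma tensorBi_map_smul_id (M T : X.Modules) (a : A) :
    ((DCoh.tensorBi (X := X)).map (a • 𝟙 M)).app T = a • 𝟙 (((DCoh.tensorBi (X := X)).obj M).obj T) := by
  rw [KLin.smul_id, KLin.smul_id]
  exact SheafHomX.ten_map_smulMod T M a

/-- Scalars on the first factor are scalars on the total complex. -/
lemma tensorCx_map_smul_id (L K : CochainComplex X.Modules ℤ) (a : A) :
    ((DCoh.tensorCx (X := X)).map (a • 𝟙 L)).app K = a • 𝟙 (((DCoh.tensorCx (X := X)).obj L).obj K) := by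
  ext n : 1
  refine HomologicalComplex.mapBifunctor.hom_ext (fun p q h => ?_)
  refine (HomologicalComplex.ι_mapBifunctorMap (a • 𝟙 L) (𝟙 K) (DCoh.tensorBi (X := X))
    (ComplexShape.up ℤ) p q n h).trans ?_
  rw [HomologicalComplex.id_f, CategoryTheory.Functor.map_id, Category.id_comp,
    HomologicalComplex.smul_f_apply, HomologicalComplex.smul_f_apply, HomologicalComplex.id_f,
    HomologicalComplex.id_f, tensorBi_map_smul_id, Linear.smul_comp, Category.id_comp,
    Linear.comp_smul]
  exact congrArg (a • ·) (Category.comp_id _).symm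

/-- `- ⊗^L P` is linear. -/
lemma linear_LTensorCx (P : CochainComplex X.Modules ℤ) (hP : DCoh.IsKFlat P) [DCoh.HasLTensorCx P] :
    Functor.Linear A (DCoh.LTensorCx P) := by
  let c := (DCoh.tensorCxQ P).totalLeftDerivedCounit DerivedCategory.Q (qisX X)
  haveI := fun N => isIso_LTensorCx_counit_of_isKFlat_right P hP N
  rw [Functor.linear_iff]
  intro Z a
  let N := DerivedCategory.Q.objPreimage Z
  let e : DerivedCategory.Q.obj N ≅ Z := DerivedCategory.Q.objObjPreimageIso Z
  have h0 : (DCoh.LTensorCx P).map (a • 𝟙 (DerivedCategory.Q.obj N)) =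
      a • 𝟙 ((DCoh.LTensorCx P).obj (DerivedCategory.Q.obj N)) := by
    rw [← cancel_mono (c.app N)]
    refine Eq.trans ?_ ((Linear.smul_comp _ _ _ _ _ _).trans (congrArg (a • ·) (Category.id_comp _))).symm
    have hn : (DCoh.LTensorCx P).map (DerivedCategory.Q.map (a • 𝟙 N)) ≫ c.app N =
        c.app N ≫ DerivedCategory.Q.map (((DCoh.tensorCx (X := X)).map (a • 𝟙 N)).app P) :=
      c.naturality (a • 𝟙 N)
    rw [DerivedCategory.Q.map_smul, DerivedCategory.Q.map_id, tensorCx_map_smul_id,
      DerivedCategory.Q.map_smul, Linear.comp_smul] at hn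
    exact hn.trans (congrArg (a • ·) ((congrArg (c.app N ≫ ·)
      (DerivedCategory.Q.map_id _)).trans (Category.comp_id _)))
  have hconj : a • 𝟙 Z = e.inv ≫ (a • 𝟙 _) ≫ e.hom := by simp
  rw [hconj, Functor.map_comp, Functor.map_comp, h0]
  simp [← Functor.map_comp]

lemma linear_rightAdjoint {C D : Type*} [Category C] [Category D] [Preadditive C] [Preadditive D]
    [Linear A C] [Linear A D] {F : C ⥤ D} {G : D ⥤ C} (adj : F ⊣ G) [Functor.Linear A F] :
    Functor.Linear A G :=
  ⟨fun f r => (adj.homEquiv _ _).symm.injective (by simp [Adjunction.homEquiv_counit])⟩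

section Finite

variable [IsNoetherianRing A]

/-- Finiteness propagates along triangles in the target. -/
lemma finite_hom_obj₂ {E : DCoh.D X} {T : Triangle (DCoh.D X)} (hT : T ∈ distTriang (DCoh.D X))
    (h₁ : Module.Finite A (E ⟶ T.obj₁)) (h₃ : Module.Finite A (E ⟶ T.obj₃)) :
    Module.Finite A (E ⟶ T.obj₂) := by
  refine Module.Finite.of_exact (f := Linear.rightComp A E T.mor₁)
    (g := (Linear.rightComp A E T.mor₂).rangeRestrict) (fun φ => ⟨fun h => ?_, ?_⟩)
    (LinearMap.surjective_rangeRestrict _)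
  · obtain ⟨g, rfl⟩ := Triangle.coyoneda_exact₂ T hT φ (congrArg Subtype.val h)
    exact ⟨g, rfl⟩
  · rintro ⟨g, rfl⟩
    ext1
    change (g ≫ T.mor₁) ≫ T.mor₂ = 0
    rw [Category.assoc, comp_distTriang_mor_zero₁₂ T hT, comp_zero]

lemma finite_hom_of_iso {E E' L L' : DCoh.D X} (e : E ≅ E') (e' : L ≅ L')
    (h : Module.Finite A (E ⟶ L)) : Module.Finite A (E' ⟶ L') :=
  Module.Finite.equiv (Linear.homCongr A e e')

variable [IsProper (X ↘ Spec (CommRingCat.of A))]

/-- `Hom(O[0], M[n])` is finite for coherent `M`. -/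
lemma finite_hom_structure_single (M : X.Modules) (hM : Coh.IsCoh M) (n : ℤ) :
    Module.Finite A (DCoh.inD X (Coh.structureModule X) ⟶ (DCoh.inD X M)⟦n⟧) := by
  haveI : IsLocallyNoetherian X := LocallyOfFiniteType.isLocallyNoetherian (X ↘ Spec (CommRingCat.of A))
  rcases lt_or_ge n 0 with hn | hn
  · haveI : ((DCoh.inD X M)⟦n⟧).IsGE (-n) :=
      DerivedCategory.TStructure.t.isGE_shift (DCoh.inD X M) 0 n (-n) (by omega)
    haveI : Subsingleton (DCoh.inD X (Coh.structureModule X) ⟶ (DCoh.inD X M)⟦n⟧) :=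
      subsingleton_of_forall_eq 0 fun φ => DerivedCategory.TStructure.t.zero φ 0 (-n) (by omega)
    infer_instance
  · obtain ⟨m, rfl⟩ := Int.eq_ofNat_of_zero_le hn
    haveI : HasExt.{u} X.Modules := IsGrothendieckAbelian.hasExt _
    have hO : FlatMod.IsFinLocFree (Coh.structureModule X) :=
      H23.PullPush.isFinLocFree_of_isInvertible InvX.isInvertible_structureModule
    obtain ⟨e⟩ := PnDual.nonempty_ext_linearEquiv_HH (A := A) hO M m
    haveI : Module.Finite A (Coh.HH X ((SheafHomX.hom (Coh.structureModule X)).obj M) m) :=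
      S0002.result A X _ (SheafHomX.isCoh_hom QCoh.isCoh_structureModule' hM) m
    haveI : Module.Finite A (Abelian.Ext.{u} (Coh.structureModule X) M m) := Module.Finite.equiv e.symm
    exact Module.Finite.equiv
      ({ Abelian.Ext.homAddEquiv with
         map_smul' := fun r x => Abelian.Ext.smul_hom x r } :
        Abelian.Ext.{u} (Coh.structureModule X) M m ≃ₗ[A]
          ShiftedHom ((DerivedCategory.singleFunctor X.Modules 0).obj (Coh.structureModule X))
            ((DerivedCategory.singleFunctor X.Modules 0).obj M) (m : ℤ))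

omit [X.Over (Spec (CommRingCat.of A))] [IsNoetherianRing A] [IsProper (X ↘ Spec (CommRingCat.of A))] in
lemma devissage_amplitude (P : DCoh.D X → Prop) (hiso : ∀ L L', (L ≅ L') → P L → P L')
    (h₂ : ∀ T : Triangle (DCoh.D X), T ∈ distTriang (DCoh.D X) → P T.obj₁ → P T.obj₃ → P T.obj₂)
    (d : ℕ) : ∀ (L : DCoh.D X) (a : ℤ) [L.IsGE a] [L.IsLE (a + d)],
    (∀ i, a ≤ i → i ≤ a + d → ∀ N : X.Modules, (DCoh.HD L i ≅ N) →
      P ((DerivedCategory.singleFunctor X.Modules i).obj N)) → P L := by
  induction d with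
  | zero =>
    intro L a _ _ h
    haveI : L.IsLE a := DerivedCategory.TStructure.t.isLE_of_le L (a + (0 : ℕ)) a (by simp)
    obtain ⟨N, ⟨e⟩⟩ := DerivedCategory.exists_iso_singleFunctor_obj_of_isGE_of_isLE L a
    exact hiso _ _ e.symm (h a le_rfl (by simp) N ((DerivedCategory.homologyFunctor X.Modules a).mapIso e ≪≫
      (DerivedCategory.singleFunctorCompHomologyFunctorIso X.Modules a).app N))
  | succ d ih =>
    intro L a _ _ h
    let b := a + (d + 1 : ℕ)
    let t := DerivedCategory.TStructure.t (C := X.Modules)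
    let T := (t.triangleLTGE b).obj L
    have hT : T ∈ distTriang (DCoh.D X) := t.triangleLTGE_distinguished b L
    haveI : DerivedCategory.IsLE T.obj₁ (b - 1) :=
      inferInstanceAs (t.IsLE ((t.truncLT b).obj L) (b - 1))
    haveI : T.obj₁.IsLE (a + d) := t.isLE_of_le _ (b - 1) _ (by simp only [b]; push_cast; omega)
    haveI : T.obj₁.IsGE a := KFlatLib.isGE_truncLT L a b
    haveI : DerivedCategory.IsGE T.obj₃ b := inferInstanceAs (t.IsGE ((t.truncGE b).obj L) b)
    have h₁ : ∀ j, b ≤ j → IsZero (DCoh.HD T.obj₁ j) := fun j hj =>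
      DerivedCategory.isZero_of_isLE _ (b - 1) j (by omega)
    have hm : ∀ j, b ≤ j → IsIso ((DerivedCategory.homologyFunctor X.Modules j).map T.mor₂) := fun j hj => by
      haveI : Mono ((DerivedCategory.homologyFunctor X.Modules j).map T.mor₂) :=
        (DerivedCategory.HomologySequence.mono_homologyMap_mor₂_iff T hT j).2
          ((h₁ j hj).eq_of_src _ _)
      haveI : Epi ((DerivedCategory.homologyFunctor X.Modules j).map T.mor₂) :=
        (DerivedCategory.HomologySequence.epi_homologyMap_mor₂_iff T hT j (j + 1) rfl).2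
          ((h₁ (j + 1) (by omega)).eq_of_tgt _ _)
      exact isIso_of_mono_of_epi ((DerivedCategory.homologyFunctor X.Modules j).map T.mor₂)
    haveI : T.obj₃.IsLE b := (DerivedCategory.isLE_iff _ _).2 fun j hj => by
      haveI := hm j hj.le
      exact (DerivedCategory.isZero_of_isLE L b j hj).of_iso
        (asIso ((DerivedCategory.homologyFunctor X.Modules j).map T.mor₂)).symm
    refine h₂ T hT (ih T.obj₁ a fun i hi hi' N eN => ?_) ?_
    · have hib : i < b := by simp only [b]; push_cast; omega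
      haveI := KFlatLib.isIso_homology_truncLTι L b i hib
      exact h i hi (by simp only [b] at hib; omega) N ((asIso ((DerivedCategory.homologyFunctor X.Modules i).map
          ((t.truncLTι b).app L))).symm ≪≫ eN)
    · obtain ⟨N, ⟨e⟩⟩ := DerivedCategory.exists_iso_singleFunctor_obj_of_isGE_of_isLE T.obj₃ b
      haveI := hm b le_rfl
      exact hiso _ _ e.symm (h b (by simp only [b]; push_cast; omega) le_rfl N
        (asIso ((DerivedCategory.homologyFunctor X.Modules b).map T.mor₂) ≪≫
          (DerivedCategory.homologyFunctor X.Modules b).mapIso e ≪≫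
          (DerivedCategory.singleFunctorCompHomologyFunctorIso X.Modules b).app N))

/-- `Hom(O[0], L)` is finite for `L` bounded with coherent cohomology. -/
lemma finite_hom_structure (L : DCoh.D X) (a b : ℤ) [L.IsGE a] [L.IsLE b] (hc : DCoh.IsCohD L) :
    Module.Finite A (DCoh.inD X (Coh.structureModule X) ⟶ L) := by
  haveI : IsLocallyNoetherian X := LocallyOfFiniteType.isLocallyNoetherian (X ↘ Spec (CommRingCat.of A))
  haveI : L.IsLE (a + (b - a).toNat) := DerivedCategory.TStructure.t.isLE_of_le L b _ (by omega)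
  refine devissage_amplitude (fun L => Module.Finite A (DCoh.inD X (Coh.structureModule X) ⟶ L))
    (fun _ _ e h => finite_hom_of_iso (Iso.refl _) e h) (fun T hT h₁ h₃ => finite_hom_obj₂ hT h₁ h₃)
    ((b - a).toNat) L a fun i _ _ N eN => ?_
  exact finite_hom_of_iso (Iso.refl _)
    (((DerivedCategory.singleFunctors X.Modules).shiftIso (-i) i 0 (by omega)).app N)
    (finite_hom_structure_single N (isCoh_of_iso eN (hc i)) (-i))

include A in
/-- `Hom(O[0], M[n]) = 0` above the cohomological bound. -/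
lemma subsingleton_hom_structure_single (M : X.Modules) (m : ℕ)
    (h : Subsingleton (Coh.HH X ((SheafHomX.hom (Coh.structureModule X)).obj M) m)) :
    Subsingleton (DCoh.inD X (Coh.structureModule X) ⟶ (DCoh.inD X M)⟦(m : ℤ)⟧) := by
  haveI : HasExt.{u} X.Modules := IsGrothendieckAbelian.hasExt _
  have hO : FlatMod.IsFinLocFree (Coh.structureModule X) :=
    H23.PullPush.isFinLocFree_of_isInvertible InvX.isInvertible_structureModule
  obtain ⟨e⟩ := PnDual.nonempty_ext_linearEquiv_HH (A := A) hO M m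
  haveI : Subsingleton (Abelian.Ext.{u} (Coh.structureModule X) M m) := e.toEquiv.subsingleton
  exact (Abelian.Ext.homAddEquiv (X := Coh.structureModule X) (Y := M) (n := m)).symm.toEquiv.subsingleton

omit [IsNoetherianRing A] [IsProper (X ↘ Spec (CommRingCat.of A))] [X.Over (Spec (CommRingCat.of A))] in
lemma subsingleton_hom_obj₂ {E : DCoh.D X} {T : Triangle (DCoh.D X)} (hT : T ∈ distTriang (DCoh.D X))
    (h₁ : Subsingleton (E ⟶ T.obj₁)) (h₃ : Subsingleton (E ⟶ T.obj₃)) : Subsingleton (E ⟶ T.obj₂) := by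
  refine subsingleton_of_forall_eq 0 fun φ => ?_
  obtain ⟨g, rfl⟩ := Triangle.coyoneda_exact₂ T hT φ (h₃.elim _ _)
  rw [h₁.elim g 0, zero_comp]

/-- `Hom(E, L[n])` is finite, and nonzero for only finitely many `n`, for perfect `E`. -/
theorem finite_hom_perfect (E : DCoh.D X) (hE : DCoh.IsPerfect E) (L : DCoh.D X) (hL : SGA6.cohbP X L) :
    (∀ n : ℤ, Module.Finite A (E ⟶ L⟦n⟧)) ∧
      Set.Finite {n : ℤ | Nontrivial (E ⟶ L⟦n⟧)} := by
  haveI : IsLocallyNoetherian X := LocallyOfFiniteType.isLocallyNoetherian (X ↘ Spec (CommRingCat.of A))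
  haveI : CompactSpace X := QuasiCompact.compactSpace_of_compactSpace (X ↘ Spec (CommRingCat.of A))
  haveI : IsNoetherian X := {}
  haveI : X.IsSeparated :=
    ⟨by rw [← terminal.comp_from (X ↘ Spec (CommRingCat.of A))]; infer_instance⟩
  obtain ⟨hLc, a, b, ha, hb⟩ := hL
  let K₀ := DerivedCategory.Q.objPreimage E
  let K := (kRes X).obj K₀
  haveI := (flatCover X).quasiIso_ψ K₀
  haveI := isIso_Q_map ((flatCover X).ψ.app K₀) ((flatCover X).quasiIso_ψ K₀)
  let eK : DerivedCategory.Q.obj K ≅ E :=
    asIso (DerivedCategory.Q.map ((flatCover X).ψ.app K₀)) ≪≫ DerivedCategory.Q.objObjPreimageIso E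
  have hKp : DCoh.IsPerfect (DCoh.toD X K) :=
    (isPerfect_iff _).2 (((isPerfect_iff _).1 hE).of_iso eK.symm)
  obtain ⟨hKc, c, e, hc, he⟩ := S1006.result X _ hKp
  have hKf : DCoh.IsKFlat K := isKFlat_kRes K₀
  haveI := hasLTensorCx K
  haveI := hasRSheafHom K
  haveI := linear_LTensorCx (A := A) K hKf
  haveI := linear_rightAdjoint (A := A) (DCoh.RSheafHomAdj K)
  haveI := fun N => isIso_LTensorCx_counit_of_isKFlat_right K hKf N
  let S := (HomologicalComplex.single X.Modules (ComplexShape.up ℤ) 0).obj (Coh.structureModule X)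
  obtain ⟨er⟩ := nonempty_tensorUnitIso K
  let el : (DCoh.LTensorCx K).obj (DCoh.inD X (Coh.structureModule X)) ≅ E :=
    (DCoh.LTensorCx K).mapIso ((DerivedCategory.singleFunctorIsoCompQ X.Modules 0).app _) ≪≫
      asIso (((DCoh.tensorCxQ K).totalLeftDerivedCounit DerivedCategory.Q (qisX X)).app S) ≪≫
      DerivedCategory.Q.mapIso ((symmIso (tensorBiFlipIso X) K).app S ≪≫ er) ≪≫ eK
  let adj := DCoh.RSheafHomAdj K
  haveI : (DCoh.LTensorCx K).Additive := by
    haveI : HasBinaryBiproducts (DCoh.D X) := HasBinaryBiproducts.of_hasBinaryProducts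
    haveI := adj.leftAdjoint_preservesColimits.{0, 0}
    haveI := preservesBinaryBiproducts_of_preservesBinaryCoproducts (DCoh.LTensorCx K)
    exact Functor.additive_of_preservesBinaryBiproducts _
  haveI : (DCoh.RSheafHom K).Additive := adj.right_adjoint_additive
  let R : ℤ → DCoh.D X := fun n => (DCoh.RSheafHom K).obj (L⟦n⟧)
  haveI hGE : ∀ n, (L⟦n⟧).IsGE (a - n) := fun n =>
    DerivedCategory.TStructure.t.isGE_shift L a n (a - n) (by omega)
  haveI hLE : ∀ n, (L⟦n⟧).IsLE (b - n) := fun n =>
    DerivedCategory.TStructure.t.isLE_shift L b n (b - n) (by omega)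
  have hR : ∀ n, DCoh.IsCohD (R n) ∧ ∃ a' : ℤ, (R n).IsGE a' := fun n =>
    S1116.result X K e hKc (L⟦n⟧) (a - n) (isCohD_shift hLc n)
  obtain ⟨cb, hcb⟩ := exists_bound_iHom K hKp
  haveI hRb : ∀ n, (R n).IsLE (b - n + cb) := fun n => by
    obtain ⟨I, hI, hinj, ⟨eI⟩⟩ := exists_kInjective_rep (L⟦n⟧)
    obtain ⟨eR⟩ := nonempty_RSheafHom_iso K I
    refine (DerivedCategory.isLE_iff _ _).2 fun i hi => ?_
    refine ((hcb I (b - n) (fun j hj => ?_) i hi).of_iso
      ((DerivedCategory.homologyFunctorFactors _ i).app _)).of_iso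
        ((DerivedCategory.homologyFunctor _ i).mapIso ((DCoh.RSheafHom K).mapIso eI ≪≫ eR))
    exact ((DerivedCategory.isZero_of_isLE (L⟦n⟧) (b - n) j hj).of_iso
      ((DerivedCategory.homologyFunctor _ j).mapIso eI).symm).of_iso
        ((DerivedCategory.homologyFunctorFactors _ j).app I).symm
  let Φ : ∀ n, (DCoh.inD X (Coh.structureModule X) ⟶ R n) ≃ₗ[A] (E ⟶ L⟦n⟧) := fun n =>
    ({ (adj.homEquiv (DCoh.inD X (Coh.structureModule X)) (L⟦n⟧)) with
        map_add' := fun f g => by simp [Adjunction.homEquiv_unit]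
        map_smul' := fun r f => by simp [Adjunction.homEquiv_unit] } :
      ((DCoh.LTensorCx K).obj (DCoh.inD X (Coh.structureModule X)) ⟶ L⟦n⟧) ≃ₗ[A]
        (DCoh.inD X (Coh.structureModule X) ⟶ R n)).symm.trans (Linear.homCongr A el (Iso.refl _))
  refine ⟨fun n => ?_, ?_⟩
  · obtain ⟨hRc, a', _⟩ := hR n
    haveI := finite_hom_structure (A := A) (R n) a' (b - n + cb) hRc
    exact Module.Finite.equiv (Φ n)
  obtain ⟨d, hd⟩ := QCoh.exists_HH_bound (X := X)
  refine (Set.finite_Icc (a - e) (b + cb + d)).subset fun n hn => ?_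
  by_contra hout
  refine not_nontrivial_iff_subsingleton.2 ?_ hn
  rcases not_and_or.1 hout with hlo | hhi
  · haveI : E.IsLE e := DerivedCategory.TStructure.t.isLE_of_iso eK e
    exact subsingleton_of_forall_eq 0 fun φ => DerivedCategory.TStructure.t.zero φ e (a - n) (by omega)
  · haveI : Subsingleton (DCoh.inD X (Coh.structureModule X) ⟶ R n) := by
      obtain ⟨hRc, a', _⟩ := hR n
      haveI : (R n).IsLE (a' + (b - n + cb - a').toNat) :=
        DerivedCategory.TStructure.t.isLE_of_le _ (b - n + cb) _ (by omega)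
      refine devissage_amplitude (fun L => Subsingleton (DCoh.inD X (Coh.structureModule X) ⟶ L))
        (fun _ _ e' h => (Iso.homCongr (Iso.refl _) e').symm.subsingleton)
        (fun T hT h₁ h₃ => subsingleton_hom_obj₂ hT h₁ h₃)
        ((b - n + cb - a').toNat) (R n) a' fun i hi _ N eN => ?_
      by_cases hib : b - n + cb < i
      · have hN : IsZero N := (DerivedCategory.isZero_of_isLE (R n) (b - n + cb) i hib).of_iso eN.symm
        exact ⟨fun f g => ((DerivedCategory.singleFunctor X.Modules i).map_isZero hN).eq_of_tgt f g⟩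
      obtain ⟨m, hm⟩ := Int.eq_ofNat_of_zero_le (show (0 : ℤ) ≤ -i by omega)
      haveI := subsingleton_hom_structure_single (A := A) N m
        (hd _ (SheafHomX.isCoh_hom QCoh.isCoh_structureModule' (isCoh_of_iso eN (hRc i))).1 m (by omega))
      rw [← hm] at this
      exact @Equiv.subsingleton _ _ (Iso.homCongr (Iso.refl _)
        (((DerivedCategory.singleFunctors X.Modules).shiftIso (-i) i 0 (by omega)).app N)).symm this
    exact (Φ n).symm.toEquiv.subsingleton

end Finite

end Groth.Agent.DEqT
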