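import Groth.Agent.DEqT.Heart
import Mathlib.CategoryTheory.Triangulated.Subcategory
import Mathlib.CategoryTheory.Localization.CalculusOfFractions
import Mathlib.CategoryTheory.Triangulated.Functor

/-!
# The t-structure induced on a Verdier quotient
-/

set_option linter.style.haveILetI false
set_option backward.defeqAttrib.useBackward true
set_option backward.isDefEq.respectTransparency false

universe v u v' u'

open CategoryTheory CategoryTheory.Limits CategoryTheory.Pretriangulated CategoryTheory.Triangulated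

namespace Groth.Agent.DEqT

variable {C : Type u} [Category.{v} C] [Preadditive C] [HasZeroObject C] [HasShift C ℤ]
  [∀ n : ℤ, (shiftFunctor C n).Additive] [Pretriangulated C] [IsTriangulated C]
  (t : TStructure C) (D : ObjectProperty C) [D.IsTriangulated] [D.IsClosedUnderIsomorphisms]

lemma prop_truncGE (hb : ∀ X : C, t.bounded X)
    (h1 : ∀ X : C, D X → ∀ n : ℤ, D ((t.truncGELE n n).obj X)) {X : C} (hX : D X) (n : ℤ) :
    D ((t.truncGE n).obj X) := by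
  obtain ⟨-, b, hb'⟩ := hb X
  suffices h : ∀ (k : ℕ) (m : ℤ), b + 1 ≤ m + k → D ((t.truncGE m).obj X) from
    h (b + 1 - n).toNat n (by omega)
  intro k
  induction k with
  | zero =>
    intro m hm
    haveI := t.isLE_of_le X b (m - 1) (by omega)
    exact D.prop_of_isZero (t.isZero_truncGE_obj_of_isLE (m - 1) m (by lia) X)
  | succ k ih =>
    intro m hm
    refine D.ext_of_isTriangulatedClosed₂ _
      (t.triangleLEGE_distinguished m (m + 1) rfl ((t.truncGE m).obj X)) ?_ ?_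
    · exact D.prop_of_iso ((t.truncGELEIsoLEGE m m).app X) (h1 X hX m)
    · haveI := t.isIso_truncGE_map_truncGEπ_app (m + 1) m (by lia) X
      exact D.prop_of_iso (asIso ((t.truncGE (m + 1)).map ((t.truncGEπ m).app X)))
        (ih (m + 1) (by omega))

lemma epi_h0_of_isLE {H : Type u} [Category.{v} H] [Abelian H] [t.Heart H] (H0 : C ⥤ H)
    (e : H0 ⋙ t.ιHeart ≅ t.truncGE 0 ⋙ t.truncLE 0) (T : Triangle C) (hT : T ∈ distTriang C)
    (hQ : t.IsLE T.obj₃ (-1)) : Epi (H0.map T.mor₂ : _ ⟶ _) ∧ Epi (H0.map T.mor₁) := by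
  haveI := isHomological_of_iso t H0 e
  have h0 : IsZero (H0.obj T.obj₃) := by
    refine IsZero.of_full_of_faithful_of_isZero t.ιHeart _ (IsZero.of_iso ?_ (e.app T.obj₃))
    exact Functor.map_isZero (t.truncLE 0)
      (t.isZero_truncGE_obj_of_isLE (-1) 0 (by lia) T.obj₃)
  refine ⟨⟨fun _ _ _ => h0.eq_of_src _ _⟩, ?_⟩
  exact (H0.map_distinguished_exact T hT).epi_f (h0.eq_of_tgt _ _)

lemma prop_truncGE_of_triangle (hb : ∀ X : C, t.bounded X)
    (h1 : ∀ X : C, D X → ∀ n : ℤ, D ((t.truncGELE n n).obj X))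
    (h2 : ∀ (X Y Z : C) (f : X ⟶ Y) (g : Y ⟶ Z) (h : Z ⟶ X⟦(1 : ℤ)⟧),
      Triangle.mk f g h ∈ distTriang C → t.heart X → t.heart Y → t.heart Z → D Y → D X ∧ D Z)
    {H : Type u} [Category.{v} H] [Abelian H] [t.Heart H] (H0 : C ⥤ H)
    (e : H0 ⋙ t.ιHeart ≅ t.truncGE 0 ⋙ t.truncLE 0)
    (T : Triangle C) (hT : T ∈ distTriang C) (hM : D T.obj₁) (hQ : t.IsLE T.obj₃ (-1)) :
    D ((t.truncGE 0).obj T.obj₂) := by
  have hs : t.IsLE (T.obj₃⟦(-1 : ℤ)⟧) 0 := t.isLE_shift _ (-1) (-1) 0 (by lia)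
  have := t.isIso₂_truncGE_map_of_isLE _ (inv_rot_of_distTriang _ hT) 0 1 (by lia) hs
  dsimp at this
  have hpos : D ((t.truncGE 1).obj T.obj₂) :=
    D.prop_of_iso (asIso ((t.truncGE 1).map T.mor₁)) (prop_truncGE t D hb h1 hM 1)
  haveI : Epi (H0.map T.mor₁) := (epi_h0_of_isLE t H0 e T hT hQ).2
  obtain ⟨w, hw⟩ := (shortExact_iff_exists_triangle t (kernel.ι (H0.map T.mor₁))
    (H0.map T.mor₁)).1 ⟨kernel.condition _,
      { exact := ShortComplex.exact_of_f_is_kernel _ (kernelIsKernel _) }⟩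
  have hG : D (t.ιHeart.obj (H0.obj T.obj₂)) :=
    (h2 _ _ _ _ _ w hw (t.ιHeart_obj_mem _) (t.ιHeart_obj_mem _) (t.ιHeart_obj_mem _)
      (D.prop_of_iso ((t.truncGELEIsoLEGE 0 0).app T.obj₁ ≪≫ (e.app T.obj₁).symm)
        (h1 _ hM 0))).2
  refine D.ext_of_isTriangulatedClosed₂ _
    (t.triangleLEGE_distinguished 0 1 (by lia) ((t.truncGE 0).obj T.obj₂)) ?_ ?_
  · exact D.prop_of_iso (e.app T.obj₂) hG
  · haveI := t.isIso_truncGE_map_truncGEπ_app 1 0 (by lia) T.obj₂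
    exact D.prop_of_iso (asIso ((t.truncGE 1).map ((t.truncGEπ 0).app T.obj₂))) hpos

lemma trW_truncLEι (hb : ∀ X : C, t.bounded X)
    (h1 : ∀ X : C, D X → ∀ n : ℤ, D ((t.truncGELE n n).obj X))
    (h2 : ∀ (X Y Z : C) (f : X ⟶ Y) (g : Y ⟶ Z) (h : Z ⟶ X⟦(1 : ℤ)⟧),
      Triangle.mk f g h ∈ distTriang C → t.heart X → t.heart Y → t.heart Z → D Y → D X ∧ D Z)
    {X' X : C} (s : X' ⟶ X) (hs : D.trW s) [t.IsLE X 0] :
    D.trW ((t.truncLEι 0).app X') := by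
  letI : Abelian t.heart.FullSubcategory :=
    letI := t.hasHeartFullSubcategory
    haveI := hasFiniteProducts_heart t (H := t.heart.FullSubcategory)
    AbelianSubcategory.abelian (t.ιHeart (H := t.heart.FullSubcategory)) (heart_hom_shift_neg t)
      (admissibleMorphism_heart_eq_top t)
  letI : t.Heart t.heart.FullSubcategory := t.hasHeartFullSubcategory
  let H0 : C ⥤ t.heart.FullSubcategory := t.heart.lift (t.truncGE 0 ⋙ t.truncLE 0)
    (fun Y => (t.mem_heart_iff _).2 ⟨by dsimp; infer_instance, by dsimp; infer_instance⟩)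
  let e : H0 ⋙ t.ιHeart ≅ t.truncGE 0 ⋙ t.truncLE 0 := Iso.refl _
  obtain ⟨N, g, h, hT, hN⟩ := hs
  have hXs : t.IsLE (X⟦(1 : ℤ)⟧) (-1) := t.isLE_shift X 0 1 (-1) (by lia)
  have hV := prop_truncGE_of_triangle t D hb h1 h2 H0 e _
    (rot_of_distTriang _ (rot_of_distTriang _ hT)) hN (by dsimp; exact hXs)
  dsimp at hV
  let T₁ := (CategoryTheory.shiftFunctor (Triangle C) (1 : ℤ)).obj
    ((t.triangleLEGE 0 1 (by lia)).obj X')
  have hT₁ : T₁ ∈ distTriang C :=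
    Triangle.shift_distinguished _ (t.triangleLEGE_distinguished 0 1 (by lia) X') 1
  have hle : t.IsLE T₁.obj₁ (-1) := t.isLE_shift ((t.truncLE 0).obj X') 0 1 (-1) (by lia)
  have hge : t.IsGE T₁.obj₃ 0 := t.isGE_shift ((t.truncGE 1).obj X') 1 1 0 (by lia)
  obtain ⟨f, -⟩ := t.triangle_iso_exists hT₁
    (t.triangleLTGE_distinguished 0 (X'⟦(1 : ℤ)⟧)) (Iso.refl _) (-1) 0 hle hge
    (t.isLE_truncLT_obj _ 0 (-1) (by lia)) (by dsimp; infer_instance)
  refine ObjectProperty.trW.mk (P := D)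
    (T := (t.triangleLEGE 0 1 (by lia)).obj X') (t.triangleLEGE_distinguished 0 1 (by lia) X')
    ((D.prop_shift_iff_of_isStableUnderShift ((t.truncGE 1).obj X') (1 : ℤ)).1
      (D.prop_of_iso (Triangle.π₃.mapIso f).symm hV))

variable {E : Type u'} [Category.{v'} E] [Preadditive E] [HasZeroObject E] [HasShift E ℤ]
  [∀ n : ℤ, (shiftFunctor E n).Additive] [Pretriangulated E]
  (q : C ⥤ E) [q.CommShift ℤ] [q.IsTriangulated] [q.IsLocalization D.trW]

lemma tStructure_le_ge_ext {t₁ t₂ : TStructure E} (hle : t₁.le = t₂.le) (hge : t₁.ge = t₂.ge) :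
    t₁ = t₂ := by
  cases t₁; cases t₂; cases hle; cases hge; rfl

theorem existsUnique_localization_tStructure (hb : ∀ X : C, t.bounded X)
    (h1 : ∀ X : C, D X → ∀ n : ℤ, D ((t.truncGELE n n).obj X))
    (h2 : ∀ (X Y Z : C) (f : X ⟶ Y) (g : Y ⟶ Z) (h : Z ⟶ X⟦(1 : ℤ)⟧),
      Triangle.mk f g h ∈ distTriang C → t.heart X → t.heart Y → t.heart Z → D Y → D X ∧ D Z) :
    ∃ t' : TStructure E,
      (∀ (X : C) (n : ℤ), t.IsLE X n → t'.IsLE (q.obj X) n) ∧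
      (∀ (X : C) (n : ℤ), t.IsGE X n → t'.IsGE (q.obj X) n) ∧
      (∀ (Y : E) (n : ℤ), t'.IsLE Y n ↔ ∃ X : C, t.IsLE X n ∧ Nonempty (q.obj X ≅ Y)) ∧
      (∀ (Y : E) (n : ℤ), t'.IsGE Y n ↔ ∃ X : C, t.IsGE X n ∧ Nonempty (q.obj X ≅ Y)) ∧
      ∀ t'' : TStructure E,
        (∀ (X : C) (n : ℤ), t.IsLE X n → t''.IsLE (q.obj X) n) →
        (∀ (X : C) (n : ℤ), t.IsGE X n → t''.IsGE (q.obj X) n) → t'' = t' := by
  haveI := Localization.essSurj q D.trW
  let t' : TStructure E :=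
    { le := fun n Y => ∃ X : C, t.IsLE X n ∧ Nonempty (q.obj X ≅ Y)
      ge := fun n Y => ∃ X : C, t.IsGE X n ∧ Nonempty (q.obj X ≅ Y)
      le_isClosedUnderIsomorphisms := fun n =>
        ⟨fun e ⟨X, hX, ⟨i⟩⟩ => ⟨X, hX, ⟨i ≪≫ e⟩⟩⟩
      ge_isClosedUnderIsomorphisms := fun n =>
        ⟨fun e ⟨X, hX, ⟨i⟩⟩ => ⟨X, hX, ⟨i ≪≫ e⟩⟩⟩
      le_shift := fun n a n' h Y ⟨X, hX, ⟨i⟩⟩ =>
        ⟨X⟦a⟧, t.isLE_shift X n a n' h, ⟨(q.commShiftIso a).app X ≪≫ (shiftFunctor E a).mapIso i⟩⟩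
      ge_shift := fun n a n' h Y ⟨X, hX, ⟨i⟩⟩ =>
        ⟨X⟦a⟧, t.isGE_shift X n a n' h, ⟨(q.commShiftIso a).app X ≪≫ (shiftFunctor E a).mapIso i⟩⟩
      le_zero_le := fun Y ⟨X, hX, hi⟩ => ⟨X, t.isLE_of_le X 0 1 (by lia), hi⟩
      ge_one_le := fun Y ⟨X, hX, hi⟩ => ⟨X, t.isGE_of_ge X 0 1 (by lia), hi⟩
      zero' := by
        rintro Y₁ Y₂ f ⟨X, hX, ⟨i⟩⟩ ⟨Y, hY, ⟨j⟩⟩
        obtain ⟨φ, hφ⟩ := Localization.exists_rightFraction q D.trW (i.hom ≫ f ≫ j.inv)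
        haveI := Localization.inverts q D.trW φ.s φ.hs
        haveI := Localization.inverts q D.trW _ (trW_truncLEι t D hb h1 h2 φ.s φ.hs)
        have h0 : (t.truncLEι 0).app φ.X' ≫ φ.f = 0 :=
          t.zero_of_isLE_of_isGE _ 0 1 (by lia) inferInstance hY
        have hf0 : q.map φ.f = 0 := by
          rw [← cancel_epi (q.map ((t.truncLEι 0).app φ.X')), ← Functor.map_comp, h0,
            q.map_zero, comp_zero]
        have : i.hom ≫ f ≫ j.inv = 0 := by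
          rw [hφ, ← cancel_epi (q.map φ.s),
            MorphismProperty.RightFraction.map_s_comp_map, hf0, comp_zero]
        rw [← cancel_epi i.hom, ← cancel_mono j.inv, Category.assoc, this, comp_zero, zero_comp]
      exists_triangle_zero_one := fun A => by
        let X := q.objPreimage A
        let T := q.mapTriangle.obj ((t.triangleLEGE 0 1 (by lia)).obj X)
        have hT : T ∈ distTriang E :=
          q.map_distinguished _ (t.triangleLEGE_distinguished 0 1 (by lia) X)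
        refine ⟨_, _, ⟨(t.truncLE 0).obj X, inferInstance, ⟨Iso.refl _⟩⟩,
          ⟨(t.truncGE 1).obj X, inferInstance, ⟨Iso.refl _⟩⟩,
          T.mor₁ ≫ (q.objObjPreimageIso A).hom, (q.objObjPreimageIso A).inv ≫ T.mor₂,
          T.mor₃, isomorphic_distinguished _ hT _ ?_⟩
        exact Triangle.isoMk _ _ (Iso.refl _) (q.objObjPreimageIso A).symm (Iso.refl _)
          (by dsimp [T, X]; simp) (by dsimp [T, X]; simp) (by dsimp [T, X]; simp) }
  have hle : ∀ (Y : E) (n : ℤ), t'.IsLE Y n ↔ ∃ X : C, t.IsLE X n ∧ Nonempty (q.obj X ≅ Y) :=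
    fun Y n => ⟨fun h => h.le, fun h => ⟨h⟩⟩
  have hge : ∀ (Y : E) (n : ℤ), t'.IsGE Y n ↔ ∃ X : C, t.IsGE X n ∧ Nonempty (q.obj X ≅ Y) :=
    fun Y n => ⟨fun h => h.ge, fun h => ⟨h⟩⟩
  refine ⟨t', fun X n h => (hle _ _).2 ⟨X, h, ⟨Iso.refl _⟩⟩,
    fun X n h => (hge _ _).2 ⟨X, h, ⟨Iso.refl _⟩⟩, hle, hge, fun t'' hl hg => ?_⟩
  have hl' : ∀ (Y : E) (n : ℤ), t'.IsLE Y n → t''.IsLE Y n := fun Y n h => by
    obtain ⟨X, hX, ⟨i⟩⟩ := (hle Y n).1 h
    haveI := hl X n hX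
    exact t''.isLE_of_iso i n
  have hg' : ∀ (Y : E) (n : ℤ), t'.IsGE Y n → t''.IsGE Y n := fun Y n h => by
    obtain ⟨X, hX, ⟨i⟩⟩ := (hge Y n).1 h
    haveI := hg X n hX
    exact t''.isGE_of_iso i n
  apply tStructure_le_ge_ext
  · funext n Y
    refine propext ⟨fun h => ?_, fun h => (hl' Y n ⟨h⟩).le⟩
    haveI : t''.IsLE Y n := ⟨h⟩
    exact ((t'.isLE_iff_orthogonal n (n + 1) rfl Y).2 fun Z f hZ =>
      t''.zero_of_isLE_of_isGE f n (n + 1) (by lia) inferInstance (hg' Z (n + 1) hZ)).le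
  · funext n Y
    refine propext ⟨fun h => ?_, fun h => (hg' Y n ⟨h⟩).ge⟩
    haveI : t''.IsGE Y n := ⟨h⟩
    exact ((t'.isGE_iff_orthogonal (n - 1) n (by lia) Y).2 fun Z f hZ =>
      t''.zero_of_isLE_of_isGE f (n - 1) n (by lia) (hl' Z (n - 1) hZ) inferInstance).ge

end Groth.Agent.DEqT
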