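import Groth.Agent.DEqT.SuppFun
import Groth.Agent.KFlatLib.Scheme.AffineConservative
import Groth.Agent.KFlatLib.Scheme.InnerHom
import Groth.Agent.KFlatLib.Scheme.RpushUnbounded
import Groth.Agent.QCoh.VanIdeal

/-!
# Pullbacks of objects pushed forward from an open
-/

set_option linter.style.haveILetI false
set_option linter.unusedSectionVars false
set_option backward.isDefEq.respectTransparency false

universe u

open CategoryTheory CategoryTheory.Limits AlgebraicGeometry TopologicalSpace Pretriangulated Opposite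

attribute [local instance] HasDerivedCategory.standard

namespace Groth.Agent.DEqT

open Groth.Agent.KFlatLib Groth.Agent.Perf52

variable {X Y : Scheme.{u}}

theorem hasRgammaZ {U : Scheme.{u}} (j : U ⟶ X) [IsOpenImmersion j] : CxOX.HasRgammaZ j := by
  haveI := TriCat.qh_isLeftAdjoint_of_exists_resolution (A := X.Modules) exists_kInjective_res
  let adjQ := Adjunction.ofIsLeftAdjoint (DerivedCategory.Qh (C := X.Modules))
  let W := HomotopyCategory.quasiIso X.Modules (ComplexShape.up ℤ)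
  have hd := TriCat.isRightDerivedFunctor_of_adjunction adjQ W (CxOX.gammaZKh j)
  exact Functor.HasRightDerivedFunctor.mk' (L := DerivedCategory.Qh)
    (DerivedCategory.Qh.rightAdjoint ⋙ CxOX.gammaZKh j)
    (Functor.whiskerRight adjQ.unit (CxOX.gammaZKh j)) (W := W)

theorem OrthSupp.mono {U V : Scheme.{u}} (j : U ⟶ X) [IsOpenImmersion j] (k : V ⟶ X) [IsOpenImmersion k]
    (h : Set.range j.base ⊆ Set.range k.base) {B : DCoh.D X} (hB : OrthSupp j B) : OrthSupp k B :=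
  fun A hA φ => hB A (isSuppD_mono j k h hA) φ

/-- `Rf_*` preserves orthogonality to supported objects. -/
theorem orthSupp_rpush_map (f : X ⟶ Y) [DCoh.HasRpush f] (U : Y.Opens) {P : DCoh.D X}
    (hP : OrthSupp (f ⁻¹ᵁ U).ι P) : OrthSupp U.ι ((DCoh.Rpush f).obj P) := fun A hA φ => by
  haveI := hasLpull f
  obtain ⟨adj⟩ := nonempty_lpull_rpush_adj f
  exact (adj.homEquiv A P).symm.injective
    ((hP _ (isSuppD_lpull f U A hA) _).trans (hP _ (isSuppD_lpull f U A hA) _).symm)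

/-- `O ⊗^L E ≅ E`. -/
theorem nonempty_ltensor_structure (E : CochainComplex X.Modules ℤ) [DCoh.HasLTensorCx E] :
    Nonempty ((DCoh.LTensorCx E).obj (DCoh.inD X (Coh.structureModule X)) ≅ DCoh.toD X E) := by
  let S := (HomologicalComplex.single X.Modules (ComplexShape.up ℤ) 0).obj (Coh.structureModule X)
  haveI : CochainComplex.IsStrictlyLE S 0 := (CochainComplex.isStrictlyLE_iff _ 0).2
    fun j hj => HomologicalComplex.isZero_single_obj_X (ComplexShape.up ℤ) 0 _ j (by omega)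
  have hS : DCoh.IsKFlat S := isKFlat_of_isStrictlyLE S 0 (isFlat_single 0 isFlat_structureModule)
  obtain ⟨er⟩ := nonempty_tensorUnitIso E
  exact ⟨(DCoh.LTensorCx E).mapIso ((DerivedCategory.singleFunctorIsoCompQ X.Modules 0).app _) ≪≫
    ltensorCxIso E hS ≪≫ DerivedCategory.Q.mapIso ((symmIso (tensorBiFlipIso X) E).app S ≪≫ er)⟩

/-- Symmetry of `⊗^L`. -/
theorem nonempty_ltensor_symm (K R : CochainComplex X.Modules ℤ) (hK : DCoh.IsKFlat K)
    (hR : DCoh.IsKFlat R) [DCoh.HasLTensorCx K] [DCoh.HasLTensorCx R] :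
    Nonempty ((DCoh.LTensorCx K).obj (DCoh.toD X R) ≅ (DCoh.LTensorCx R).obj (DCoh.toD X K)) :=
  ⟨ltensorCxIso K hR ≪≫ DerivedCategory.Q.mapIso ((symmIso (tensorBiFlipIso X) K).app R) ≪≫
    (ltensorCxIso R hK).symm⟩

/-- The derived pullback along an open immersion is restriction. -/
theorem nonempty_lpull_openImmersion (j : X ⟶ Y) [IsOpenImmersion j] [DCoh.HasLpull j] (E : DCoh.D Y) :
    Nonempty ((DCoh.Lpull j).obj E ≅ (rho j).obj E) :=
  ⟨(lpullRepIso j E).symm ≪≫ DerivedCategory.Q.mapIso ((restrictPullCxIso j).app (repK E)).symm ≪≫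
    ((rhoQ j).app _).symm ≪≫ (rho j).mapIso (repKIso E)⟩

theorem isQCohD_rho {U : Scheme.{u}} (j : U ⟶ X) [IsOpenImmersion j] {E : DCoh.D X}
    (hE : DCoh.IsQCohD E) : DCoh.IsQCohD ((rho j).obj E) := fun i =>
  isQCoh_of_iso ((mapDCHomologyIso (Scheme.Modules.restrictFunctor j) i).app E).symm
    (QCoh.isQCoh_restrict j (hE i))

theorem isQCohD_inD (M : X.Modules) (hM : Coh.IsQCoh M) : DCoh.IsQCohD (DCoh.inD X M) := fun i => by
  rcases lt_trichotomy i 0 with hi | rfl | hi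
  · exact isQCoh_of_isZero (DerivedCategory.isZero_of_isGE _ 0 i hi)
  · exact isQCoh_of_iso ((DerivedCategory.singleFunctorCompHomologyFunctorIso X.Modules 0).app M).symm hM
  · exact isQCoh_of_isZero (DerivedCategory.isZero_of_isLE _ 0 i hi)

/-- Affine base change, in the form of orthogonality. -/
theorem orthSupp_lpull_affine (g : X ⟶ Y) [IsAffineHom g] [DCoh.HasLpull g] {U₀ : Scheme.{u}}
    (j : U₀ ⟶ Y) [IsOpenImmersion j] [QuasiCompact j] [DCoh.HasRpush j] (M : DCoh.D U₀)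
    (hM : DCoh.IsQCohD M) :
    OrthSupp (g ⁻¹ᵁ j.opensRange).ι ((DCoh.Lpull g).obj ((DCoh.Rpush j).obj M)) := by
  haveI : HasInjectiveResolutions U₀.Modules := hasInjectiveResolutions_modules
  haveI := hasRpush_scheme g
  haveI : HasInjectiveResolutions X.Modules := hasInjectiveResolutions_modules
  let U := j.opensRange
  haveI : QuasiCompact U.ι := by
    haveI : QuasiCompact (j.isoOpensRange.inv ≫ j) := inferInstance
    rwa [j.isoOpensRange_inv_comp] at this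
  let V := g ⁻¹ᵁ U
  haveI : QuasiCompact V.ι := MorphismProperty.of_isPullback (P := @QuasiCompact)
    (isPullback_morphismRestrict g U) ‹_›
  haveI := hasRgammaZ V.ι
  haveI := hasRpush_scheme V.ι
  haveI : HasInjectiveResolutions (V : Scheme.{u}).Modules := hasInjectiveResolutions_modules
  let E := (DCoh.Rpush j).obj M
  have hE : DCoh.IsQCohD E := isQCohD_rpush j hM
  have hL : DCoh.IsQCohD ((DCoh.Lpull g).obj E) := isQCohD_lpull g hE
  obtain ⟨P, q, h, hT, hP, hs, he⟩ := exists_rgammaZ_triangle V.ι ((DCoh.Lpull g).obj E)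
  obtain ⟨eP⟩ := he
  have hPq : DCoh.IsQCohD P := isQCohD_of_iso eP.symm (isQCohD_rpush V.ι (isQCohD_rho V.ι hL))
  have hRq : DCoh.IsQCohD ((CxOX.RgammaZ V.ι).obj ((DCoh.Lpull g).obj E)) :=
    isQCohD_obj₃ (inv_rot_of_distTriang _ (inv_rot_of_distTriang _ hT))
      (isQCohD_shift hL (-1)) (isQCohD_shift hPq (-1))
  refine (isZero_rgammaZ_iff V.ι _).1 (isZero_of_rpush_isZero g hRq ?_)
  obtain ⟨c, hc⟩ := exists_rpush_triangle g _ hT
  have h3 : OrthSupp U.ι ((DCoh.Rpush g).obj P) := orthSupp_rpush_map g U hP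
  have h2 : OrthSupp U.ι ((DCoh.Rpush g).obj ((DCoh.Lpull g).obj E)) := by
    let O := DCoh.inD X (Coh.structureModule X)
    have hO : DCoh.IsQCohD O := isQCohD_inD _ QCoh.isQCoh_structureModule
    let K := repK E
    have hK : DCoh.IsKFlat K := isKFlat_repK E
    let R := repK ((DCoh.Rpush g).obj O)
    have hR : DCoh.IsKFlat R := isKFlat_repK _
    haveI := hasLTensorCx K
    haveI := hasLTensorCx R
    let M₁ := DerivedCategory.Q.objPreimage ((DCoh.Lpull g).obj (DCoh.toD Y K))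
    haveI := hasLTensorCx M₁
    let eM : DCoh.toD X M₁ ≅ (DCoh.Lpull g).obj (DCoh.toD Y K) := DerivedCategory.Q.objObjPreimageIso _
    obtain ⟨p1⟩ := nonempty_projection_DQCoh g O hO K (isQCohD_of_iso (repKIso E).symm hE) M₁ ⟨eM⟩
    obtain ⟨u1⟩ := nonempty_ltensor_structure M₁
    obtain ⟨s1⟩ := nonempty_ltensor_symm K R hK hR
    haveI := hasLpull j
    let N₁ := DerivedCategory.Q.objPreimage ((DCoh.Lpull j).obj (DCoh.toD Y R))
    haveI := hasLTensorCx N₁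
    have hRq' : DCoh.IsQCohD (DCoh.toD Y R) := isQCohD_of_iso (repKIso _).symm (isQCohD_rpush g hO)
    obtain ⟨p2⟩ := nonempty_projection_DQCoh j M hM R hRq' N₁ ⟨DerivedCategory.Q.objObjPreimageIso _⟩
    refine OrthSupp.of_iso U.ι ?_ (OrthSupp.mono j U.ι (fun x hx => by rwa [Scheme.Opens.range_ι])
      (orthSupp_rpush j ((DCoh.LTensorCx N₁).obj M)))
    exact p2.symm ≪≫ (DCoh.LTensorCx R).mapIso (repKIso E).symm ≪≫ s1.symm ≪≫
      (DCoh.LTensorCx K).mapIso (repKIso ((DCoh.Rpush g).obj O)) ≪≫ p1 ≪≫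
      (DCoh.Rpush g).mapIso (u1 ≪≫ eM ≪≫ (DCoh.Lpull g).mapIso (repKIso E))
  have h1 : OrthSupp U.ι ((DCoh.Rpush g).obj ((CxOX.RgammaZ V.ι).obj ((DCoh.Lpull g).obj E))) :=
    fun A hA φ => by
      refine (bijective_comp_of_orth U.ι hc h3 hA).1 ?_
      show φ ≫ _ = 0 ≫ _
      rw [zero_comp]
      exact h2 A hA _
  exact eq_zero_of_isSuppD_of_orth U.ι (isSuppD_rpush g U _ hs) h1

/-- Base change for a quasi-compact open immersion, in the form of orthogonality. -/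
theorem orthSupp_lpull (f : X ⟶ Y) [DCoh.HasLpull f] (U : Y.Opens) [QuasiCompact U.ι]
    [DCoh.HasRpush U.ι] (M : DCoh.D (U : Scheme.{u})) (hM : DCoh.IsQCohD M) :
    OrthSupp (f ⁻¹ᵁ U).ι ((DCoh.Lpull f).obj ((DCoh.Rpush U.ι).obj M)) := by
  haveI := hasRgammaZ (f ⁻¹ᵁ U).ι
  haveI := hasRpush_scheme (f ⁻¹ᵁ U).ι
  let E := (DCoh.Rpush U.ι).obj M
  obtain ⟨P, q, h, hT, hP, hs, he⟩ := exists_rgammaZ_triangle (f ⁻¹ᵁ U).ι ((DCoh.Lpull f).obj E)
  obtain ⟨eP⟩ := he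
  refine (isZero_rgammaZ_iff _ _).1 (isZero_of_z0 fun x => ?_)
  obtain ⟨_, ⟨(W : Y.Opens), hW, rfl⟩, hxW, -⟩ :=
    Y.isBasis_affineOpens.exists_subset_of_mem_open (Set.mem_univ (f.base x)) isOpen_univ
  obtain ⟨_, ⟨(X' : X.Opens), hX', rfl⟩, hxX, hle⟩ :=
    X.isBasis_affineOpens.exists_subset_of_mem_open (a := x) (u := ((f ⁻¹ᵁ W : X.Opens) : Set X))
      hxW (f ⁻¹ᵁ W).isOpen
  have hle' : X' ≤ f ⁻¹ᵁ W := hle
  haveI : IsAffine (X' : Scheme.{u}) := hX'
  haveI : IsAffine (W : Scheme.{u}) := hW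
  let g := f.resLE W X' hle'
  have hg : g ≫ W.ι = X'.ι ≫ f := Scheme.Hom.resLE_comp_ι f hle'
  haveI : IsAffineHom g := inferInstance
  haveI := hasLpull g
  haveI := hasLpull X'.ι
  haveI := hasLpull W.ι
  haveI := hasLpull (g ≫ W.ι)
  haveI := hasLpull (X'.ι ≫ f)
  haveI := hasRpush_scheme (U.ι ∣_ W)
  haveI : QuasiCompact (U.ι ∣_ W) := MorphismProperty.of_isPullback (P := @QuasiCompact)
    (isPullback_morphismRestrict U.ι W).flip ‹_›
  obtain ⟨c1⟩ := nonempty_lpull_comp X'.ι f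
  obtain ⟨c2⟩ := nonempty_lpull_comp g W.ι
  obtain ⟨r1⟩ := nonempty_lpull_openImmersion X'.ι ((DCoh.Lpull f).obj E)
  obtain ⟨r2⟩ := nonempty_lpull_openImmersion W.ι E
  obtain ⟨er⟩ := nonempty_rpush_restrictD_iso U.ι W
  let M' := (DCoh.restrictD (U.ι ⁻¹ᵁ W).ι).obj M
  have hsup := isQCohD_rho (U.ι ⁻¹ᵁ W).ι hM
  have hmid : OrthSupp (g ⁻¹ᵁ (U.ι ∣_ W).opensRange).ι ((rho X'.ι).obj ((DCoh.Lpull f).obj E)) := by
    refine OrthSupp.of_iso _ ?_ (orthSupp_lpull_affine g (U.ι ∣_ W) M' hsup)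
    exact (DCoh.Lpull g).mapIso ((er.app M).symm ≪≫ r2.symm) ≪≫ c2.app E ≪≫
      eqToIso (by simp only [hg]) ≪≫ (c1.app E).symm ≪≫ r1
  have hcoe : ∀ v : (X' : Scheme.{u}),
      v ∈ g ⁻¹ᵁ (U.ι ∣_ W).opensRange ↔ X'.ι.base v ∈ f ⁻¹ᵁ U := fun v => by
    show g.base v ∈ Set.range (U.ι ∣_ W).base ↔ f.base (X'.ι.base v) ∈ (U : Set Y)
    have : f.base (X'.ι.base v) = W.ι.base (g.base v) := by
      rw [← Scheme.Hom.comp_apply, ← Scheme.Hom.comp_apply, hg]
    rw [this]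
    constructor
    · rintro ⟨z, hz⟩
      rw [← hz, ← Scheme.Hom.comp_apply, morphismRestrict_ι, Scheme.Hom.comp_apply]
      exact ((U.ι ⁻¹ᵁ W).ι.base z).2
    · intro hu
      refine ⟨⟨⟨W.ι.base (g.base v), hu⟩, (g.base v).2⟩, ?_⟩
      apply W.ι.isOpenEmbedding.injective
      rw [← Scheme.Hom.comp_apply, morphismRestrict_ι, Scheme.Hom.comp_apply]
      rfl
  have hR : IsZero ((rho X'.ι).obj ((CxOX.RgammaZ (f ⁻¹ᵁ U).ι).obj ((DCoh.Lpull f).obj E))) := by
    haveI := hasRpush_scheme ((f ⁻¹ᵁ U).ι ∣_ X')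
    obtain ⟨ep⟩ := nonempty_rpush_restrictD_iso (f ⁻¹ᵁ U).ι X'
    let k := (g ⁻¹ᵁ (U.ι ∣_ W).opensRange).ι
    have h3 : OrthSupp k ((rho X'.ι).obj P) := by
      refine OrthSupp.mono ((f ⁻¹ᵁ U).ι ∣_ X') k ?_
        (OrthSupp.of_iso _ ((ep.app _).symm ≪≫ (rho X'.ι).mapIso eP.symm) (orthSupp_rpush _ _))
      rintro _ ⟨z, rfl⟩
      rw [Scheme.Opens.range_ι]
      refine (hcoe _).2 ?_
      rw [← Scheme.Hom.comp_apply, morphismRestrict_ι, Scheme.Hom.comp_apply]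
      exact (((f ⁻¹ᵁ U).ι ⁻¹ᵁ X').ι.base z).2
    have h1 : CxOX.IsSuppD k
        ((rho X'.ι).obj ((CxOX.RgammaZ (f ⁻¹ᵁ U).ι).obj ((DCoh.Lpull f).obj E))) :=
      (isSuppD_iff_z0 _ _).2 fun v => (z0_rho_iff X'.ι _ _).2
        ((isSuppD_iff_z0 _ _).1 hs ⟨X'.ι.base v.1, (hcoe v.1).1 v.2⟩)
    refine eq_zero_of_isSuppD_of_orth k h1 fun A hA φ => ?_
    refine (bijective_comp_of_orth k ((rho X'.ι).map_distinguished _ hT) h3 hA).1 ?_
    show φ ≫ _ = 0 ≫ _
    rw [zero_comp]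
    exact hmid A hA _
  exact (isZero_rho_obj_iff X'.ι _).1 hR ⟨x, hxX⟩

/-- `Lf^*` is exact, in the form needed for homological functors. -/
lemma isHomological_lpull_comp (f : X ⟶ Y) [DCoh.HasLpull f] {A : Type*} [Category A] [Abelian A]
    (H : DCoh.D X ⥤ A) [H.IsHomological] : (DCoh.Lpull f ⋙ H).IsHomological := by
  haveI := hasRpush_scheme f
  obtain ⟨adj⟩ := nonempty_lpull_rpush_adj f
  haveI : (DCoh.Lpull f).PreservesZeroMorphisms := Functor.preservesZeroMorphisms_of_map_zero_object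
    ((isZero_leftAdjoint_obj adj (isZero_zero _)).iso (isZero_zero _))
  let G := pullCx f
  let c := lpullComparison f
  refine isHomological_of_split _ DCoh.IsKFlat (kRes Y) (flatCover Y).ψ
    (fun K => (flatCover Y).quasiIso_ψ K) isKFlat_kRes
    (fun φ hK hL => kFlat_cone (T := DCoh.tensorBi) φ hK hL)
    (fun K hK => KFlat.shift (T := DCoh.tensorBi) hK 1) fun S hS h₁ h₂ h₃ => ?_
  haveI := isIso_lpullComparison f h₁
  haveI := isIso_lpullComparison f h₂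
  haveI := isIso_lpullComparison f h₃
  let e : (S.map DerivedCategory.Q).map (DCoh.Lpull f) ≅ (S.map G).map DerivedCategory.Q :=
    ShortComplex.isoMk (asIso (c.app S.X₁)) (asIso (c.app S.X₂))
      (asIso (c.app S.X₃)) (c.naturality S.f).symm (c.naturality S.g).symm
  refine ShortComplex.exact_of_iso (H.mapShortComplex.mapIso e).symm ?_
  have hse : (S.map G).ShortExact :=
    HomologicalComplex.shortExact_of_degreewise_shortExact _ fun n =>
      ((hS n).some.map (Scheme.Modules.pullback f)).shortExact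
  exact H.map_distinguished_exact _ (DerivedCategory.triangleOfSES_distinguished hse)

/-- The comparison `Lf^* RΓ ≅ RΓ Lf^*`. -/
theorem lpull_rgammaZ (f : X ⟶ Y) [DCoh.HasLpull f] (U : Y.Opens) [QuasiCompact U.ι]
    [CxOX.HasRgammaZ U.ι] [CxOX.HasRgammaZ (f ⁻¹ᵁ U).ι] (K : DCoh.D Y) (hK : DCoh.IsQCohD K) :
    let m := (DCoh.Lpull f).map ((CxOX.RgammaZToId U.ι).app K)
    (∃ β : (DCoh.Lpull f).obj ((CxOX.RgammaZ U.ι).obj K) ⟶
        (CxOX.RgammaZ (f ⁻¹ᵁ U).ι).obj ((DCoh.Lpull f).obj K),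
      β ≫ (CxOX.RgammaZToId (f ⁻¹ᵁ U).ι).app _ = m) ∧
    ∀ β : (DCoh.Lpull f).obj ((CxOX.RgammaZ U.ι).obj K) ⟶
        (CxOX.RgammaZ (f ⁻¹ᵁ U).ι).obj ((DCoh.Lpull f).obj K),
      β ≫ (CxOX.RgammaZToId (f ⁻¹ᵁ U).ι).app _ = m → IsIso β := by
  intro m
  haveI := hasRpush_scheme U.ι
  obtain ⟨P, g, h, hT, -, hs, he⟩ := exists_rgammaZ_triangle U.ι K
  obtain ⟨eP⟩ := he
  have hPo : ∀ n : ℤ, OrthSupp (f ⁻¹ᵁ U).ι ((DCoh.Lpull f).obj (P⟦n⟧)) := fun n => by
    obtain ⟨es⟩ := nonempty_rpush_shift U.ι ((rho U.ι).obj K) n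
    exact OrthSupp.of_iso _
      ((DCoh.Lpull f).mapIso (es ≪≫ ((shiftFunctor (DCoh.D Y) n).mapIso eP).symm))
      (orthSupp_lpull f U _ (isQCohD_shift (isQCohD_rho U.ι hK) n))
  refine rgammaZ_recognize' _ m (isSuppD_lpull f U _ hs) fun A hA => ?_
  let H := preadditiveCoyoneda.obj (Opposite.op A)
  haveI := isHomological_lpull_comp f H
  constructor
  · intro a b hab
    refine sub_eq_zero.1 ?_
    have hab' : (a - b) ≫ m = 0 := by rw [Preadditive.sub_comp, sub_eq_zero]; exact hab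
    obtain ⟨c, hc⟩ := (ShortComplex.ab_exact_iff _).1
      ((DCoh.Lpull f ⋙ H).map_distinguished_exact _ (inv_rot_of_distTriang _ hT)) (a - b) hab'
    rw [← hc, show c = 0 from hPo (-1) A hA c]
    exact map_zero _
  · intro ψ
    have hP0 : OrthSupp (f ⁻¹ᵁ U).ι ((DCoh.Lpull f).obj P) :=
      (hPo 0).of_iso _ ((DCoh.Lpull f).mapIso ((shiftFunctorZero (DCoh.D Y) ℤ).app P))
    exact (ShortComplex.ab_exact_iff _).1 ((DCoh.Lpull f ⋙ H).map_distinguished_exact _ hT) ψ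
      (hP0 A hA _)

end Groth.Agent.DEqT
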