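import Groth.Agent.DEqT.TwistComap
import Groth.Agent.KRRLib.CM.ProjGen
import Groth.Agent.PnCoh.Chow.Proper

/-!
# Twist data on projective space
-/

set_option linter.style.haveILetI false
set_option linter.unusedSectionVars false
set_option backward.isDefEq.respectTransparency false

universe u

open CategoryTheory CategoryTheory.Limits AlgebraicGeometry TopologicalSpace Opposite

attribute [local instance] HasDerivedCategory.standard

namespace Groth.Agent.DEqT.Proj

open Groth.Agent.PnCoh Groth.Agent.PnCoh.Finite Groth.Agent.KRRLib.CM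

/-- The negative twists and coordinates on projective space. -/
noncomputable def pnData (n : ℕ) (R : Type u) [CommRing R] :
    TwistData (CohB1.ProjSpace n R) (ULift.{u} (Fin (n + 1))) :=
  projData (f := coords n R) coords_mem coords_cover

theorem pnData_T (n : ℕ) (R : Type u) [CommRing R] (d : ℕ) :
    (pnData n R).T d = Twist.twistProjSpace n R (-(d : ℤ)) := rfl

theorem pnData_affine (n : ℕ) (R : Type u) [CommRing R] (i : ULift.{u} (Fin (n + 1))) :
    IsAffineOpen ((pnData n R).U i) :=
  isAffineOpen_D (f := coords n R) coords_mem i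

theorem card_index (n : ℕ) : Fintype.card (ULift.{u} (Fin (n + 1))) = n + 1 := by simp

theorem affine_inter_of_separated {X : Scheme.{u}} {R : CommRingCat.{u}} (f : X ⟶ Spec R) [IsSeparated f]
    (U V : X.Opens) (hU : IsAffineOpen U) (hV : IsAffineOpen V) : IsAffineOpen (U ⊓ V) :=
  (isAffineHom_diagonal_iff (f := f)).mp inferInstance ⊤ (isAffineOpen_top _) U (by simp) V (by simp) hU hV

variable {P : Scheme.{u}} {κ : Type u} (S : TwistData P κ) (K : DCoh.D P)

/-- Maps out of the single complexes are maps out of the objects `inD`. -/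
theorem eq_zero_of_forall_inD (j : ℤ) (d : ℕ)
    (h : ∀ φ : (DCoh.inD P (S.T d))⟦-j⟧ ⟶ K, φ = 0) (φ : S.sys.H K j d) : φ = 0 := by
  refine (shiftFunctor (DCoh.D P) (-j)).map_injective ?_
  rw [Functor.map_zero, ← cancel_mono ((shiftFunctorCompIsoId (DCoh.D P) j (-j) (by omega)).app K).hom,
    ← cancel_epi ((shiftFunctor (DCoh.D P) (-j)).mapIso
      ((DerivedCategory.singleFunctorIsoCompQ P.Modules 0).app (S.T d))).hom]
  exact (h _).trans (h _).symm

end Groth.Agent.DEqT.Proj
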