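import Groth.Agent.DEqT.PointHom
import Groth.Agent.KFlatLib.Scheme.TildeD
import Groth.Agent.KFlatLib.Perfect.Betti
import Groth.Agent.KFlatLib.Scheme.RGammaPush
import Mathlib.Algebra.Homology.DerivedCategory.KInjective

/-!
# Maps to single injectives, and modules on the spectrum of a field
-/

set_option linter.style.haveILetI false
set_option linter.unusedSectionVars false
set_option backward.isDefEq.respectTransparency false

universe w v u

open CategoryTheory CategoryTheory.Limits AlgebraicGeometry

attribute [local instance] HasDerivedCategory.standard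

namespace Groth.Agent.DEqT

open Groth.Agent.KFlatLib

section General

variable {C : Type u} [Category.{v} C] [Abelian C]

/-- A map to a single injective which vanishes on homology is zero in the derived category. -/
theorem Q_map_eq_zero_of_homologyMap {K : CochainComplex C ℤ} {M : C} [Injective M] (s : ℤ)
    (g : K ⟶ (HomologicalComplex.single C (ComplexShape.up ℤ) s).obj M)
    (hg : HomologicalComplex.homologyMap g s = 0) :
    DerivedCategory.Q.map g = 0 := by
  let c := ComplexShape.up ℤ
  let S := (HomologicalComplex.single C c s).obj M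
  haveI : Mono (S.homologyπ s) := by
    refine (S.homologyIsCokernel (s - 1) s (by simp [c])) |> fun hc => ?_
    haveI : IsIso (S.homologyπ s) := S.isIso_homologyπ (s - 1) s (by simp [c]) (by simp [S])
    infer_instance
  have h0 : HomologicalComplex.cyclesMap g s = 0 := by
    rw [← cancel_mono (S.homologyπ s), zero_comp]
    exact ((HomologicalComplex.homologyπ_naturality g s).symm.trans (by rw [hg, comp_zero]))
  have h1 : kernel.ι (K.d s (s + 1)) ≫ g.f s = 0 := by
    have e := HomologicalComplex.cyclesMap_i g s
    rw [h0, zero_comp] at e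
    rw [← K.liftCycles_i (kernel.ι (K.d s (s + 1))) (s + 1) (by simp [c]) (kernel.condition _),
      Category.assoc, ← e, comp_zero]
  let η : K.X (s + 1) ⟶ S.X s :=
    haveI : Injective (S.X s) := Injective.of_iso (HomologicalComplex.singleObjXSelf c s M).symm inferInstance
    Injective.factorThru (cokernel.desc (kernel.ι (K.d s (s + 1))) (g.f s) h1)
      (Abelian.factorThruCoimage (K.d s (s + 1)))
  have hη : K.d s (s + 1) ≫ η = g.f s := by
    conv_lhs => rw [← Abelian.coimage.fac (K.d s (s + 1))]
    rw [Category.assoc, Injective.comp_factorThru]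
    exact cokernel.π_desc _ _ _
  let h : ∀ i j, c.Rel j i → (K.X i ⟶ S.X j) := fun i j _ =>
    if e : i = s + 1 ∧ j = s then (K.XIsoOfEq e.1).hom ≫ η ≫ (S.XIsoOfEq e.2).inv else 0
  rw [← DerivedCategory.Q.map_zero]
  refine DerivedCategory.Q_map_eq_of_homotopy _ (Homotopy.trans (Homotopy.ofEq ?_) (Homotopy.nullHomotopy' h))
  apply HomologicalComplex.to_single_hom_ext
  rw [Homotopy.nullHomotopicMap'_f (show c.Rel (s - 1) s by simp [c]) (show c.Rel s (s + 1) from rfl),
    HomologicalComplex.single_obj_d, comp_zero, add_zero]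
  simp [h, HomologicalComplex.XIsoOfEq_rfl, hη]


end General

section Point

variable {T : Scheme.{u}} [Subsingleton T] (z : T) (hF : IsField (T.presheaf.stalk z))

include hF in
theorem injective_of_point (M : T.Modules) : Injective M := by
  haveI := isIso_skyAdj_unit z M
  refine Injective.of_iso (asIso ((skyAdj z).unit.app M)).symm ?_
  haveI : (DerSch.stalkFunctor T z).PreservesHomology :=
    Functor.preservesHomology_of_map_exact _ fun S hS => (exact_iff_stalk S).1 hS z
  haveI : (DerSch.stalkFunctor T z).PreservesMonomorphisms := inferInstance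
  refine (skyAdj z).map_injective _ ⟨fun {A B} g f hf => ?_⟩
  letI := hF.toField
  obtain ⟨r, hr⟩ := LinearMap.exists_leftInverse_of_injective f.hom
    (LinearMap.ker_eq_bot.2 ((ModuleCat.mono_iff_injective f).1 hf))
  exact ⟨ModuleCat.ofHom r ≫ g, by
    rw [← Category.assoc]
    have : f ≫ ModuleCat.ofHom r = 𝟙 A := ModuleCat.hom_ext hr
    rw [this, Category.id_comp]⟩

theorem eq_zero_of_stalk_point {M N : T.Modules} (f : M ⟶ N)
    (h : (DerSch.stalkFunctor T z).map f = 0) : f = 0 := by
  haveI := isIso_skyAdj_unit z N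
  rw [← cancel_mono ((skyAdj z).unit.app N), zero_comp]
  refine ((skyAdj z).unit.naturality f).trans ?_
  simp [h]

include hF in
theorem isIso_of_ne_zero_point (φ : Coh.structureModule T ⟶ Coh.structureModule T) (hφ : φ ≠ 0) :
    IsIso φ := by
  refine isIso_of_stalk _ fun y => ?_
  rw [Subsingleton.elim y z]
  let e := stalkUnitEquiv (X := T) z
  let f := ((DerSch.stalkFunctor T z).map φ).hom
  obtain ⟨m, hm⟩ : ∃ m, f m ≠ 0 := by
    by_contra h
    push Not at h
    exact hφ (eq_zero_of_stalk_point z φ (ModuleCat.hom_ext (LinearMap.ext h)))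
  letI := hF.toField
  refine (ConcreteCategory.isIso_iff_bijective _).2 ?_
  have hfin : ∀ v w : (DerSch.stalkFunctor T z).obj (Coh.structureModule T),
      v ≠ 0 → ∃ a : T.presheaf.stalk z, a • v = w := fun v w hv =>
    ⟨e.symm w * (e.symm v)⁻¹, e.symm.injective (by
      rw [map_smul, smul_eq_mul, mul_assoc, inv_mul_cancel₀ (by simpa using hv), mul_one])⟩
  refine ⟨(injective_iff_map_eq_zero f).2 fun v hv => ?_, fun w => ?_⟩
  · by_contra hv0
    obtain ⟨a, ha⟩ := hfin v m hv0
    exact hm (by rw [← ha, map_smul, hv, smul_zero])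
  · obtain ⟨a, ha⟩ := hfin (f m) w hm
    exact ⟨a • m, (map_smul f a m).trans ha⟩

include hF in
theorem exists_section_of_ne_zero_point {M : T.Modules} (f : M ⟶ Coh.structureModule T) (hf : f ≠ 0) :
    ∃ y : Coh.structureModule T ⟶ M, y ≫ f = 𝟙 _ := by
  letI : Unique T := { default := z, uniq := fun a => Subsingleton.elim a z }
  obtain ⟨y, hy⟩ : ∃ y : Coh.structureModule T ⟶ M, y ≫ f ≠ 0 := by
    by_contra h
    push Not at h
    refine hf (Scheme.Modules.hom_ext _ _ fun U => ?_)
    by_cases hz : z ∈ U
    · obtain rfl : U = ⊤ := KFlatLib.opens_eq_top z hz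
      ext t
      obtain ⟨y, rfl⟩ := (topEquiv M).surjective t
      exact (topEquiv_naturality y f).symm.trans ((congrArg (topEquiv _) (h y)).trans (topEquiv_zero _))
    · ext t
      exact QCoh.eq_zero_of_locally U _ fun x hx => absurd ((Subsingleton.elim x z) ▸ hx) hz
  haveI := isIso_of_ne_zero_point z hF _ hy
  exact ⟨inv (y ≫ f) ≫ y, by rw [Category.assoc, IsIso.inv_hom_id]⟩

end Point

end Groth.Agent.DEqT
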