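import Groth.Agent.DEqT.PointExt
import Groth.Agent.DEqT.PointField
import Groth.Agent.DEqT.FibreVanish
import Groth.Agent.DEqT.LpullOrth
import Groth.Agent.KFlatLib.Scheme.BidualPerfect
import Groth.Agent.AssLib.FlatField

/-!
# Vanishing of maps from the point sheaf
-/

set_option linter.style.haveILetI false
set_option linter.unusedSectionVars false
set_option backward.isDefEq.respectTransparency false

universe u

open CategoryTheory CategoryTheory.Limits AlgebraicGeometry TopologicalSpace Opposite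

attribute [local instance] HasDerivedCategory.standard

namespace Groth.Agent.DEqT

open Groth.Agent.KFlatLib

variable {X : Scheme.{u}}

/-- The stalk of the spectrum of a field is a field. -/
theorem isField_stalk_spec (k : Type u) [Field k] (z : Spec (CommRingCat.of k)) :
    IsField ((Spec (CommRingCat.of k)).presheaf.stalk z) :=
  ⟨⟨0, 1, zero_ne_one⟩, mul_comm, fun {a} ha =>
    isUnit_iff_exists_inv.1 ((FlatDvr.eq_zero_or_isUnit_stalk_field k _ a).resolve_left ha)⟩

set_option maxHeartbeats 800000 in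
/-- On a point with field stalk a nonzero map to a shift of `O` is a split epimorphism. -/
theorem exists_section_shift {T : Scheme.{u}} [Subsingleton T] (z : T)
    (hF : IsField (T.presheaf.stalk z)) (C : DCoh.D T) (j : ℤ)
    (ψ : C ⟶ (DCoh.inD T (Coh.structureModule T))⟦j⟧) (hψ : ψ ≠ 0) :
    ∃ v : (DCoh.inD T (Coh.structureModule T))⟦j⟧ ⟶ C, v ≫ ψ = 𝟙 _ := by
  let c := ComplexShape.up ℤ
  let O := Coh.structureModule T
  let s : ℤ := -j
  let S := (HomologicalComplex.single T.Modules c s).obj O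
  haveI : Injective O := injective_of_point z hF O
  haveI : CochainComplex.IsStrictlyGE S s := (CochainComplex.isStrictlyGE_iff _ s).2
    fun i hi => HomologicalComplex.isZero_single_obj_X c s _ i (by omega)
  haveI : ∀ i, Injective (S.X i) := fun i => by
    by_cases hi : i = s
    · subst hi
      exact Injective.of_iso (HomologicalComplex.singleObjXSelf c _ O).symm inferInstance
    · exact (HomologicalComplex.isZero_single_obj_X c s O i hi).injective
  haveI := CochainComplex.isKInjective_of_injective S s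
  let eS : (DCoh.inD T O)⟦j⟧ ≅ DerivedCategory.Q.obj S :=
    ((DerivedCategory.singleFunctors T.Modules).shiftIso j s 0 (by omega)).app O ≪≫
      (DerivedCategory.singleFunctorIsoCompQ T.Modules s).app O
  let eC := DerivedCategory.Q.objObjPreimageIso C
  let P := DerivedCategory.Q.objPreimage C
  obtain ⟨g, hg⟩ := exists_Q_map (eC.hom ≫ ψ ≫ eS.hom)
  let f : P.cycles s ⟶ O := P.iCycles s ≫ g.f s ≫ (HomologicalComplex.singleObjXSelf c s O).hom
  have hf : f ≠ 0 := fun h => hψ <| by
    have h1 : HomologicalComplex.homologyMap g s = 0 := by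
      rw [← cancel_epi (P.homologyπ s), comp_zero, HomologicalComplex.homologyπ_naturality,
        ← cancel_mono (HomologicalComplex.singleObjHomologySelfIso c s O).hom, Category.assoc,
        HomologicalComplex.homologyπ_singleObjHomologySelfIso_hom, zero_comp,
        HomologicalComplex.singleObjCyclesSelfIso_hom, HomologicalComplex.cyclesMap_i_assoc]
      exact h
    have h2 := Q_map_eq_zero_of_homologyMap s g h1
    rw [hg] at h2
    rw [← cancel_epi eC.hom, ← cancel_mono eS.hom, Category.assoc, h2, comp_zero, zero_comp]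
  obtain ⟨y, hy⟩ := exists_section_of_ne_zero_point z hF f hf
  let v : S ⟶ P := HomologicalComplex.mkHomFromSingle (y ≫ P.iCycles s) fun i hi => by
    rw [Category.assoc, HomologicalComplex.iCycles_d, comp_zero]
  have hv : v ≫ g = 𝟙 S := by
    apply HomologicalComplex.from_single_hom_ext
    rw [HomologicalComplex.comp_f, HomologicalComplex.mkHomFromSingle_f, HomologicalComplex.id_f,
      ← cancel_mono (HomologicalComplex.singleObjXSelf c s O).hom, Category.id_comp,
      Category.assoc, Category.assoc, Category.assoc]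
    exact (congrArg ((HomologicalComplex.singleObjXSelf c s O).hom ≫ ·) hy).trans (Category.comp_id _)
  refine ⟨eS.hom ≫ DerivedCategory.Q.map v ≫ eC.hom, ?_⟩
  have h3 : DerivedCategory.Q.map v ≫ DerivedCategory.Q.map g = 𝟙 _ := by
    rw [← Functor.map_comp, hv, CategoryTheory.Functor.map_id]
  rw [hg] at h3
  rw [← cancel_mono eS.hom, Category.assoc, Category.assoc, Category.assoc, h3, Category.comp_id,
    Category.id_comp]

/-- `O[0] ⊗ - = id`. -/
theorem nonempty_ltensor_singleStructure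
    [DCoh.HasLTensorCx ((HomologicalComplex.single X.Modules (ComplexShape.up ℤ) 0).obj (Coh.structureModule X))] :
    Nonempty (DCoh.LTensorCx ((HomologicalComplex.single X.Modules (ComplexShape.up ℤ) 0).obj
      (Coh.structureModule X)) ≅ 𝟭 (DCoh.D X)) := by
  let S := (HomologicalComplex.single X.Modules (ComplexShape.up ℤ) 0).obj (Coh.structureModule X)
  let c := (DCoh.tensorCxQ S).totalLeftDerivedCounit DerivedCategory.Q (qisX X)
  haveI : ∀ C, IsIso ((Functor.whiskerLeft (kRes X) c).app C) := fun C =>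
    isIso_LTensorCx_counit S (isKFlat_kRes C)
  haveI := NatIso.isIso_of_isIso_app (Functor.whiskerLeft (kRes X) c)
  let eT : DCoh.tensorCx.flip.obj S ≅ 𝟭 _ :=
    singleIso (DCoh.tensorBi (X := X)) (Coh.structureModule X) ≪≫
      NatIso.mapHomologicalComplex (tensorStructureIso X) (ComplexShape.up ℤ) ≪≫
      Functor.mapHomologicalComplexIdIso _ _
  let A : DerivedCategory.Q ⋙ DCoh.LTensorCx S ≅ DerivedCategory.Q ⋙ 𝟭 (DCoh.D X) :=
    Functor.isoWhiskerRight (resQIso X).symm (DCoh.LTensorCx S) ≪≫ Functor.associator _ _ _ ≪≫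
      asIso (Functor.whiskerLeft (kRes X) c) ≪≫
      Functor.isoWhiskerLeft (kRes X) (Functor.isoWhiskerRight eT DerivedCategory.Q ≪≫
        Functor.leftUnitor _) ≪≫ resQIso X ≪≫ (Functor.rightUnitor _).symm
  exact ⟨Localization.liftNatIso DerivedCategory.Q (qisX X) _ _ _ _ A⟩

set_option maxHeartbeats 1600000 in
/-- Vanishing of the maps from the point sheaf to `K⟦i⟧` kills `H^(i-d) K` near the point. -/
theorem exists_nhd_of_hom_point [IsLocallyNoetherian X] (hreg : Models.IsRegularScheme X) (x : X)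
    (hx : IsClosed ({x} : Set X)) (d : ℕ) (hd : ringKrullDim (X.presheaf.stalk x) = d)
    (K : DCoh.D X) (hK : DCoh.IsPerfect K) (i : ℤ)
    (h : ∀ φ : DCoh.inD X ((Coh.push (X.fromSpecResidueField x)).obj (Coh.structureModule _)) ⟶
      (shiftFunctor (DCoh.D X) i).obj K, φ = 0) :
    ∃ U : X.Opens, x ∈ U ∧ ∀ y : X, y ∈ U → y ∉ CohB1.support (DCoh.HD K (i - d)) := by
  let c := ComplexShape.up ℤ
  let ι := X.fromSpecResidueField x
  haveI : IsClosedImmersion ι := isClosedImmersion_point x hx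
  haveI := hasRpush_scheme ι
  haveI := hasLpull ι
  let T := Spec (X.residueField x)
  let O := DCoh.inD X (Coh.structureModule X)
  let OT := DCoh.inD T (Coh.structureModule T)
  let S := (HomologicalComplex.single X.Modules c 0).obj (Coh.structureModule X)
  haveI := hasLTensorCx S
  haveI := hasRSheafHom S
  let eO : O ≅ DerivedCategory.Q.obj S :=
    (DerivedCategory.singleFunctorIsoCompQ X.Modules 0).app (Coh.structureModule X)
  let K₀ := repK K
  have hK₀ : DCoh.IsKFlat K₀ := isKFlat_repK _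
  let eK : DerivedCategory.Q.obj K₀ ≅ K := repKIso K
  have hK₀p : DCoh.IsPerfect (DCoh.toD X K₀) :=
    (isPerfect_iff _).2 (((isPerfect_iff _).1 hK).of_iso eK.symm)
  haveI := hasLTensorCx K₀
  haveI := hasRSheafHom K₀
  let Dual := (DCoh.RSheafHom K₀).obj (DerivedCategory.Q.obj S)
  have hDual : DCoh.IsPerfect Dual :=
    (isPerfect_iff _).2 (((isPerfect_iff _).1 (isPerfect_RSheafHom_structure K₀ hK₀p)).of_iso
      ((DCoh.RSheafHom K₀).mapIso eO))
  let D := repK Dual
  have hD : DCoh.IsKFlat D := isKFlat_repK _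
  have hDp : DCoh.IsPerfect (DCoh.toD X D) :=
    (isPerfect_iff _).2 (((isPerfect_iff _).1 hDual).of_iso (repKIso Dual).symm)
  haveI := hasLTensorCx D
  haveI := hasRSheafHom D
  haveI := hasLTensorCx ((pullCx ι).obj D)
  -- biduality
  obtain ⟨eS⟩ := nonempty_ltensor_singleStructure (X := X)
  let eR : DCoh.RSheafHom S ≅ 𝟭 (DCoh.D X) :=
    ((DCoh.RSheafHomAdj S).ofNatIsoLeft eS).rightAdjointUniq Adjunction.id
  have bid : ∀ n : ℤ, Nonempty ((DCoh.RSheafHom D).obj (O⟦n⟧) ≅ K⟦n⟧) := fun n => by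
    obtain ⟨e1⟩ := nonempty_ltensor_RSheafHom_iso K₀ S hK₀ hK₀p D ⟨repKIso Dual⟩ (O⟦n⟧)
    obtain ⟨e2⟩ := nonempty_ltensor_shift_structure K₀ n
    exact ⟨e1.symm ≪≫ (DCoh.LTensorCx K₀).mapIso (eR.app _) ≪≫ e2 ≪≫
      (shiftFunctor (DCoh.D X) n).mapIso eK⟩
  -- maps out of the pushed fibre
  let G := (Scheme.Modules.pushforward ι).obj (Coh.structureModule T)
  let eG : (DCoh.Rpush ι).obj OT ≅ DCoh.inD X G :=
    (DCoh.Rpush ι).mapIso ((DerivedCategory.singleFunctorIsoCompQ T.Modules 0).app _) ≪≫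
      ((rpushClosedIso ι).app _).symm ≪≫
      DerivedCategory.Q.mapIso ((HomologicalComplex.singleMapHomologicalComplex
        (Scheme.Modules.pushforward ι) _ 0).app _) ≪≫
      ((DerivedCategory.singleFunctorIsoCompQ X.Modules 0).app G).symm
  let C := DCoh.toD T ((pullCx ι).obj D)
  obtain ⟨ep⟩ := nonempty_projection_closed ι D hD OT
  obtain ⟨et⟩ := nonempty_ltensor_structure ((pullCx ι).obj D)
  let eM : (DCoh.LTensorCx D).obj (DCoh.inD X G) ≅ (DCoh.Rpush ι).obj C :=
    (DCoh.LTensorCx D).mapIso eG.symm ≪≫ ep ≪≫ (DCoh.Rpush ι).mapIso et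
  obtain ⟨eKi⟩ := bid i
  have hzero : ∀ χ : (DCoh.Rpush ι).obj C ⟶ O⟦i⟧, χ = 0 := fun χ => by
    rw [← cancel_epi eM.hom, comp_zero]
    refine ((DCoh.RSheafHomAdj D).homEquiv (DCoh.inD X G) (O⟦i⟧)).injective ?_
    rw [← cancel_mono eKi.hom]
    exact (h _).trans (h _).symm
  -- the nonzero extension
  obtain ⟨φ₀, hφ₀⟩ := exists_ne_zero_point_hom hreg x hx d hd
  let j : ℤ := i - d
  obtain ⟨es⟩ := nonempty_rpush_shift ι OT j
  obtain ⟨adj⟩ := nonempty_lpull_rpush_adj ι
  let eC : (DCoh.Lpull ι).obj (DCoh.toD X D) ≅ C := lpullIso ι hD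
  have hmaps : ∀ φ : DCoh.toD X D ⟶ (DCoh.inD X G)⟦j⟧, φ = 0 := fun φ => by
    let eGj : (DCoh.Rpush ι).obj (OT⟦j⟧) ≅ (DCoh.inD X G)⟦j⟧ :=
      es ≪≫ (shiftFunctor (DCoh.D X) j).mapIso eG
    have hC0 : ∀ ψ : C ⟶ OT⟦j⟧, ψ = 0 := fun ψ => by
      by_contra hψ
      haveI : Subsingleton T := inferInstanceAs (Subsingleton (PrimeSpectrum (X.residueField x)))
      obtain ⟨v, hv⟩ := exists_section_shift (T := T) default
        (isField_stalk_spec (X.residueField x) default) C j ψ hψ
      let a : (DCoh.inD X G)⟦j⟧ ⟶ O⟦i⟧ :=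
        (shiftFunctor (DCoh.D X) j).map φ₀ ≫
          ((shiftFunctorAdd' (DCoh.D X) (d : ℤ) j i (by omega)).app O).inv
      have ha := hzero ((DCoh.Rpush ι).map ψ ≫ eGj.hom ≫ a)
      have h1 : eGj.hom ≫ a = 0 := by
        have := congrArg ((DCoh.Rpush ι).map v ≫ ·) ha
        simpa only [comp_zero, ← Functor.map_comp_assoc, hv, CategoryTheory.Functor.map_id,
          Category.id_comp] using this
      refine hφ₀ ((shiftFunctor (DCoh.D X) j).map_injective ?_)
      rw [Functor.map_zero, ← cancel_epi eGj.hom, comp_zero,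
        ← cancel_mono ((shiftFunctorAdd' (DCoh.D X) (d : ℤ) j i (by omega)).app O).inv, zero_comp,
        Category.assoc]
      exact h1
    rw [← cancel_mono eGj.inv, zero_comp]
    refine (adj.homEquiv _ _).symm.injective ?_
    rw [← cancel_epi eC.inv]
    exact (hC0 _).trans (hC0 _).symm
  obtain ⟨U, hxU, hU⟩ := exists_nhd_dual x hx D hDp j hmaps
  obtain ⟨eK0⟩ := bid 0
  let eDK : (DCoh.RSheafHom D).obj O ≅ K :=
    (DCoh.RSheafHom D).mapIso ((shiftFunctorZero (DCoh.D X) ℤ).app O).symm ≪≫ eK0 ≪≫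
      (shiftFunctorZero (DCoh.D X) ℤ).app K
  refine ⟨U, hxU, fun y hy hy' => hU y hy fun hs => hy' ?_⟩
  let eSt := (DerSch.stalkFunctor X y).mapIso
    ((DerivedCategory.homologyFunctor X.Modules j).mapIso eDK)
  exact @Equiv.subsingleton _ _ eSt.symm.toLinearEquiv.toEquiv hs

end Groth.Agent.DEqT
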