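import Groth.Agent.DEqT.PointOrth
import Groth.Agent.KFlatLib.Ring.DualizingDimension
import Groth.Agent.KFlatLib.Ring.HasLBase
import Groth.Agent.KFlatLib.Scheme.LocalDevissage
import Groth.Agent.LC.GorRows
import Groth.Prelude.Def_Models
import Mathlib.RingTheory.RegularLocalRing.Defs

/-!
# A nonzero extension of the point sheaf by the structure sheaf
-/

set_option linter.style.haveILetI false
set_option linter.unusedSectionVars false
set_option backward.isDefEq.respectTransparency false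

universe u

open CategoryTheory CategoryTheory.Limits AlgebraicGeometry TopologicalSpace Opposite

attribute [local instance] HasDerivedCategory.standard

namespace Groth.Agent.DEqT

open KFlatLib

/-- In a regular local ring of dimension `d` the residue field has a nonzero `d`-th `Ext` into the ring. -/
theorem nontrivial_hom_residue_self {R : Type u} [CommRing R] [IsRegularLocalRing R] (d : ℕ)
    (hd : ringKrullDim R = d) :
    Nontrivial (Dual.inD R (R ⧸ IsLocalRing.maximalIdeal R) ⟶ (Dual.inD R R)⟦(d : ℤ)⟧) := by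
  haveI := Groth.Agent.LC.gorenstein_of_isRegularLocalRing (R := R)
  let κ := R ⧸ IsLocalRing.maximalIdeal R
  have h0 : ¬ 0 < LocCoh.depth R κ := fun h => by
    have h1 := ((LC.le_idealDepth_iff_ext (I := IsLocalRing.maximalIdeal R) κ 1).1
      (by rw [Nat.cast_one]; exact Order.one_le_iff_pos.2 h)) 0 one_pos
    haveI : Subsingleton (ModuleCat.of R κ ⟶ ModuleCat.of R κ) :=
      Abelian.Ext.homEquiv₀.symm.subsingleton
    exact one_ne_zero (α := κ) (LinearMap.congr_fun
      (congrArg ModuleCat.Hom.hom (Subsingleton.elim (𝟙 (ModuleCat.of R κ)) 0)) 1)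
  rw [LC.depth_pos_iff_ext_subsingleton d hd κ, not_subsingleton_iff_nontrivial] at h0
  exact (Abelian.Ext.homEquiv (X := ModuleCat.of R κ) (Y := ModuleCat.of R R) (n := d)).symm.nontrivial

/-- At a maximal ideal with regular local ring of dimension `d`, a nonzero `d`-th `Ext` into the ring. -/
theorem exists_hom_quotient_self {A : Type u} [CommRing A] [IsNoetherianRing A] (q : Ideal A)
    [q.IsPrime] [IsRegularLocalRing (Localization.AtPrime q)] (d : ℕ)
    (hd : ringKrullDim (Localization.AtPrime q) = d) :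
    ∃ φ : Dual.inD A (A ⧸ q) ⟶ (Dual.inD A A)⟦(d : ℤ)⟧, φ ≠ 0 := by
  let B := Localization.AtPrime q
  haveI : DTen.HasLBase (algebraMap A B) := hasLBase _
  haveI : Module.Flat A B := IsLocalization.flat _ q.primeCompl
  haveI : DerivedCategory.IsGE (Dual.inD A A) 0 :=
    inferInstanceAs (DerivedCategory.IsGE ((DerivedCategory.singleFunctor (ModuleCat.{u} A) 0).obj _) 0)
  obtain ⟨e⟩ := exists_localExtLEquiv (ω := Dual.inD A A) 0 q q (d : ℤ)
  obtain ⟨eI⟩ := nonempty_LBase_inD_quotient (B := B) (⊥ : Ideal A)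
  let qq : ∀ (R : Type u) [CommRing R], Dual.inD R (R ⧸ (⊥ : Ideal R)) ≅ Dual.inD R R := fun R _ =>
    (DerivedCategory.singleFunctor (ModuleCat.{u} R) 0).mapIso
      (Submodule.quotEquivOfEqBot (⊥ : Ideal R) rfl).toModuleIso
  rw [Ideal.map_bot] at eI
  let eA : (DTen.LBase (algebraMap A B)).obj (Dual.inD A A) ≅ Dual.inD B B :=
    (DTen.LBase _).mapIso (qq A).symm ≪≫ eI ≪≫ qq B
  let eq' : Dual.inD B (B ⧸ q.map (algebraMap A B)) ≅ Dual.inD B (B ⧸ IsLocalRing.maximalIdeal B) :=
    (DerivedCategory.singleFunctor (ModuleCat.{u} B) 0).mapIso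
      (Submodule.quotEquivOfEq _ _ (Localization.AtPrime.map_eq_maximalIdeal)).toModuleIso
  haveI := nontrivial_hom_residue_self (R := B) d hd
  haveI : Nontrivial (LocalizedModule q.primeCompl (Dual.inD A (A ⧸ q) ⟶ (Dual.inD A A)⟦(d : ℤ)⟧)) :=
    ((Iso.homCongr eq'.symm ((shiftFunctor (Dual.D B) (d : ℤ)).mapIso eA.symm)).trans e).symm.nontrivial
  by_contra h
  push Not at h
  haveI : Subsingleton (Dual.inD A (A ⧸ q) ⟶ (Dual.inD A A)⟦(d : ℤ)⟧) :=
    ⟨fun a b => (h a).trans (h b).symm⟩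
  exact not_subsingleton (LocalizedModule q.primeCompl (Dual.inD A (A ⧸ q) ⟶ (Dual.inD A A)⟦(d : ℤ)⟧))
    inferInstance

variable {X : Scheme.{u}}

set_option maxHeartbeats 1000000 in
/-- A nonzero `d`-th extension of the point sheaf by the structure sheaf. -/
theorem exists_ne_zero_point_hom [IsLocallyNoetherian X] (hreg : Models.IsRegularScheme X) (x : X)
    (hx : IsClosed ({x} : Set X)) (d : ℕ) (hd : ringKrullDim (X.presheaf.stalk x) = d) :
    ∃ φ : DCoh.inD X ((Coh.push (X.fromSpecResidueField x)).obj (Coh.structureModule _)) ⟶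
      (DCoh.inD X (Coh.structureModule X))⟦(d : ℤ)⟧, φ ≠ 0 := by
  obtain ⟨U, hU, hxU, -⟩ := exists_isAffineOpen_mem_and_subset (x := x) (U := ⊤) trivial
  let A := Γ(X, U)
  haveI : IsNoetherianRing A := QCoh.noetherian_sections ⟨U, hU⟩
  haveI : PreservesFiniteLimits (tilde.functor A) := QCoh.tilde_preservesFiniteLimits (R := A)
  haveI : PreservesFiniteColimits (tilde.functor A) := QCoh.tilde_preservesFiniteColimits (R := A)
  let z := hU.primeIdealOf ⟨x, hxU⟩
  haveI : z.asIdeal.IsMaximal := by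
    rw [← PrimeSpectrum.isClosed_singleton_iff_isMaximal]
    have : ({z} : Set (Spec A)) = hU.fromSpec.base ⁻¹' {x} := by
      ext w
      refine ⟨fun hw => ?_, fun hw => ?_⟩
      · rw [Set.mem_singleton_iff.1 hw]
        exact hU.fromSpec_primeIdealOf ⟨x, hxU⟩
      · exact hU.fromSpec.isOpenEmbedding.injective
          ((Set.mem_preimage.1 hw).trans (hU.fromSpec_primeIdealOf ⟨x, hxU⟩).symm)
    rw [this]
    exact hx.preimage hU.fromSpec.base.hom.continuous
  letI := TopCat.Presheaf.algebra_section_stalk X.presheaf ⟨x, hxU⟩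
  haveI := hU.isLocalization_stalk ⟨x, hxU⟩
  let eloc := (IsLocalization.algEquiv z.asIdeal.primeCompl (X.presheaf.stalk x)
    (Localization.AtPrime z.asIdeal)).toRingEquiv
  haveI := hreg x
  haveI : IsRegularLocalRing (Localization.AtPrime z.asIdeal) := IsRegularLocalRing.of_ringEquiv eloc
  obtain ⟨φ, hφ⟩ := exists_hom_quotient_self z.asIdeal d
    ((ringKrullDim_eq_of_ringEquiv eloc).symm.trans hd)
  obtain ⟨L, hLn, hL, ⟨eL⟩⟩ := exists_chart_point hU hxU hx
  obtain ⟨f, g, hfg⟩ := exists_retract z.asIdeal L hL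
  let S := DerivedCategory.singleFunctor (ModuleCat.{u} A) 0
  let M := S.obj (ModuleCat.of A A)
  let ψ : S.obj L ⟶ M⟦(d : ℤ)⟧ := S.map f ≫ φ
  have hψ : ψ ≠ 0 := fun h => hφ <| by
    have := congrArg (S.map g ≫ ·) h
    simpa [ψ, ← Category.assoc, ← Functor.map_comp, hfg] using this
  let adj := H9Misc.TelLocal.derivedAdjunction (lshAdj hU.fromSpec)
  let O := DCoh.inD X (Coh.structureModule X)
  let eS : (DCoh.tildeD A).obj (S.obj L) ≅ DCoh.inD _ ((tilde.functor A).obj L) :=
    ((tilde.functor A).mapDerivedCategorySingleFunctor 0).app L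
  let eM : (DCoh.tildeD A).obj M ≅ (rho hU.fromSpec).obj O :=
    ((tilde.functor A).mapDerivedCategorySingleFunctor 0).app _ ≪≫
      (DerivedCategory.singleFunctor (Spec A).Modules 0).mapIso
        (tildeSelf ≪≫ (restrictStructureIso hU.fromSpec).symm) ≪≫
      (((Scheme.Modules.restrictFunctor hU.fromSpec).mapDerivedCategorySingleFunctor 0).app _).symm
  let eT : (DCoh.tildeD A).obj (M⟦(d : ℤ)⟧) ≅ (rho hU.fromSpec).obj (O⟦(d : ℤ)⟧) :=
    ((DCoh.tildeD A).commShiftIso (d : ℤ)).app M ≪≫ (shiftFunctor _ (d : ℤ)).mapIso eM ≪≫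
      ((rho hU.fromSpec).commShiftIso (d : ℤ)).symm.app O
  let eP : (lsh hU.fromSpec).mapDerivedCategory.obj (DCoh.inD _ ((tilde.functor A).obj L)) ≅
      DCoh.inD X ((Coh.push (X.fromSpecResidueField x)).obj (Coh.structureModule _)) :=
    ((lsh hU.fromSpec).mapDerivedCategorySingleFunctor 0).app _ ≪≫
      (DerivedCategory.singleFunctor X.Modules 0).mapIso eL.symm
  let Φ : ((DCoh.tildeD A).obj (S.obj L) ⟶ (DCoh.tildeD A).obj (M⟦(d : ℤ)⟧)) ≃
      (DCoh.inD X ((Coh.push (X.fromSpecResidueField x)).obj (Coh.structureModule _)) ⟶ O⟦(d : ℤ)⟧) :=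
    (Iso.homCongr eS eT).trans ((adj.homEquiv _ _).symm.trans (Iso.homCongr eP (Iso.refl _)))
  obtain ⟨φ', hφ'⟩ : ∃ φ', φ' ≠ Φ ((DCoh.tildeD A).map ψ) := ⟨Φ 0, fun h =>
    hψ ((tildeD_map_bijective _ _).1 ((Φ.injective h).symm.trans (Functor.map_zero _ _ _).symm))⟩
  by_contra hall
  push Not at hall
  exact hφ' ((hall _).trans (hall _).symm)

end Groth.Agent.DEqT
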