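import Groth.Agent.KFlatLib.Scheme.Pullback
import Groth.Agent.KFlatLib.Scheme.Exact
import Groth.Agent.KFlatLib.PsiC
import Groth.Agent.KFlatLib.Ghost
import Groth.Agent.H9Misc.TelLocal
import Groth.Agent.FDescent.StalkFinite
import Groth.Agent.KFlatLib.Perfect.LocFree
import Mathlib.AlgebraicGeometry.FunctionField
import Mathlib.AlgebraicGeometry.ResidueField
import Groth.Prelude.Def_DCoh2
import Groth.Prelude.Def_CohB1

/-!
# Maps from a complex to a skyscraper
-/

set_option linter.style.haveILetI false
set_option backward.isDefEq.respectTransparency false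

universe w v u

open CategoryTheory CategoryTheory.Limits AlgebraicGeometry CategoryTheory.Pretriangulated

namespace Groth.Agent.DEqT

section General

variable {C : Type u} [Category.{v} C] [Abelian C] [HasDerivedCategory.{w} C]

open DerivedCategory DerivedCategory.TStructure

/-- An object in degrees `≤ c` maps to its top cohomology placed in degree `c`. -/
lemma exists_hom_single_isIso_homology (K : DerivedCategory C) (c : ℤ) [K.IsLE c] :
    ∃ (N : C) (p : K ⟶ (singleFunctor C c).obj N), IsIso ((homologyFunctor C c).map p) := by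
  let T := (t.triangleLTGE c).obj K
  have hT : T ∈ distinguishedTriangles := t.triangleLTGE_distinguished c K
  haveI : T.obj₁.IsLE (c - 1) := inferInstanceAs (t.IsLE ((t.truncLT c).obj K) (c - 1))
  haveI : T.obj₃.IsGE c := inferInstanceAs (t.IsGE ((t.truncGE c).obj K) c)
  have h₁ : ∀ j, c ≤ j → IsZero ((homologyFunctor C j).obj T.obj₁) := fun j hj =>
    isZero_of_isLE _ (c - 1) j (by omega)
  have hm : ∀ j, c ≤ j → IsIso ((homologyFunctor C j).map T.mor₂) := fun j hj => by
    haveI : Mono ((homologyFunctor C j).map T.mor₂) :=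
      (HomologySequence.mono_homologyMap_mor₂_iff T hT j).2 ((h₁ j hj).eq_of_src _ _)
    haveI : Epi ((homologyFunctor C j).map T.mor₂) :=
      (HomologySequence.epi_homologyMap_mor₂_iff T hT j (j + 1) rfl).2
        ((h₁ (j + 1) (by omega)).eq_of_tgt _ _)
    exact isIso_of_mono_of_epi ((homologyFunctor C j).map T.mor₂)
  haveI : T.obj₃.IsLE c := (isLE_iff _ _).2 fun j hj => by
    haveI := hm j hj.le
    exact (isZero_of_isLE K c j hj).of_iso (asIso ((homologyFunctor C j).map T.mor₂)).symm
  obtain ⟨N, ⟨e⟩⟩ := exists_iso_singleFunctor_obj_of_isGE_of_isLE T.obj₃ c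
  refine ⟨N, T.mor₂ ≫ e.hom, ?_⟩
  haveI := hm c le_rfl
  rw [Functor.map_comp]
  infer_instance

/-- If the top cohomology admits a nonzero map to `M`, so does the complex to `M` in that degree. -/
lemma hom_eq_zero_of_forall_single (K : DerivedCategory C) (c : ℤ) [K.IsLE c] (M : C)
    (h : ∀ f : K ⟶ (singleFunctor C c).obj M, f = 0) (g : (homologyFunctor C c).obj K ⟶ M) :
    g = 0 := by
  obtain ⟨N, p, hp⟩ := exists_hom_single_isIso_homology K c
  let e := singleFunctorCompHomologyFunctorIso C c
  have : ∀ φ : N ⟶ M, φ = 0 := fun φ => by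
    have h1 := congrArg (homologyFunctor C c).map (h (p ≫ (singleFunctor C c).map φ))
    rw [Functor.map_comp, Functor.map_zero, Preadditive.IsIso.comp_left_eq_zero] at h1
    change (𝟭 C).map φ = 0
    rw [← NatIso.naturality_1 e φ]
    change e.inv.app N ≫ (homologyFunctor C c).map ((singleFunctor C c).map φ) ≫ e.hom.app M = 0
    rw [h1, zero_comp, comp_zero]
  let i : (homologyFunctor C c).obj K ≅ N :=
    asIso ((homologyFunctor C c).map p) ≪≫ e.app N
  rw [← cancel_epi i.inv, comp_zero]
  exact this _

end General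

section Ring

variable {R : Type u} [CommRing R] [IsLocalRing R] [HasDerivedCategory.{w} (ModuleCat.{u} R)]

open scoped TensorProduct
open IsLocalRing

omit [HasDerivedCategory.{w} (ModuleCat.{u} R)] in
set_option synthInstance.maxHeartbeats 100000 in
/-- A nonzero finite module maps non-trivially to a nonzero module killed by the maximal ideal. -/
lemma exists_ne_zero_hom (M N : ModuleCat.{u} R) [Module.Finite R M] [Nontrivial M] [Nontrivial N]
    (hN : ∀ r ∈ maximalIdeal R, ∀ n : N, r • n = 0) : ∃ φ : M ⟶ N, φ ≠ 0 := by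
  haveI : Nontrivial (ResidueField R ⊗[R] M) := by
    rw [← not_subsingleton_iff_nontrivial]
    intro h
    exact not_subsingleton M (IsLocalRing.subsingleton_tensorProduct.1 h)
  obtain ⟨z, hz⟩ := exists_ne (0 : ResidueField R ⊗[R] M)
  obtain ⟨f, hf⟩ : ∃ f : ResidueField R ⊗[R] M →ₗ[ResidueField R] ResidueField R, f z ≠ 0 := by
    letI := Classical.decEq (ResidueField R ⊗[R] M)
    let bas := Module.Basis.ofVectorSpace (ResidueField R) (ResidueField R ⊗[R] M)
    by_contra hall
    rw [not_exists] at hall
    exact hz (bas.ext_elem fun j => by simpa using hall (bas.coord j))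
  obtain ⟨n, hn⟩ := exists_ne (0 : N)
  let q : ResidueField R →ₗ[R] N := Submodule.liftQ (maximalIdeal R)
    (LinearMap.toSpanSingleton R N n) (fun r hr => hN r hr n)
  have hq : ∀ a, q a = 0 → a = 0 := fun a ha => by
    obtain ⟨r, rfl⟩ := Ideal.Quotient.mk_surjective a
    refine Ideal.Quotient.eq_zero_iff_mem.2 ?_
    by_contra hr
    have hu : IsUnit r := by simpa using hr
    exact hn (hu.smul_eq_zero.1 ha)
  let g : M →ₗ[R] N := q ∘ₗ f.restrictScalars R ∘ₗ TensorProduct.mk R (ResidueField R) M 1
  refine ⟨ModuleCat.ofHom g, fun h => hf ?_⟩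
  have h0 : ∀ m : M, f (1 ⊗ₜ m) = 0 := fun m =>
    hq _ (LinearMap.congr_fun (congrArg ModuleCat.Hom.hom h) m)
  clear hf hz
  induction z using TensorProduct.induction_on with
  | zero => exact map_zero f
  | tmul a m =>
    have : a ⊗ₜ[R] m = a • ((1 : ResidueField R) ⊗ₜ[R] m) := by
      rw [TensorProduct.smul_tmul', smul_eq_mul, mul_one]
    rw [this, map_smul, h0, smul_zero]
  | add a b ha hb => rw [map_add, ha, hb, add_zero]

open DerivedCategory in
/-- Over a local ring a complex with finite cohomology is in degrees `≤ b` iff it has no maps to the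
residue field in degrees `> b`. -/
lemma isLE_iff_forall_hom_single (K : DerivedCategory (ModuleCat.{u} R)) (c : ℤ) [K.IsLE c]
    (hfin : ∀ i, Module.Finite R ((homologyFunctor (ModuleCat.{u} R) i).obj K)) (N : ModuleCat.{u} R) [Nontrivial N]
    (hN : ∀ r ∈ maximalIdeal R, ∀ n : N, r • n = 0) (b : ℤ) :
    K.IsLE b ↔ ∀ i : ℤ, b < i → ∀ φ : K ⟶ (singleFunctor (ModuleCat.{u} R) i).obj N, φ = 0 := by
  refine ⟨fun _ i hi φ => TStructure.t.zero φ b i hi, fun h => ?_⟩
  suffices ∀ d : ℕ, ∀ c : ℤ, K.IsLE c → c ≤ b + d → K.IsLE b from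
    this (c - b).toNat c inferInstance (by omega)
  intro d
  induction d with
  | zero =>
    intro c hc hcb
    exact TStructure.t.isLE_of_le K c b (by simpa using hcb)
  | succ d ih =>
    intro c hc hcb
    by_cases hle : c ≤ b + d
    · exact ih c hc hle
    refine ih (c - 1) ((isLE_iff _ _).2 fun i hi => ?_) (by omega)
    rcases eq_or_lt_of_le (show c ≤ i by omega) with rfl | hi'
    · by_contra hne
      haveI := hfin c
      haveI : Nontrivial ((homologyFunctor (ModuleCat.{u} R) c).obj K) := by
        rw [← not_subsingleton_iff_nontrivial]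
        intro hsub
        exact hne (ModuleCat.isZero_of_subsingleton _)
      obtain ⟨φ, hφ⟩ := exists_ne_zero_hom ((homologyFunctor (ModuleCat.{u} R) c).obj K) N hN
      exact hφ (hom_eq_zero_of_forall_single K c N (h c (by omega)) φ)
    · exact isZero_of_isLE K c i hi'

end Ring

section Scheme

attribute [local instance] HasDerivedCategory.standard

open KFlatLib

variable {X : Scheme.{u}}

lemma skyAdj_counit_app (y : X) (N : ModuleCat.{u} (X.presheaf.stalk y)) :
    (skyAdj y).counit.app N = (skyStalkIso y).hom.app N := by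
  rw [skyAdj, Adjunction.mkOfHomEquiv_counit_app]
  refine stalkMod_ext (P := DCoh.toP.obj ((sky y).obj N)) fun U hU s => ?_
  change ofSkyP y (𝟙 ((sky y).obj N) : (sky y).obj N ⟶ (sky y).obj N).val (germP _ U hU s) =
    skyEval y N (germP (skyP y N) U hU s)
  rw [ofSkyP_germ, skyEval_germ]
  rfl

/-- On a one-point scheme every module is a skyscraper. -/
lemma isIso_skyAdj_unit [Subsingleton X] (y : X) (M : X.Modules) :
    IsIso ((skyAdj y).unit.app M) := by
  haveI : IsIso ((skyAdj y).counit.app ((DerSch.stalkFunctor X y).obj M)) := by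
    rw [skyAdj_counit_app]
    infer_instance
  refine isIso_of_stalk _ fun z => ?_
  obtain rfl := Subsingleton.elim z y
  exact IsIso.of_isIso_fac_right ((skyAdj z).left_triangle_components M)

lemma exists_residue_sky_aux {F : CommRingCat.{u}} (hF : IsField F) (f : Spec F ⟶ X) (z : Spec F)
    (x : X) (hx : f z = x) :
    ∃ (N : ModuleCat.{u} (X.presheaf.stalk x)), Nontrivial N ∧
      (∀ r ∈ IsLocalRing.maximalIdeal (X.presheaf.stalk x), ∀ n : N, r • n = 0) ∧
      Nonempty ((Coh.push f).obj (Coh.structureModule _) ≅ (sky x).obj N) := by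
  subst hx
  haveI : Subsingleton (Spec F) :=
    letI := hF.toField
    inferInstanceAs (Subsingleton (PrimeSpectrum F))
  haveI := isIso_skyAdj_unit z (Coh.structureModule (Spec F))
  refine ⟨(ModuleCat.restrictScalars (f.stalkMap z).hom).obj
    ((DerSch.stalkFunctor (Spec F) z).obj (Coh.structureModule (Spec F))), ?_, fun r hr n => ?_,
    ⟨(Coh.push f).mapIso (asIso ((skyAdj z).unit.app (Coh.structureModule (Spec F)))) ≪≫
      (skyPushforwardIso f z).app _⟩⟩
  · exact (stalkUnitEquiv (X := Spec F) z).symm.toEquiv.nontrivial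
  · have hfld : ∀ a : (Spec F).presheaf.stalk z, IsUnit a ∨ a = 0 := by
      letI := hF.toField
      haveI : IsDomain F := inferInstance
      obtain rfl := Subsingleton.elim z (genericPoint (Spec F))
      intro a
      letI : Field ((Spec F).presheaf.stalk (genericPoint (Spec F))) :=
        inferInstanceAs (Field (Spec F).functionField)
      exact (eq_or_ne a 0).symm.imp isUnit_iff_ne_zero.2 id
    rcases hfld (f.stalkMap z r) with hu | h0
    · exact absurd (IsUnit.of_map (f.stalkMap z).hom r hu) hr
    · change f.stalkMap z r • (show (DerSch.stalkFunctor (Spec F) z).obj (Coh.structureModule _) from n) = 0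
      rw [h0, zero_smul]

/-- The residue field skyscraper is a skyscraper of a nonzero module killed by the maximal ideal. -/
lemma exists_residue_sky (x : X) :
    ∃ (N : ModuleCat.{u} (X.presheaf.stalk x)), Nontrivial N ∧
      (∀ r ∈ IsLocalRing.maximalIdeal (X.presheaf.stalk x), ∀ n : N, r • n = 0) ∧
      Nonempty ((Coh.push (X.fromSpecResidueField x)).obj (Coh.structureModule _) ≅
        (sky x).obj N) := by
  obtain ⟨z⟩ : Nonempty (Spec (X.residueField x)) :=
    inferInstanceAs (Nonempty (PrimeSpectrum (X.residueField x)))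
  exact exists_residue_sky_aux (Field.toIsField _) (X.fromSpecResidueField x) z x
    (Scheme.fromSpecResidueField_apply x z)

/-- Stalks of the cohomology of a complex. -/
noncomputable def stalkHDIso (x : X) (K : DCoh.D X) (i : ℤ) :
    (DerivedCategory.homologyFunctor _ i).obj ((DerSch.stalkFunctor X x).mapDerivedCategory.obj K) ≅
      (DerSch.stalkFunctor X x).obj (DCoh.HD K i) :=
  (mapDCHomologyIso (DerSch.stalkFunctor X x) i).app K

lemma mem_support_iff_not_isZero (x : X) (M : X.Modules) :
    x ∈ CohB1.support M ↔ ¬ IsZero ((DerSch.stalkFunctor X x).obj M) := by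
  refine not_congr ⟨fun h => ?_, fun h => ModuleCat.subsingleton_of_isZero h⟩
  haveI : Subsingleton ((DerSch.stalkFunctor X x).obj M) := h
  exact ModuleCat.isZero_of_subsingleton _

lemma isLE_stalk_iff (x : X) (K : DCoh.D X) (b : ℤ) :
    ((DerSch.stalkFunctor X x).mapDerivedCategory.obj K).IsLE b ↔
      ∀ i, b < i → x ∉ CohB1.support (DCoh.HD K i) := by
  rw [DerivedCategory.isLE_iff]
  refine forall₂_congr fun i _ => ?_
  rw [mem_support_iff_not_isZero, not_not, (stalkHDIso x K i).isZero_iff]

/-- `sky N` in degree `i`, as a shift. -/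
noncomputable def skySingleIso (x : X) (N : ModuleCat.{u} (X.presheaf.stalk x)) {M : X.Modules}
    (e : M ≅ (sky x).obj N) (i : ℤ) :
    haveI : (sky x).Additive := inferInstance
    (shiftFunctor (DCoh.D X) (-i)).obj (DCoh.inD X M) ≅
      (DerivedCategory.singleFunctor X.Modules i).obj ((sky x).obj N) :=
  ((DerivedCategory.singleFunctors X.Modules).shiftIso (-i) i 0 (by omega)).app M ≪≫
    (DerivedCategory.singleFunctor X.Modules i).mapIso e

/-- Vanishing of stalks of cohomology above `b` is detected by maps to the point sheaf. -/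
theorem stalk_vanish_above_iff [IsLocallyNoetherian X] (x : X) (K : DCoh.D X)
    (hK : ∀ i, Module.Finite (X.presheaf.stalk x) ((DerSch.stalkFunctor X x).obj (DCoh.HD K i)))
    (c : ℤ) [K.IsLE c] (b : ℤ) :
    (∀ i : ℤ, b < i → x ∉ CohB1.support (DCoh.HD K i)) ↔
      ∀ i : ℤ, b < i → ∀ φ : K ⟶ (shiftFunctor (DCoh.D X) (-i)).obj
        (DCoh.inD X ((Coh.push (X.fromSpecResidueField x)).obj (Coh.structureModule _))), φ = 0 := by
  haveI : PreservesFiniteLimits (sky x) := by
    haveI : (sky x).IsRightAdjoint := (skyAdj x).isRightAdjoint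
    exact ⟨fun _ _ _ => inferInstance⟩
  haveI : (sky x).PreservesHomology :=
    Functor.preservesHomology_of_map_exact (sky x) (fun S hS => exact_map_sky x S hS)
  haveI : PreservesFiniteColimits (sky x) :=
    (sky x).preservesFiniteColimits_of_preservesHomology
  obtain ⟨N, hN, hkill, ⟨e⟩⟩ := exists_residue_sky x
  let adj := H9Misc.TelLocal.derivedAdjunction (skyAdj x)
  haveI : ((DerSch.stalkFunctor X x).mapDerivedCategory.obj K).IsLE c :=
    (isLE_stalk_iff x K c).2 fun i hi => by
      rw [mem_support_iff_not_isZero, not_not]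
      exact (DerSch.stalkFunctor X x).map_isZero (DerivedCategory.isZero_of_isLE K c i hi)
  rw [← isLE_stalk_iff, isLE_iff_forall_hom_single _ c (fun i => by
    haveI := hK i
    exact Module.Finite.equiv (stalkHDIso x K i).symm.toLinearEquiv) N hkill b]
  refine forall₂_congr fun i _ => ?_
  let eM := ((sky x).mapDerivedCategorySingleFunctor i).app N ≪≫ (skySingleIso x N e i).symm
  let Φ := (adj.homEquiv K ((DerivedCategory.singleFunctor _ i).obj N)).trans
    (Iso.homCongr (Iso.refl K) eM)
  constructor
  · intro h φ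
    haveI : Subsingleton (_ ⟶ (DerivedCategory.singleFunctor _ i).obj N) :=
      subsingleton_of_forall_eq 0 h
    haveI := Φ.symm.injective.subsingleton
    exact Subsingleton.elim _ _
  · intro h φ
    haveI : Subsingleton (K ⟶ _) := subsingleton_of_forall_eq 0 h
    haveI := Φ.injective.subsingleton
    exact Subsingleton.elim _ _

end Scheme

end Groth.Agent.DEqT
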