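import Groth.Agent.DEqT.RingOrth
import Groth.Agent.DEqT.PointHom
import Groth.Agent.KFlatLib.Scheme.ExtZero
import Groth.Agent.KFlatLib.Scheme.CohD
import Groth.Agent.KFlatLib.Scheme.TildePush
import Groth.Agent.KFlatLib.Scheme.TildeD
import Groth.Agent.H9Misc.TelLocal
import Groth.Agent.QCoh.Support

/-!
# Objects receiving no maps from the point sheaf vanish at the point
-/

set_option linter.style.haveILetI false
set_option backward.isDefEq.respectTransparency false

universe u

open CategoryTheory CategoryTheory.Limits AlgebraicGeometry TopologicalSpace Opposite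

attribute [local instance] HasDerivedCategory.standard

namespace Groth.Agent.DEqT

open KFlatLib

variable {X : Scheme.{u}}

/-- A skyscraper at a closed point has zero stalks elsewhere. -/
lemma isZero_stalk_sky {x y : X} (hx : IsClosed ({x} : Set X)) (hy : y ≠ x)
    (N : ModuleCat.{u} (X.presheaf.stalk x)) :
    IsZero ((DerSch.stalkFunctor X y).obj ((sky x).obj N)) := by
  refine ModuleCat.isZero_of_iff_subsingleton.2 ?_
  have hs : ∀ m : stalkMod y (skyP x N), m = 0 := fun m => by
    obtain ⟨U, hU, s, rfl⟩ := exists_germP m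
    let V : X.Opens := U ⊓ ⟨({x} : Set X)ᶜ, hx.isOpen_compl⟩
    rw [← germP_res (homOfLE inf_le_left : V ⟶ U) (x := y) ⟨hU, hy⟩]
    have : res (skyP x N) (homOfLE inf_le_left : V ⟶ U) s = 0 :=
      funext fun h => absurd rfl h.down.2
    rw [this, map_zero]
  haveI : Subsingleton ((DCoh.toP ⋙ stalkP y).obj ((sky x).obj N) : Type u) :=
    ⟨fun a b => (hs a).trans (hs b).symm⟩
  exact ((stalkToPIso y).app ((sky x).obj N)).toLinearEquiv.toEquiv.subsingleton

/-- A module with all stalks outside an open zero is extended by zero. -/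
lemma isIso_lshAdj_counit {U : Scheme.{u}} (j : U ⟶ X) [IsOpenImmersion j] (M : X.Modules)
    (hM : ∀ x ∉ Set.range j.base, IsZero ((DerSch.stalkFunctor X x).obj M)) :
    IsIso ((lshAdj j).counit.app M) :=
  isIso_of_restrict_of_stalk j _
    (IsIso.of_isIso_fac_left ((lshAdj j).right_triangle_components M))
    (fun x hx => isZero_stalk_lsh j x hx _) hM

/-- A nonzero module killed by a maximal ideal has the residue field as a retract. -/
lemma exists_retract {A : Type u} [CommRing A] (p : Ideal A) [p.IsMaximal] (L : ModuleCat.{u} A)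
    [Nontrivial L] (hL : ∀ a ∈ p, ∀ l : L, a • l = 0) :
    ∃ (f : L ⟶ ModuleCat.of A (A ⧸ p)) (g : ModuleCat.of A (A ⧸ p) ⟶ L), g ≫ f = 𝟙 _ := by
  letI := Ideal.Quotient.field p
  have hts : Module.IsTorsionBySet A L (p : Set A) := fun l a => hL a.1 a.2 l
  letI : Module (A ⧸ p) L := hts.module
  haveI : IsScalarTower A (A ⧸ p) L := hts.isScalarTower
  obtain ⟨l, hl⟩ := exists_ne (0 : L)
  let bas := Module.Basis.ofVectorSpace (A ⧸ p) L
  obtain ⟨i, hi⟩ : ∃ i, bas.repr l i ≠ 0 := by
    by_contra hall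
    rw [not_exists] at hall
    exact hl (bas.ext_elem fun i => by simpa using hall i)
  let f : L →ₗ[A ⧸ p] A ⧸ p := (bas.repr l i)⁻¹ • bas.coord i
  refine ⟨ModuleCat.ofHom (f.restrictScalars A),
    ModuleCat.ofHom ((LinearMap.toSpanSingleton (A ⧸ p) L l).restrictScalars A), ?_⟩
  apply ModuleCat.hom_ext
  refine LinearMap.ext fun c => ?_
  change f (c • l) = c
  rw [map_smul]
  simp [f, hi]

/-- In an affine chart at a closed point the point sheaf comes from a module killed by the maximal
ideal. -/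
lemma exists_chart_point {U : X.Opens} (hU : IsAffineOpen U) {x : X} (hxU : x ∈ U)
    (hx : IsClosed ({x} : Set X)) :
    ∃ (L : ModuleCat.{u} Γ(X, U)), Nontrivial L ∧
      (∀ a ∈ (hU.primeIdealOf ⟨x, hxU⟩).asIdeal, ∀ l : L, a • l = 0) ∧
      Nonempty ((Coh.push (X.fromSpecResidueField x)).obj (Coh.structureModule _) ≅
        (lsh hU.fromSpec).obj ((tilde.functor Γ(X, U)).obj L)) := by
  let g : Γ(X, U) ⟶ X.residueField x := X.presheaf.germ U x hxU ≫ X.residue x
  let M := (Coh.push (X.fromSpecResidueField x)).obj (Coh.structureModule _)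
  have hg : Spec.map g ≫ hU.fromSpec = X.fromSpecResidueField x := by
    rw [Scheme.fromSpecResidueField, ← hU.fromSpecStalk_eq_fromSpecStalk hxU,
      IsAffineOpen.fromSpecStalk, Spec.map_comp, Category.assoc]
  let L := (ModuleCat.restrictScalars.{u} g.hom).obj (ModuleCat.of (X.residueField x) (X.residueField x))
  refine ⟨L, inferInstanceAs (Nontrivial (X.residueField x)), fun a ha l => ?_, ?_⟩
  · have h0 : g a = 0 := by
      rw [hU.primeIdealOf_eq_map_closedPoint] at ha
      change X.residue x (X.presheaf.germ U x hxU a) = 0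
      exact (IsLocalRing.residue_eq_zero_iff _).2 ha
    change g a • (show (X.residueField x : Type u) from l) = 0
    rw [h0, zero_smul]
  · let e : M ≅ (Scheme.Modules.pushforward hU.fromSpec).obj ((tilde.functor Γ(X, U)).obj L) :=
      (Scheme.Modules.pushforwardCongr hg.symm).app _ ≪≫
        ((Scheme.Modules.pushforwardComp (Spec.map g) hU.fromSpec).symm.app _) ≪≫
        (Scheme.Modules.pushforward hU.fromSpec).mapIso
          ((Scheme.Modules.pushforward (Spec.map g)).mapIso tildeSelf.symm ≪≫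
            (pushTildeIso g).app _)
    obtain ⟨N, -, -, ⟨eN⟩⟩ := exists_residue_sky x
    haveI : IsIso ((lshAdj hU.fromSpec).counit.app M) := isIso_lshAdj_counit _ _ fun y hy =>
      (isZero_stalk_sky hx (fun h => hy (by rw [hU.range_fromSpec, h]; exact hxU)) N).of_iso
        ((DerSch.stalkFunctor X y).mapIso eN)
    exact ⟨(asIso ((lshAdj hU.fromSpec).counit.app M)).symm ≪≫ (lsh hU.fromSpec).mapIso
      ((Scheme.Modules.restrictFunctor hU.fromSpec).mapIso e ≪≫
        (asIso ((Scheme.Modules.restrictAdjunction hU.fromSpec).counit.app _)))⟩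

/-- An object with coherent cohomology receiving no maps from the point sheaf at a closed point
vanishes at that point. -/
theorem notMem_support_of_orth [IsLocallyNoetherian X] {x : X} (hx : IsClosed ({x} : Set X))
    (K : DCoh.D X) (hK : DCoh.IsCohD K)
    (h : ∀ (i : ℤ) (φ : DCoh.inD X ((Coh.push (X.fromSpecResidueField x)).obj
      (Coh.structureModule _)) ⟶ (shiftFunctor (DCoh.D X) i).obj K), φ = 0) (i : ℤ) :
    x ∉ CohB1.support (DCoh.HD K i) := by
  obtain ⟨U, hU, hxU, -⟩ := exists_isAffineOpen_mem_and_subset (x := x) (U := ⊤) trivial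
  let A := Γ(X, U)
  haveI : IsNoetherianRing A := QCoh.noetherian_sections ⟨U, hU⟩
  haveI : PreservesFiniteLimits (tilde.functor A) := QCoh.tilde_preservesFiniteLimits (R := A)
  haveI : PreservesFiniteColimits (tilde.functor A) := QCoh.tilde_preservesFiniteColimits (R := A)
  let z := hU.primeIdealOf ⟨x, hxU⟩
  haveI : z.asIdeal.IsMaximal := by
    rw [← PrimeSpectrum.isClosed_singleton_iff_isMaximal]
    have : ({z} : Set (Spec A)) = hU.fromSpec.base ⁻¹' {x} := by
      ext w
      refine ⟨fun hw => ?_, fun hw => ?_⟩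
      · rw [Set.mem_singleton_iff.1 hw]
        exact hU.fromSpec_primeIdealOf ⟨x, hxU⟩
      · exact hU.fromSpec.isOpenEmbedding.injective
          ((Set.mem_preimage.1 hw).trans (hU.fromSpec_primeIdealOf ⟨x, hxU⟩).symm)
    rw [this]
    exact hx.preimage hU.fromSpec.base.hom.continuous
  obtain ⟨L, hLn, hL, ⟨eL⟩⟩ := exists_chart_point hU hxU hx
  obtain ⟨f, g, hfg⟩ := exists_retract z.asIdeal L hL
  obtain ⟨M, ⟨eM⟩⟩ := exists_tildeD_iso (isQCohD_rho hU.fromSpec (isCohD_isQCohD hK))
  let eH : ∀ n, (tilde.functor A).obj ((DerivedCategory.homologyFunctor (ModuleCat.{u} A) n).obj M) ≅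
      (Scheme.Modules.restrictFunctor hU.fromSpec).obj (DCoh.HD K n) := fun n =>
    ((mapDCHomologyIso (tilde.functor A) n).app M).symm ≪≫
      (DerivedCategory.homologyFunctor _ n).mapIso eM ≪≫ restrictHDIso hU.fromSpec K n
  have hfin : ∀ n, Module.Finite A ((DerivedCategory.homologyFunctor (ModuleCat.{u} A) n).obj M) :=
    fun n => (isCoh_tilde_iff _).1 (isCoh_of_iso (eH n).symm (isCoh_restrict hU.fromSpec (hK n)))
  have horth : ∀ (n : ℤ) (φ : (DerivedCategory.singleFunctor (ModuleCat.{u} A) 0).obj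
      (ModuleCat.of A (A ⧸ z.asIdeal)) ⟶ M⟦n⟧), φ = 0 := by
    intro n φ
    let S := DerivedCategory.singleFunctor (ModuleCat.{u} A) 0
    suffices hψ : ∀ ψ : S.obj L ⟶ M⟦n⟧, ψ = 0 by
      rw [← Category.id_comp φ, ← CategoryTheory.Functor.map_id, ← hfg, Functor.map_comp,
        Category.assoc, hψ (S.map f ≫ φ), comp_zero]
    intro ψ
    refine (tildeD_map_bijective _ _).1 ?_
    rw [Functor.map_zero]
    let adj := H9Misc.TelLocal.derivedAdjunction (lshAdj hU.fromSpec)
    let eS : (DCoh.tildeD A).obj (S.obj L) ≅ DCoh.inD _ ((tilde.functor A).obj L) :=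
      ((tilde.functor A).mapDerivedCategorySingleFunctor 0).app L
    let eT : (DCoh.tildeD A).obj (M⟦n⟧) ≅ (rho hU.fromSpec).obj (K⟦n⟧) :=
      ((DCoh.tildeD A).commShiftIso n).app M ≪≫ (shiftFunctor _ n).mapIso eM ≪≫
        ((rho hU.fromSpec).commShiftIso n).symm.app K
    let eP : (lsh hU.fromSpec).mapDerivedCategory.obj (DCoh.inD _ ((tilde.functor A).obj L)) ≅
        DCoh.inD X ((Coh.push (X.fromSpecResidueField x)).obj (Coh.structureModule _)) :=
      ((lsh hU.fromSpec).mapDerivedCategorySingleFunctor 0).app _ ≪≫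
        (DerivedCategory.singleFunctor X.Modules 0).mapIso eL.symm
    let Φ : ((DCoh.tildeD A).obj (S.obj L) ⟶ (DCoh.tildeD A).obj (M⟦n⟧)) ≃
        (DCoh.inD X ((Coh.push (X.fromSpecResidueField x)).obj (Coh.structureModule _)) ⟶ K⟦n⟧) :=
      (Iso.homCongr eS eT).trans ((adj.homEquiv _ _).symm.trans (Iso.homCongr eP (Iso.refl _)))
    exact Φ.injective ((h n _).trans (h n _).symm)
  obtain ⟨s, hs, hsn⟩ := exists_smul_eq_zero_of_orth M hfin z.asIdeal horth i
  intro hmem
  apply hmem
  have hz : Subsingleton ((tilde ((DerivedCategory.homologyFunctor (ModuleCat.{u} A) i).obj M)).presheaf.stalk z) := by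
    refine subsingleton_of_forall_eq 0 fun t => ?_
    obtain ⟨⟨m, c⟩, hm⟩ := IsLocalizedModule.surj z.asIdeal.primeCompl
      (tilde.toStalk ((DerivedCategory.homologyFunctor (ModuleCat.{u} A) i).obj M) z).hom t
    have h0 : (tilde.toStalk ((DerivedCategory.homologyFunctor (ModuleCat.{u} A) i).obj M) z).hom m = 0 :=
      (IsLocalizedModule.eq_zero_iff z.asIdeal.primeCompl _).2 ⟨⟨s, hs⟩, hsn m⟩
    exact IsLocalizedModule.smul_injective (tilde.toStalk
      ((DerivedCategory.homologyFunctor (ModuleCat.{u} A) i).obj M) z).hom c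
      ((hm.trans h0).trans (smul_zero c).symm)
  have e1 := (Scheme.Modules.toPresheaf (Spec A) ⋙ TopCat.Presheaf.stalkFunctor Ab.{u} z).mapIso (eH i)
  have e2 := (Scheme.Modules.restrictStalkNatIso hU.fromSpec z).app (DCoh.HD K i)
  have hx' : hU.fromSpec.base z = x := hU.fromSpec_primeIdealOf ⟨x, hxU⟩
  rw [← hx']
  haveI : Subsingleton ((Scheme.Modules.toPresheaf (Spec A) ⋙ TopCat.Presheaf.stalkFunctor Ab.{u} z).obj
    ((tilde.functor A).obj ((DerivedCategory.homologyFunctor (ModuleCat.{u} A) i).obj M))) := hz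
  exact (e1 ≪≫ e2).addCommGroupIsoToAddEquiv.symm.toEquiv.subsingleton

end Groth.Agent.DEqT
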