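import Groth.Agent.DEqT.TwistSys
import Groth.Agent.KFlatLib.Scheme.CohD
import Groth.Agent.QCoh.FT
import Groth.Agent.QCoh.Qcqs
import Groth.Prelude.Def_KLin
import Mathlib.Algebra.Homology.DerivedCategory.Linear

/-!
# Recognising vanishing and coherence on projective schemes from maps out of negative twists
-/

set_option linter.style.haveILetI false
set_option linter.unusedSectionVars false
set_option backward.isDefEq.respectTransparency false

universe u

open CategoryTheory CategoryTheory.Limits AlgebraicGeometry TopologicalSpace Opposite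

attribute [local instance] HasDerivedCategory.standard

namespace Groth.Agent.DEqT.Proj

open KFlatLib

/-- A map of single complexes commutes with scalars. -/
theorem single_map_smul {C : Type*} [Category C] [Abelian C] {S : Type*} [Ring S] [Linear S C] {M : C}
    (r : S) : (HomologicalComplex.single C (ComplexShape.up ℤ) 0).map (r • 𝟙 M) =
      r • 𝟙 ((HomologicalComplex.single C (ComplexShape.up ℤ) 0).obj M) := by
  apply HomologicalComplex.from_single_hom_ext
  simp [HomologicalComplex.single_map_f_self]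

section General

variable {P : Scheme.{u}}

/-- A module which is zero on a cover is zero. -/
theorem isZero_of_restrict {M : P.Modules} {κ : Type*} (U : κ → P.Opens) (hU : ⨆ j, U j = ⊤)
    (h : ∀ j, IsZero ((Scheme.Modules.restrictFunctor (U j).ι).obj M)) : IsZero M := by
  refine (IsZero.iff_id_eq_zero _).2 (Scheme.Modules.hom_ext _ _ fun V => ?_)
  ext s
  refine QCoh.eq_zero_of_locally V _ fun x hx => ?_
  obtain ⟨j, hj⟩ := Opens.mem_iSup.1 (hU.ge (trivial : x ∈ (⊤ : P.Opens)))
  refine ⟨(U j).ι ''ᵁ ((U j).ι ⁻¹ᵁ V), homOfLE ((U j).ι.image_preimage_le _), ⟨⟨x, hj⟩, hx, rfl⟩, ?_⟩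
  exact congr($((IsZero.iff_id_eq_zero _).1 (h j)).app ((U j).ι ⁻¹ᵁ V) _)

/-- An object with zero cohomology is zero. -/
theorem isZero_of_HD {K : DCoh.D P} (h : ∀ n, IsZero (DCoh.HD K n)) : IsZero K := by
  refine IsZero.of_iso ?_ (DerivedCategory.Q.objObjPreimageIso K).symm
  let C := DerivedCategory.Q.objPreimage K
  have hC : ∀ n, IsZero (C.homology n) := fun n => (h n).of_iso
    (((DerivedCategory.homologyFunctorFactors P.Modules n).app C).symm ≪≫
      (DerivedCategory.homologyFunctor P.Modules n).mapIso (DerivedCategory.Q.objObjPreimageIso K))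
  haveI : QuasiIso (0 : C ⟶ C) := ⟨fun n => by
    rw [quasiIsoAt_iff_isIso_homologyMap]
    exact ⟨⟨0, (hC n).eq_of_src _ _, (hC n).eq_of_src _ _⟩⟩⟩
  haveI := isIso_Q_map (0 : C ⟶ C) inferInstance
  refine (IsZero.iff_id_eq_zero _).2 ?_
  rw [← IsIso.inv_hom_id (DerivedCategory.Q.map (0 : C ⟶ C))]
  simp

/-- An object which is zero on a cover is zero. -/
theorem isZero_of_rho {K : DCoh.D P} {κ : Type*} (U : κ → P.Opens) (hU : ⨆ j, U j = ⊤)
    (h : ∀ j, IsZero ((rho (U j).ι).obj K)) : IsZero K :=
  isZero_of_HD fun n => isZero_of_restrict U hU fun j =>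
    IsZero.of_iso ((DerivedCategory.homologyFunctor _ n).map_isZero (h j))
      (restrictHDIso (U j).ι K n).symm

variable (n : ℤ) {M N : P.Modules}

/-- Single complexes in degree `n` from degree `0`. -/
noncomputable def singleShift (M : P.Modules) :
    (DerivedCategory.singleFunctor P.Modules n).obj M ≅
      (DerivedCategory.Q.obj ((HomologicalComplex.single P.Modules (ComplexShape.up ℤ) 0).obj M))⟦-n⟧ :=
  (((DerivedCategory.singleFunctors P.Modules).shiftIso (-n) n 0 (by omega)).app M).symm ≪≫
    (shiftFunctor (DCoh.D P) (-n)).mapIso ((DerivedCategory.singleFunctorIsoCompQ P.Modules 0).app M)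

theorem singleShift_naturality (g : M ⟶ N) :
    (DerivedCategory.singleFunctor P.Modules n).map g ≫ (singleShift n N).hom =
      (singleShift n M).hom ≫ (DerivedCategory.Q.map
        ((HomologicalComplex.single P.Modules (ComplexShape.up ℤ) 0).map g))⟦-n⟧' := by
  simp only [singleShift, Iso.trans_hom, Iso.symm_hom, Iso.app_inv, Functor.mapIso_hom, Iso.app_hom,
    Category.assoc]
  rw [← Category.assoc, ((DerivedCategory.singleFunctors P.Modules).shiftIso (-n) n 0 (by omega)).inv.naturality g,
    Category.assoc]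
  refine congrArg (_ ≫ ·) ?_
  rw [Functor.comp_map, ← Functor.map_comp, ← Functor.map_comp]
  exact congrArg (shiftFunctor (DCoh.D P) (-n)).map
    ((DerivedCategory.singleFunctorIsoCompQ P.Modules 0).hom.naturality g)

/-- A module is the cohomology of its single complex. -/
noncomputable def singleHD (M : P.Modules) :
    M ≅ DCoh.HD ((DerivedCategory.singleFunctor P.Modules n).obj M) n :=
  (HomologicalComplex.singleObjHomologySelfIso (ComplexShape.up ℤ) n M).symm ≪≫
    ((DerivedCategory.homologyFunctorFactors P.Modules n).app _).symm ≪≫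
    (DerivedCategory.homologyFunctor P.Modules n).mapIso
      ((DerivedCategory.singleFunctorIsoCompQ P.Modules n).app M).symm

theorem singleHD_naturality (g : M ⟶ N) :
    g ≫ (singleHD n N).hom = (singleHD n M).hom ≫
      (DerivedCategory.homologyFunctor P.Modules n).map
        ((DerivedCategory.singleFunctor P.Modules n).map g) := by
  simp only [singleHD, Iso.trans_hom, Iso.symm_hom, Iso.app_inv, Functor.mapIso_hom, Category.assoc]
  have h1 : g ≫ (HomologicalComplex.singleObjHomologySelfIso (ComplexShape.up ℤ) n N).inv =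
      (HomologicalComplex.singleObjHomologySelfIso (ComplexShape.up ℤ) n M).inv ≫
        HomologicalComplex.homologyMap ((HomologicalComplex.single P.Modules (ComplexShape.up ℤ) n).map g) n := by
    rw [Iso.eq_inv_comp, ← Category.assoc, ← HomologicalComplex.singleObjHomologySelfIso_hom_naturality,
      Category.assoc, Iso.hom_inv_id, Category.comp_id]
  rw [reassoc_of% h1]
  refine congrArg (_ ≫ ·) ?_
  refine ((DerivedCategory.homologyFunctorFactors P.Modules n).inv.naturality_assoc _ _).trans ?_
  refine congrArg (_ ≫ ·) ?_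
  rw [Functor.comp_map, ← Functor.map_comp, ← Functor.map_comp]
  exact congrArg (DerivedCategory.homologyFunctor P.Modules n).map
    ((DerivedCategory.singleFunctorIsoCompQ P.Modules n).inv.naturality g)

variable (K : DCoh.D P)

/-- Transport of maps into a shift. -/
noncomputable def toPsi (M : P.Modules)
    (φ : DerivedCategory.Q.obj ((HomologicalComplex.single P.Modules (ComplexShape.up ℤ) 0).obj M) ⟶ K⟦n⟧) :
    (DerivedCategory.singleFunctor P.Modules n).obj M ⟶ K :=
  (singleShift n M).hom ≫ φ⟦-n⟧' ≫ (shiftFunctorCompIsoId (DCoh.D P) n (-n) (by omega)).hom.app K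

theorem toPsi_surjective (M : P.Modules) (ψ : (DerivedCategory.singleFunctor P.Modules n).obj M ⟶ K) :
    ∃ φ, toPsi n K M φ = ψ := by
  obtain ⟨φ, hφ⟩ := (shiftFunctor (DCoh.D P) (-n)).map_surjective
    ((singleShift n M).inv ≫ ψ ≫ (shiftFunctorCompIsoId (DCoh.D P) n (-n) (by omega)).inv.app K)
  refine ⟨φ, ?_⟩
  simp [toPsi, hφ]

/-- The induced map on cohomology. -/
noncomputable def evHom (M : P.Modules)
    (φ : DerivedCategory.Q.obj ((HomologicalComplex.single P.Modules (ComplexShape.up ℤ) 0).obj M) ⟶ K⟦n⟧) :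
    M ⟶ DCoh.HD K n :=
  (singleHD n M).hom ≫ (DerivedCategory.homologyFunctor P.Modules n).map (toPsi n K M φ)

theorem evHom_comp (g : M ⟶ N)
    (φ : DerivedCategory.Q.obj ((HomologicalComplex.single P.Modules (ComplexShape.up ℤ) 0).obj N) ⟶ K⟦n⟧) :
    evHom n K M (DerivedCategory.Q.map
      ((HomologicalComplex.single P.Modules (ComplexShape.up ℤ) 0).map g) ≫ φ) = g ≫ evHom n K N φ := by
  have h : toPsi n K M (DerivedCategory.Q.map
      ((HomologicalComplex.single P.Modules (ComplexShape.up ℤ) 0).map g) ≫ φ) =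
      (DerivedCategory.singleFunctor P.Modules n).map g ≫ toPsi n K N φ := by
    simp only [toPsi]
    rw [Functor.map_comp, Category.assoc, ← Category.assoc (singleShift n M).hom,
      ← singleShift_naturality n g, Category.assoc]
  simp only [evHom]
  rw [h, Functor.map_comp, ← Category.assoc, ← singleHD_naturality n g, Category.assoc]

theorem evHom_add (M : P.Modules)
    (φ φ' : DerivedCategory.Q.obj ((HomologicalComplex.single P.Modules (ComplexShape.up ℤ) 0).obj M) ⟶ K⟦n⟧) :
    evHom n K M (φ + φ') = evHom n K M φ + evHom n K M φ' := by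
  simp [evHom, toPsi]

/-- Maps to the cycles of a representing complex give maps in the derived category. -/
theorem exists_evHom_eq {C : CochainComplex P.Modules ℤ} (e : DerivedCategory.Q.obj C ≅ K) (M : P.Modules)
    (z : M ⟶ C.cycles n) :
    ∃ φ, evHom n K M φ = z ≫ C.homologyπ n ≫
      ((DerivedCategory.homologyFunctorFactors P.Modules n).app C).inv ≫
      (DerivedCategory.homologyFunctor P.Modules n).map e.hom := by
  let g : (HomologicalComplex.single P.Modules (ComplexShape.up ℤ) n).obj M ⟶ C :=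
    HomologicalComplex.mkHomFromSingle (z ≫ C.iCycles n) fun j _ => by
      rw [Category.assoc, HomologicalComplex.iCycles_d, comp_zero]
  have hg : (HomologicalComplex.singleObjHomologySelfIso (ComplexShape.up ℤ) n M).inv ≫
      HomologicalComplex.homologyMap g n = z ≫ C.homologyπ n := by
    rw [Iso.inv_comp_eq]
    refine (cancel_epi (((HomologicalComplex.single P.Modules (ComplexShape.up ℤ) n).obj M).homologyπ n)).1 ?_
    rw [HomologicalComplex.homologyπ_naturality,
      HomologicalComplex.homologyπ_singleObjHomologySelfIso_hom_assoc, ← Category.assoc _ z]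
    refine congrArg (· ≫ _) ((cancel_mono (C.iCycles n)).1 ?_)
    rw [HomologicalComplex.cyclesMap_i, HomologicalComplex.singleObjCyclesSelfIso_hom,
      HomologicalComplex.mkHomFromSingle_f, Category.assoc, Category.assoc]
  obtain ⟨φ, hφ⟩ := toPsi_surjective n K M
    (((DerivedCategory.singleFunctorIsoCompQ P.Modules n).app M).hom ≫ DerivedCategory.Q.map g ≫ e.hom)
  refine ⟨φ, ?_⟩
  rw [evHom, hφ]
  simp only [singleHD, Iso.trans_hom, Iso.symm_hom, Iso.app_inv, Iso.app_hom, Functor.mapIso_hom, Category.assoc]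
  rw [← Functor.map_comp, Iso.inv_hom_id_app_assoc, Functor.map_comp]
  refine Eq.trans ?_ ((Category.assoc _ _ _).trans (congrArg (z ≫ ·) rfl))
  rw [← hg, Category.assoc]
  exact congrArg (_ ≫ ·)
    ((DerivedCategory.homologyFunctorFactors P.Modules n).inv.naturality_assoc g _).symm

theorem app_add_apply {f g : M ⟶ N} (U : P.Opens) (x : Γ(M, U)) :
    (f + g).app U x = f.app U x + g.app U x := rfl

theorem app_comp_apply {L : P.Modules} (f : L ⟶ M) (g : M ⟶ N) (U : P.Opens) (x : Γ(L, U)) :
    (f ≫ g).app U x = g.app U (f.app U x) := rfl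

/-- Evaluation of the induced map on cohomology at a section. -/
noncomputable def evAt (M : P.Modules) (U : P.Opens) (x : Γ(M, U)) :
    (DerivedCategory.Q.obj ((HomologicalComplex.single P.Modules (ComplexShape.up ℤ) 0).obj M) ⟶ K⟦n⟧) →+
      Γ(DCoh.HD K n, U) :=
  AddMonoidHom.mk' (fun φ => (evHom n K M φ).app U x) fun φ φ' =>
    (congrArg (fun h : M ⟶ DCoh.HD K n => h.app U x) (evHom_add n K M φ φ')).trans (app_add_apply U x)

theorem evAt_comp (g : M ⟶ N) (U : P.Opens) (x : Γ(M, U))
    (φ : DerivedCategory.Q.obj ((HomologicalComplex.single P.Modules (ComplexShape.up ℤ) 0).obj N) ⟶ K⟦n⟧) :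
    evAt n K M U x (DerivedCategory.Q.map
      ((HomologicalComplex.single P.Modules (ComplexShape.up ℤ) 0).map g) ≫ φ) =
      evAt n K N U (g.app U x) φ :=
  (congrArg (fun h : M ⟶ DCoh.HD K n => h.app U x) (evHom_comp n K g φ)).trans (app_comp_apply g _ U x)

theorem evAt_smul_point (M : P.Modules) (U : P.Opens) (x : Γ(M, U)) (c : Γ(P, U))
    (φ : DerivedCategory.Q.obj ((HomologicalComplex.single P.Modules (ComplexShape.up ℤ) 0).obj M) ⟶ K⟦n⟧) :
    evAt n K M U (c • x) φ = c • evAt n K M U x φ :=
  Scheme.Modules.Hom.app_smul (evHom n K M φ) c x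

theorem evAt_smul (R₀ : Type u) [CommRing R₀] [P.Over (Spec (CommRingCat.of R₀))] (M : P.Modules)
    (U : P.Opens) (x : Γ(M, U)) (r : R₀)
    (φ : DerivedCategory.Q.obj ((HomologicalComplex.single P.Modules (ComplexShape.up ℤ) 0).obj M) ⟶ K⟦n⟧) :
    evAt n K M U x (r • φ) = P.presheaf.map (homOfLE (le_top : U ≤ ⊤)).op
      (Coh.toGlobal (P ↘ Spec (CommRingCat.of R₀)) r) • evAt n K M U x φ := by
  have e : r • φ = DerivedCategory.Q.map ((HomologicalComplex.single _ (ComplexShape.up ℤ) 0).map
      (r • 𝟙 M)) ≫ φ := by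
    rw [single_map_smul, Functor.map_smul, CategoryTheory.Functor.map_id, Linear.smul_comp,
      Category.id_comp]
  rw [e, evAt_comp, KLin.smul_app_apply, evAt_smul_point]
  rfl

/-- Sections lifting to cycles of a representing complex are values. -/
theorem exists_evAt_eq {C : CochainComplex P.Modules ℤ} (e : DerivedCategory.Q.obj C ≅ K) (M : P.Modules)
    (z : M ⟶ C.cycles n) (U : P.Opens) (x : Γ(M, U)) :
    ∃ φ, evAt n K M U x φ = (C.homologyπ n ≫
      (((DerivedCategory.homologyFunctorFactors P.Modules n).app C).symm ≪≫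
        (DerivedCategory.homologyFunctor P.Modules n).mapIso e).hom).app U (z.app U x) := by
  obtain ⟨φ, hφ⟩ := exists_evHom_eq n K e M z
  exact ⟨φ, (congrArg (fun h : M ⟶ DCoh.HD K n => h.app U x) hφ).trans (app_comp_apply z _ U x)⟩

theorem isIso_rho_single {U : Scheme.{u}} (j : U ⟶ P) [IsOpenImmersion j] (g : M ⟶ N)
    [IsIso ((Scheme.Modules.restrictFunctor j).map g)] :
    IsIso ((rho j).map (DerivedCategory.Q.map
      ((HomologicalComplex.single P.Modules (ComplexShape.up ℤ) 0).map g))) := by
  refine (NatIso.isIso_map_iff (rhoQ j)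
    ((HomologicalComplex.single P.Modules (ComplexShape.up ℤ) 0).map g)).2 ?_
  haveI : IsIso ((rCx j).map ((HomologicalComplex.single P.Modules (ComplexShape.up ℤ) 0).map g)) :=
    (NatIso.isIso_map_iff (HomologicalComplex.singleMapHomologicalComplex
      (Scheme.Modules.restrictFunctor j) (ComplexShape.up ℤ) 0) g).2
      (inferInstanceAs (IsIso ((HomologicalComplex.single U.Modules (ComplexShape.up ℤ) 0).map
        ((Scheme.Modules.restrictFunctor j).map g))))
  exact inferInstanceAs (IsIso (DerivedCategory.Q.map ((rCx j).map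
    ((HomologicalComplex.single P.Modules (ComplexShape.up ℤ) 0).map g))))

end General

/-- Modules with commuting maps `x j d : T (d+1) ⟶ T d` which behave like the negative twists and the
linear forms on a projective scheme. -/
structure TwistData (P : Scheme.{u}) (κ : Type u) where
  /-- The modules. -/
  T : ℕ → P.Modules
  /-- The maps. -/
  x : κ → ∀ d, T (d + 1) ⟶ T d
  comm : ∀ j l d, x j (d + 1) ≫ x l d = x l (d + 1) ≫ x j d
  /-- The open cover. -/
  U : κ → P.Opens
  cover : ⨆ j, U j = ⊤
  isIso : ∀ j d, IsIso ((Scheme.Modules.restrictFunctor (U j).ι).map (x j d))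
  /-- The generators on the charts. -/
  gen : ∀ i d, Γ(T d, U i)
  /-- The ratios. -/
  coef : κ → ∀ i, Γ(P, U i)
  x_gen : ∀ i j d, (x j d).app (U i) (gen i (d + 1)) = coef j i • gen i d
  exists_hom : ∀ (F : P.Modules), Coh.IsQCoh F → ∀ (i : κ) (s : Γ(F, U i)),
    ∃ (d : ℕ) (φ : T d ⟶ F), φ.app (U i) (gen i d) = s

/-- Morphisms out of a quasi-coherent module agree if they agree on an affine cover. -/
theorem eq_of_app_eq_cover' {P : Scheme.{u}} {κ : Type*} {U : κ → P.Opens} (hU : ⨆ j, U j = ⊤)
    (haff : ∀ j, IsAffineOpen (U j)) {F T : P.Modules} (hF : Coh.IsQCoh F) (g g' : F ⟶ T)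
    (h : ∀ j y, g.app (U j) y = g'.app (U j) y) : g = g' := by
  refine Scheme.Modules.hom_ext _ _ fun V => ?_
  ext y
  refine TopCat.Sheaf.eq_of_locally_eq' ⟨T.presheaf, T.isSheaf⟩
    (fun p : {p : Σ j, Γ(P, U j) // P.basicOpen p.2 ≤ V} => P.basicOpen p.1.2) V
    (fun p => homOfLE p.2) ?_ _ _ fun p => ?_
  · intro x hx
    obtain ⟨j, hxj⟩ := Opens.mem_iSup.1 (hU.ge (trivial : x ∈ (⊤ : P.Opens)))
    obtain ⟨r, hr, hxr⟩ := (haff j).exists_basicOpen_le (V := V) ⟨x, hx⟩ hxj
    exact Opens.mem_iSup.2 ⟨⟨⟨j, r⟩, hr⟩, hxr⟩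
  · obtain ⟨⟨j, r⟩, hr⟩ := p
    show T.presheaf.map (homOfLE hr).op (g.app V y) = T.presheaf.map (homOfLE hr).op (g'.app V y)
    rw [← QCoh.map_app_comm, ← QCoh.map_app_comm]
    obtain ⟨n, t, ht⟩ := QCoh.exists_pow_smul_eq_map hF (haff j) r (F.presheaf.map (homOfLE hr).op y)
    have e : g.app _ (F.presheaf.map (homOfLE (P.basicOpen_le r)).op t) =
        g'.app _ (F.presheaf.map (homOfLE (P.basicOpen_le r)).op t) := by
      rw [QCoh.map_app_comm, QCoh.map_app_comm, h j t]
    rw [ht, Scheme.Modules.Hom.app_smul, Scheme.Modules.Hom.app_smul] at e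
    have hu : IsUnit (P.presheaf.map (homOfLE (P.basicOpen_le r)).op r) :=
      RingedSpace.isUnit_res_basicOpen _ r
    exact (hu.pow n).smul_left_cancel.1 e

namespace TwistData

variable {P : Scheme.{u}} {κ : Type u} (S : TwistData P κ)

/-- The system of single complexes. -/
noncomputable def sys : TwistSys P.Modules κ where
  X d := (HomologicalComplex.single _ (ComplexShape.up ℤ) 0).obj (S.T d)
  x j d := (HomologicalComplex.single _ (ComplexShape.up ℤ) 0).map (S.x j d)
  comm j l d := by rw [← Functor.map_comp, ← Functor.map_comp, S.comm]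

theorem isZero_cones (l : List κ) (hl : ∀ j, j ∈ l) (d : ℕ) :
    IsZero (DerivedCategory.Q.obj ((S.sys.cones l).X d)) :=
  isZero_of_rho S.U S.cover fun j =>
    S.sys.isZero_map_cones (rho (S.U j).ι) j (fun e =>
      haveI := S.isIso j e
      isIso_rho_single (S.U j).ι (S.x j e)) l (hl j) d

variable (K : DCoh.D P)

/-- Evaluation at the generator of a chart. -/
noncomputable def ev (i : κ) (n : ℤ) (d : ℕ) : S.sys.H K n d →+ Γ(DCoh.HD K n, S.U i) :=
  evAt n K (S.T d) (S.U i) (S.gen i d)

variable (R₀ : Type u) [CommRing R₀] [P.Over (Spec (CommRingCat.of R₀))]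

theorem ev_op (i j : κ) (n : ℤ) (d : ℕ) (φ : S.sys.H K n d) :
    S.ev K i n (d + 1) (S.sys.op R₀ K n j d φ) = S.coef j i • S.ev K i n d φ := by
  refine (congrArg (S.ev K i n (d + 1)) (TwistSys.op_apply _ K n j d φ)).trans ?_
  refine (evAt_comp n K (S.x j d) (S.U i) (S.gen i (d + 1)) φ).trans ?_
  refine (congrArg (fun y => evAt n K (S.T d) (S.U i) y φ) (S.x_gen i j d)).trans ?_
  exact evAt_smul_point n K (S.T d) (S.U i) (S.gen i d) (S.coef j i) φ

variable {C : CochainComplex P.Modules ℤ} (hC : ∀ p, Coh.IsQCoh (C.X p))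
  (eC : DerivedCategory.Q.obj C ≅ K) (hK : DCoh.IsQCohD K)

include hC eC hK in
/-- Sections of the cohomology over a chart come from maps out of the twists. -/
theorem exists_ev_eq (i : κ) (hi : IsAffineOpen (S.U i)) (n : ℤ) (s : Γ(DCoh.HD K n, S.U i)) :
    ∃ d φ, S.ev K i n d φ = s := by
  let e : C.homology n ≅ DCoh.HD K n :=
    ((DerivedCategory.homologyFunctorFactors _ n).app C).symm ≪≫
      (DerivedCategory.homologyFunctor _ n).mapIso eC
  have hcyc : Coh.IsQCoh (C.cycles n) :=
    (QCoh.isQCoh_iff_iso ((kernelIsKernel (C.d n (n + 1))).conePointUniqueUpToIso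
      (C.cyclesIsKernel n (n + 1) (by simp)))).1 (QCoh.isQCoh_kernel (hC n) (hC (n + 1)) _)
  haveI : Epi (C.homologyπ n ≫ e.hom) := epi_comp _ _
  obtain ⟨z, hz⟩ := QCoh.app_surjective_of_epi hcyc (hK n) (C.homologyπ n ≫ e.hom) hi s
  obtain ⟨d, ζ, hζ⟩ := S.exists_hom _ hcyc i z
  obtain ⟨φ, hφ⟩ := exists_evAt_eq n K eC (S.T d) ζ (S.U i) (S.gen i d)
  refine ⟨d, φ, ?_⟩
  rw [hζ] at hφ
  exact hφ.trans hz

variable [Fintype κ]

include hC eC hK in
/-- The cohomology in a degree vanishes if the maps from the first twists vanish around it. -/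
theorem isZero_HD_of_hom_twist (haff : ∀ i, IsAffineOpen (S.U i)) (n : ℤ)
    (h : ∀ d : ℕ, d < Fintype.card κ → ∀ j : ℤ, n - (Fintype.card κ : ℤ) ≤ j →
      j ≤ n + (Fintype.card κ : ℤ) → ∀ φ : S.sys.H K j d, φ = 0) : IsZero (DCoh.HD K n) := by
  have hz := TwistSys.eq_zero_of_cones_at K Finset.univ.toList S.sys
    (S.isZero_cones _ fun j => by simp) n (by simpa using h)
  refine (IsZero.iff_id_eq_zero _).2
    (eq_of_app_eq_cover' S.cover haff (hK n) _ _ fun i s => ?_)
  obtain ⟨d, φ, rfl⟩ := S.exists_ev_eq K hC eC hK i (haff i) n s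
  rw [hz d φ, map_zero, map_zero, map_zero]

include hC eC hK in
/-- An object receiving no maps from the first twists is zero. -/
theorem isZero_of_hom_twist (haff : ∀ i, IsAffineOpen (S.U i))
    (h : ∀ d : ℕ, d < Fintype.card κ → ∀ (n : ℤ) (φ : S.sys.H K n d), φ = 0) : IsZero K :=
  isZero_of_HD fun n => S.isZero_HD_of_hom_twist K hC eC hK haff n fun d hd j _ _ => h d hd j

include hC eC hK in
/-- If the maps from the first twists form finite modules the cohomology is finite on affine charts. -/
theorem finite_sections_of_finite_hom_twist [IsNoetherianRing R₀]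
    (h : ∀ d : ℕ, d < Fintype.card κ → ∀ n : ℤ, Module.Finite R₀ (S.sys.H K n d))
    (i : κ) (hi : IsAffineOpen (S.U i)) (n : ℤ) :
    Module.Finite Γ(P, S.U i) Γ(DCoh.HD K n, S.U i) := by
  classical
  have hcones := S.isZero_cones Finset.univ.toList fun j => by simp
  have hfin := TwistSys.finite_of_cones (R := R₀) K Finset.univ.toList S.sys hcones (by simpa using h)
  obtain ⟨D₀, hD₀⟩ := TwistSys.stab_of_cones (R := R₀) K Finset.univ.toList S.sys hcones hfin n
  choose b hb using fun d => (hfin d n).fg_top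
  let M := Submodule.span Γ(P, S.U i)
    (↑((Finset.range (D₀ + 1)).biUnion fun d => (b d).image (S.ev K i n d)) :
      Set Γ(DCoh.HD K n, S.U i))
  have hsmall : ∀ d, d ≤ D₀ → ∀ φ, S.ev K i n d φ ∈ M := fun d hd φ => by
    have hφ : φ ∈ Submodule.span R₀ (b d : Set (S.sys.H K n d)) := (hb d).symm ▸ Submodule.mem_top
    induction hφ using Submodule.span_induction with
    | mem c hc => exact Submodule.subset_span (Finset.mem_biUnion.2
        ⟨d, Finset.mem_range.2 (by omega), Finset.mem_image_of_mem _ hc⟩)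
    | zero => rw [map_zero]; exact zero_mem _
    | add x y _ _ hx hy => rw [map_add]; exact add_mem hx hy
    | smul r x _ hx =>
      have e : S.ev K i n d (r • x) = _ := evAt_smul n K R₀ (S.T d) (S.U i) (S.gen i d) r x
      rw [e]
      exact M.smul_mem _ hx
  have hM : ∀ d φ, S.ev K i n d φ ∈ M := by
    intro d
    induction d with
    | zero => exact hsmall 0 (Nat.zero_le _)
    | succ d ih =>
      by_cases hd : D₀ ≤ d
      swap
      · exact hsmall _ (by omega)
      intro φ
      have hφ := hD₀ d hd (Submodule.mem_top (x := φ))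
      induction hφ using Submodule.iSup_induction' with
      | mem j x hx =>
        obtain ⟨ψ, rfl⟩ := hx
        rw [S.ev_op K R₀ i j n d ψ]
        exact M.smul_mem _ (ih ψ)
      | zero => rw [map_zero]; exact zero_mem _
      | add x y _ _ hx hy => rw [map_add]; exact add_mem hx hy
  refine ⟨⟨_, show M = ⊤ from eq_top_iff.2 fun s _ => ?_⟩⟩
  obtain ⟨d, φ, rfl⟩ := S.exists_ev_eq K hC eC hK i hi n s
  exact hM d φ

include hC eC hK in
/-- An object whose maps from the first twists form finite modules has coherent cohomology. -/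
theorem isCohD_of_finite_hom_twist [IsNoetherianRing R₀] (haff : ∀ i, IsAffineOpen (S.U i))
    (h : ∀ d : ℕ, d < Fintype.card κ → ∀ n : ℤ, Module.Finite R₀ (S.sys.H K n d)) :
    DCoh.IsCohD K := fun n =>
  ⟨hK n, QCoh.isFT_of_finite (hK n) S.U S.cover haff fun i =>
    S.finite_sections_of_finite_hom_twist K R₀ hC eC hK h i (haff i) n⟩

end TwistData

end Groth.Agent.DEqT.Proj
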