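import Groth.Agent.KFlatLib.Scheme.InnerHom
import Groth.Agent.KFlatLib.Scheme.Derived
import Groth.Agent.TriCat.Resolve
import Mathlib.CategoryTheory.Adjunction.PartialAdjoint

/-!
# Existence of `RSheafHom`
-/

set_option linter.style.haveILetI false
set_option backward.isDefEq.respectTransparency false

universe u

open CategoryTheory CategoryTheory.Limits AlgebraicGeometry

attribute [local instance] HasDerivedCategory.standard

namespace Groth.Agent.DEqT

open KFlatLib

variable {X : Scheme.{u}}

/-- Every object has a representation of `Hom(- ⊗^L P, L)` for K-flat `P`. -/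
theorem hasRSheafHom_of_isKFlat (P : CochainComplex X.Modules ℤ) (hP : DCoh.IsKFlat P)
    [DCoh.HasLTensorCx P] : DCoh.HasRSheafHom P := by
  let c := (DCoh.tensorCxQ P).totalLeftDerivedCounit DerivedCategory.Q (qisX X)
  haveI hc := fun N => isIso_LTensorCx_counit_of_isKFlat_right P hP N
  refine Functor.isLeftAdjoint_of_rightAdjointObjIsDefined_eq_top ?_
  ext L
  simp only [Pi.top_apply, Prop.top_eq_true, iff_true]
  obtain ⟨I, hI, hinj, ⟨eL⟩⟩ := exists_kInjective_rep L
  haveI := isKInjective_iHom hP I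
  let A := (iHom P).obj I
  let ε : (DCoh.LTensorCx P).obj (DerivedCategory.Q.obj A) ⟶ L :=
    c.app A ≫ DerivedCategory.Q.map ((iHomAdj P).counit.app I) ≫ eL.inv
  have key : ∀ (N : CochainComplex X.Modules ℤ) (g : N ⟶ A),
      (DCoh.LTensorCx P).map (DerivedCategory.Q.map g) ≫ ε =
        c.app N ≫ DerivedCategory.Q.map (((iHomAdj P).homEquiv N I).symm g) ≫ eL.inv := fun N g => by
    have h : c.app N ≫ DerivedCategory.Q.map (((iHomAdj P).homEquiv N I).symm g) =
        (DCoh.LTensorCx P).map (DerivedCategory.Q.map g) ≫ c.app A ≫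
          DerivedCategory.Q.map ((iHomAdj P).counit.app I) := by
      rw [show ((iHomAdj P).homEquiv N I).symm g = _ from (iHomAdj P).homEquiv_counit N I g,
        DerivedCategory.Q.map_comp]
      exact ((Category.assoc _ _ _).symm.trans (congrArg (· ≫ _) (c.naturality g).symm)).trans
        (Category.assoc _ _ _)
    simp only [ε, ← Category.assoc] at h ⊢
    rw [h]
  have hbij : ∀ Z, Function.Bijective
      (fun a : Z ⟶ DerivedCategory.Q.obj A => (DCoh.LTensorCx P).map a ≫ ε) := fun Z => by
    obtain ⟨N, hN, ⟨e⟩⟩ := exists_kFlat_rep Z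
    suffices h : Function.Bijective (fun a : DerivedCategory.Q.obj N ⟶ DerivedCategory.Q.obj A =>
        (DCoh.LTensorCx P).map a ≫ ε) by
      refine ⟨fun z z' hz => (cancel_epi e.hom).1 (h.1 ?_), fun y => ?_⟩
      · simp only [Functor.map_comp, Category.assoc] at hz ⊢
        rw [hz]
      · obtain ⟨z, hz⟩ := h.2 ((DCoh.LTensorCx P).map e.hom ≫ y)
        refine ⟨e.inv ≫ z, ?_⟩
        simp only [Functor.map_comp, Category.assoc] at hz ⊢
        rw [hz, ← Functor.map_comp_assoc, e.inv_hom_id, CategoryTheory.Functor.map_id, Category.id_comp]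
    refine ⟨fun a a' h => ?_, fun y => ?_⟩
    · obtain ⟨g, rfl⟩ := exists_Q_map a
      obtain ⟨g', rfl⟩ := exists_Q_map a'
      simp only [key] at h
      obtain ⟨H⟩ := (Inner.nonempty_homotopy_iff (DCoh.tensorBi (X := X)) g g').2
        (homotopy_of_Q_map_eq _ _ ((cancel_mono eL.inv).1 ((cancel_epi (c.app N)).1 h)))
      exact DerivedCategory.Q_map_eq_of_homotopy _ H
    · obtain ⟨b, hb⟩ := exists_Q_map (inv (c.app N) ≫ y ≫ eL.hom)
      refine ⟨DerivedCategory.Q.map ((iHomAdj P).homEquiv N I b), ?_⟩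
      simp only [key, Equiv.symm_apply_apply, hb, Category.assoc, Iso.hom_inv_id, Category.comp_id,
        IsIso.hom_inv_id_assoc]
  exact Functor.RepresentableBy.isRepresentable
    (Y := DerivedCategory.Q.obj A)
    { homEquiv := fun {Z} => Equiv.ofBijective _ (hbij Z)
      homEquiv_comp := fun {Z Z'} f g => by
        change (DCoh.LTensorCx P).map (f ≫ g) ≫ ε = (DCoh.LTensorCx P).map f ≫ (DCoh.LTensorCx P).map g ≫ ε
        rw [Functor.map_comp, Category.assoc] }

/-- `RSheafHom` always exists. -/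
theorem hasRSheafHom (E : CochainComplex X.Modules ℤ) [DCoh.HasLTensorCx E] : DCoh.HasRSheafHom E := by
  let P := (kRes X).obj E
  haveI := (flatCover X).quasiIso_ψ E
  haveI := hasLTensorCx P
  obtain ⟨e⟩ := nonempty_LTensorCx_congr (P := P) (E := E) ((flatCover X).ψ.app E)
  haveI := hasRSheafHom_of_isKFlat P (isKFlat_kRes E)
  exact ((DCoh.RSheafHomAdj P).ofNatIsoLeft e).isLeftAdjoint

end Groth.Agent.DEqT
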