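import Groth.Agent.DEqT.SmallCompact
import Mathlib.Algebra.Category.ModuleCat.Abelian
import Mathlib.CategoryTheory.Linear.Yoneda
import Mathlib.CategoryTheory.Triangulated.Opposite.Pretriangulated
import Mathlib.Algebra.Group.Shrink
import Mathlib.LinearAlgebra.FiniteDimensional.Basic
import Mathlib.RingTheory.Artinian.Module
import Mathlib.Order.Zorn

/-!
# Cohomological functors with finite dimensional values on compact objects are representable

For a cohomological `H` with finite dimensional values on the compact objects, the functor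
`X ↦ Nat(Hom(-, X), H)` is cohomological and turns coproducts into products (`H` is injective as a
module over the compact objects), so Brown representability applies.
-/

set_option linter.style.haveILetI false
set_option linter.unusedSectionVars false
set_option backward.defeqAttrib.useBackward true
set_option backward.isDefEq.respectTransparency false

universe w v u

open CategoryTheory CategoryTheory.Limits CategoryTheory.Pretriangulated Opposite ZeroObject
open Groth.Agent.TriCat
open scoped CategoryTheory.Pretriangulated.Opposite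

namespace Groth.Agent.DEqT.RepCompact

variable {k : Type w} [Field k] {D : Type u} [Category.{v} D] [Preadditive D] [Linear k D]
  [HasCoproducts.{v} D]

variable (D) in
/-- The compact objects. -/
abbrev Sc : Type u := ObjectProperty.FullSubcategory (fun K : D => CohDer.IsCompactObject K)

variable (H : (Sc D)ᵒᵖ ⥤ ModuleCat.{v} k)

/-- Natural transformations `Hom(-, X) ⟶ H` on compact objects. -/
def Tr (X : D) : Submodule k (∀ C : Sc D, (C.obj ⟶ X) →ₗ[k] H.obj (op C)) where
  carrier := {η | ∀ (C C' : Sc D) (f : C' ⟶ C) (z : C.obj ⟶ X),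
    η C' (f.hom ≫ z) = H.map f.op (η C z)}
  add_mem' := by
    intro η η' h h' C C' f z
    simp [h C C' f z, h' C C' f z]
  zero_mem' := by
    intro C C' f z
    simp
  smul_mem' := by
    intro r η h C C' f z
    simp [h C C' f z]

/-- Pull back along a morphism. -/
def pull {X Y : D} (g : X ⟶ Y) : Tr H Y →+ Tr H X where
  toFun η := ⟨fun C => η.1 C ∘ₗ Linear.rightComp k C.obj g, fun C C' f z => by
    simpa [Category.assoc] using η.2 C C' f (z ≫ g)⟩
  map_zero' := by ext C z; simp
  map_add' η η' := by ext C z; simp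

lemma pull_id (X : D) : pull H (𝟙 X) = AddMonoidHom.id _ := by
  ext η C z; simp [pull]

lemma pull_comp {X Y Z : D} (g : X ⟶ Y) (g' : Y ⟶ Z) :
    pull H (g ≫ g') = (pull H g).comp (pull H g') := by
  ext η C z; simp [pull]

lemma small_tr (U : Set D) [Small.{v} {x // x ∈ U}] (hU : ∀ L ∈ U, CohDer.IsCompactObject L)
    (hret : ∀ K : D, CohDer.IsCompactObject K → ∃ L ∈ U, Nonempty (Retract K L)) (X : D) :
    Small.{v} (Tr H X) := by
  let e : Tr H X → ∀ L : {x // x ∈ U}, (L.1 ⟶ X) → H.obj (op ⟨L.1, hU _ L.2⟩) :=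
    fun η L => η.1 ⟨L.1, hU _ L.2⟩
  refine small_of_injective (f := e) (fun η η' h => Subtype.ext (funext fun C => LinearMap.ext fun z => ?_))
  obtain ⟨L, hL, ⟨r⟩⟩ := hret C.obj C.property
  let i : C ⟶ ⟨L, hU L hL⟩ := ObjectProperty.homMk r.i
  have hz : z = i.hom ≫ r.r ≫ z := by simp [i]
  rw [hz, η.2 _ _ i, η'.2 _ _ i]
  exact congrArg _ (congrFun (congrFun h ⟨L, hL⟩) _)

/-- The extended functor. -/
noncomputable def ext' [∀ X : D, Small.{v} (Tr H X)] : Dᵒᵖ ⥤ AddCommGrpCat.{v} where
  obj X := AddCommGrpCat.of (Shrink.{v} (Tr H X.unop))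
  map {X Y} g := AddCommGrpCat.ofHom
    (((Shrink.addEquiv (α := Tr H Y.unop)).symm.toAddMonoidHom.comp (pull H g.unop)).comp
      (Shrink.addEquiv (α := Tr H X.unop)).toAddMonoidHom)
  map_id X := by ext η; simp [pull_id]
  map_comp f g := by ext η; simp [pull_comp]

lemma addEquiv_ext'_map [∀ X : D, Small.{v} (Tr H X)] {X Y : Dᵒᵖ} (g : X ⟶ Y)
    (η : (ext' H).obj X) :
    (Shrink.addEquiv (α := Tr H Y.unop)) ((ext' H).map g η) =
      pull H g.unop ((Shrink.addEquiv (α := Tr H X.unop)) η) := by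
  simp [ext']

variable [H.Additive]
  (hlin : ∀ (X Y : Sc D) (r : k) (f : X ⟶ Y), H.map (r • f).op = r • H.map f.op)

section products

variable [HasZeroObject D]

lemma pull_ι_bijective {τ : Type v} (X : τ → D) :
    Function.Bijective (fun η : Tr H (∐ X) => fun i => pull H (Sigma.ι X i) η) := by
  classical
  constructor
  · intro η η' h
    refine Subtype.ext (funext fun C => LinearMap.ext fun z => ?_)
    obtain ⟨x, rfl⟩ := (C.property τ X).2 z
    induction x using DirectSum.induction_on with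
    | zero => simp
    | of i a =>
      simp only [CohDer.homSumToHomCoprod, DirectSum.toAddMonoid_of]
      exact LinearMap.congr_fun (congrFun (congrArg Subtype.val (congrFun h i)) C) a
    | add x y hx hy => simp only [map_add, hx, hy]
  · intro η
    let B : ∀ C : Sc D, DirectSum τ (fun i => C.obj ⟶ X i) ≃+ (C.obj ⟶ ∐ X) := fun C =>
      AddEquiv.ofBijective (CohDer.homSumToHomCoprod C.obj X) (C.property τ X)
    let val : ∀ C : Sc D, DirectSum τ (fun i => C.obj ⟶ X i) →+ H.obj (op C) := fun C =>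
      DirectSum.toAddMonoid fun i => ((η i).1 C).toAddMonoidHom
    have hB : ∀ (C : Sc D) (i : τ) (a : C.obj ⟶ X i),
        B C (DirectSum.of _ i a) = a ≫ Sigma.ι X i := fun C i a => by
      simp [B, CohDer.homSumToHomCoprod, DirectSum.toAddMonoid_of]
      rfl
    have hval : ∀ (C : Sc D) (i : τ) (a : C.obj ⟶ X i),
        val C ((B C).symm (a ≫ Sigma.ι X i)) = (η i).1 C a := fun C i a => by
      rw [← hB, AddEquiv.symm_apply_apply]
      simp [val]
    have key : ∀ (C : Sc D) {p : (C.obj ⟶ ∐ X) → Prop}, p 0 →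
        (∀ i (a : C.obj ⟶ X i), p (a ≫ Sigma.ι X i)) → (∀ x y, p x → p y → p (x + y)) →
        ∀ z, p z := by
      intro C p h0 h1 h2 z
      obtain ⟨x, rfl⟩ := (B C).surjective z
      induction x using DirectSum.induction_on with
      | zero => rwa [map_zero]
      | of i a => rw [hB]; exact h1 i a
      | add x y hx hy => rw [map_add]; exact h2 _ _ hx hy
    let θ : ∀ C : Sc D, (C.obj ⟶ ∐ X) →ₗ[k] H.obj (op C) := fun C =>
      { toFun := fun z => val C ((B C).symm z)
        map_add' := fun x y => by rw [map_add, map_add]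
        map_smul' := fun r z => by
          refine key C (p := fun z => val C ((B C).symm (r • z)) = r • val C ((B C).symm z))
            ?_ ?_ ?_ z
          · simp
          · intro i a
            rw [← Linear.smul_comp, hval, hval, map_smul]
          · intro x y hx hy
            rw [smul_add, map_add, map_add, map_add, map_add, hx, hy, smul_add] }
    refine ⟨⟨θ, fun C C' f => ?_⟩, funext fun i => Subtype.ext (funext fun C =>
      LinearMap.ext fun a => hval C i a)⟩
    refine key C ?_ ?_ ?_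
    · simp
    · intro i a
      show val C' _ = H.map f.op (val C _)
      rw [← Category.assoc, hval, hval]
      exact (η i).2 C C' f a
    · intro x y hx hy
      rw [Preadditive.comp_add, map_add, map_add, map_add, hx, hy]

end products

variable [HasZeroObject D] [HasShift D ℤ] [∀ n : ℤ, (shiftFunctor D n).Additive]
  [Pretriangulated D] [IsTriangulated D]
  (hcoh : ∀ T ∈ distTriang D, ∀ (h₁ : CohDer.IsCompactObject T.obj₁)
      (h₂ : CohDer.IsCompactObject T.obj₂) (h₃ : CohDer.IsCompactObject T.obj₃)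
      (y : H.obj (op ⟨T.obj₂, h₂⟩)),
      H.map (ObjectProperty.homMk T.mor₁ : (⟨T.obj₁, h₁⟩ : Sc D) ⟶ ⟨T.obj₂, h₂⟩).op y = 0 →
        ∃ z : H.obj (op ⟨T.obj₃, h₃⟩),
          H.map (ObjectProperty.homMk T.mor₂ : (⟨T.obj₂, h₂⟩ : Sc D) ⟶ ⟨T.obj₃, h₃⟩).op z = y)
  (hfin : ∀ X, Module.Finite k (H.obj X))

section injective

variable {Z : D}

/-- A partially defined natural transformation, given by its graphs. -/
def IsPartial (R : ∀ C : Sc D, Submodule k ((C.obj ⟶ Z) × H.obj (op C))) : Prop :=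
  (∀ C x, ((0 : C.obj ⟶ Z), x) ∈ R C → x = 0) ∧
    ∀ (C C' : Sc D) (f : C' ⟶ C) (z : C.obj ⟶ Z) (x : H.obj (op C)),
      (z, x) ∈ R C → (f.hom ≫ z, H.map f.op x) ∈ R C'

include hlin hcoh hfin in
lemma exists_value {R : ∀ C : Sc D, Submodule k ((C.obj ⟶ Z) × H.obj (op C))}
    (hR : IsPartial H R) (C₀ : Sc D) (z₀ : C₀.obj ⟶ Z) :
    ∃ x : H.obj (op C₀), ∀ (C' : Sc D) (f : C' ⟶ C₀) (y : H.obj (op C')),
      (f.hom ≫ z₀, y) ∈ R C' → H.map f.op x = y := by
  classical
  haveI := hfin (op C₀)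
  -- each single condition is solvable
  have single : ∀ (C' : Sc D) (f : C' ⟶ C₀) (y : H.obj (op C')), (f.hom ≫ z₀, y) ∈ R C' →
      ∃ x : H.obj (op C₀), H.map f.op x = y := by
    intro C' f y hy
    obtain ⟨K, g, h, hT⟩ := distinguished_cocone_triangle₁ f.hom
    have hK : CohDer.IsCompactObject K :=
      ObjectProperty.ext_of_isTriangulatedClosed₁ (fun K : D => CohDer.IsCompactObject K) _ hT
        C'.property C₀.property
    refine hcoh _ hT hK C'.property C₀.property y (hR.1 ⟨K, hK⟩ _ ?_)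
    have := hR.2 _ _ (ObjectProperty.homMk g : (⟨K, hK⟩ : Sc D) ⟶ C') _ _ hy
    rwa [ObjectProperty.homMk_hom, ← Category.assoc,
      show g ≫ f.hom = 0 from comp_distTriang_mor_zero₁₂ _ hT, zero_comp] at this
  -- minimal kernel
  let S : Set (Submodule k (H.obj (op C₀))) :=
    {K | ∃ (C' : Sc D) (f : C' ⟶ C₀) (y : H.obj (op C')),
      (f.hom ≫ z₀, y) ∈ R C' ∧ LinearMap.ker (H.map f.op).hom = K}
  let Z₀ : Sc D := ⟨(0 : D), isCompactObject_of_isZero (isZero_zero D)⟩
  obtain ⟨K, ⟨C₁, f₁, y₁, hy₁, hK⟩, hmin⟩ :=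
    (wellFounded_lt (α := Submodule k (H.obj (op C₀)))).has_min S
      ⟨_, Z₀, 0, 0, by
        show ((0 : Z₀.obj ⟶ C₀.obj) ≫ z₀, (0 : H.obj (op Z₀))) ∈ R Z₀
        rw [zero_comp]
        exact zero_mem _, rfl⟩
  obtain ⟨x, hx⟩ := single C₁ f₁ y₁ hy₁
  refine ⟨x, fun C' f y hy => ?_⟩
  -- combine the conditions `f₁` and `f`
  let B : Sc D := ⟨C₁.obj ⊞ C'.obj, ObjectProperty.ext_of_isTriangulatedClosed₂
    (fun K : D => CohDer.IsCompactObject K) _
      (binaryBiproductTriangle_distinguished C₁.obj C'.obj) C₁.property C'.property⟩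
  let p₁ : B ⟶ C₁ := ObjectProperty.homMk biprod.fst
  let p₂ : B ⟶ C' := ObjectProperty.homMk biprod.snd
  let i₁ : C₁ ⟶ B := ObjectProperty.homMk biprod.inl
  let i₂ : C' ⟶ B := ObjectProperty.homMk biprod.inr
  have e₁₁ : i₁ ≫ p₁ = 𝟙 C₁ := ObjectProperty.hom_ext _ (biprod.inl_fst)
  have e₁₂ : i₁ ≫ p₂ = 0 := ObjectProperty.hom_ext _ (biprod.inl_snd)
  have e₂₁ : i₂ ≫ p₁ = 0 := ObjectProperty.hom_ext _ (biprod.inr_fst)
  have e₂₂ : i₂ ≫ p₂ = 𝟙 C' := ObjectProperty.hom_ext _ (biprod.inr_snd)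
  let F : B ⟶ C₀ := p₁ ≫ f₁ + p₂ ≫ f
  have hy' : (F.hom ≫ z₀, H.map p₁.op y₁ + H.map p₂.op y) ∈ R B := by
    have := (R B).add_mem (hR.2 _ _ p₁ _ _ hy₁) (hR.2 _ _ p₂ _ _ hy)
    show ((p₁.hom ≫ f₁.hom + p₂.hom ≫ f.hom) ≫ z₀, _) ∈ R B
    simpa [Preadditive.add_comp] using this
  have hF₁ : i₁ ≫ F = f₁ := by simp [F, reassoc_of% e₁₁, reassoc_of% e₁₂]
  have hF₂ : i₂ ≫ F = f := by simp [F, reassoc_of% e₂₁, reassoc_of% e₂₂]
  obtain ⟨x', hx'⟩ := single B F _ hy'
  have app : ∀ {C : Sc D} (i : C ⟶ B), H.map (i ≫ F).op x' =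
      H.map (i ≫ p₁).op y₁ + H.map (i ≫ p₂).op y := by
    intro C i
    simp only [op_comp, Functor.map_comp, ModuleCat.comp_apply, hx', map_add]
  have h₁ : H.map f₁.op x' = y₁ := by
    rw [← hF₁, app i₁, e₁₁, e₁₂]
    simp
  have h₂ : H.map f.op x' = y := by
    rw [← hF₂, app i₂, e₂₁, e₂₂]
    simp
  have hle : LinearMap.ker (H.map F.op).hom ≤ K := by
    intro a ha
    rw [← hK, LinearMap.mem_ker, ← hF₁]
    rw [LinearMap.mem_ker] at ha
    simp [op_comp, ha]
  have heq : LinearMap.ker (H.map F.op).hom = K :=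
    (eq_or_lt_of_le hle).resolve_right (hmin _ ⟨B, F, _, hy', rfl⟩)
  have hxK : x - x' ∈ LinearMap.ker (H.map F.op).hom := by
    rw [heq, ← hK, LinearMap.mem_ker, map_sub]
    exact sub_eq_zero.2 (hx.trans h₁.symm)
  rw [LinearMap.mem_ker] at hxK
  have : H.map f.op (x - x') = 0 := by
    rw [← hF₂, op_comp, Functor.map_comp, ModuleCat.comp_apply]
    rw [show H.map F.op (x - x') = 0 from hxK, map_zero]
  rwa [map_sub, sub_eq_zero, h₂] at this

include hlin hcoh hfin in
/-- A natural transformation vanishing on the maps killed by `g` extends along `g`. -/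
lemma exists_extension {Y : D} (g : Y ⟶ Z) (η : Tr H Y)
    (hη : ∀ (C : Sc D) (z : C.obj ⟶ Y), z ≫ g = 0 → η.1 C z = 0) :
    ∃ θ : Tr H Z, pull H g θ = η := by
  classical
  let R₀ : ∀ C : Sc D, Submodule k ((C.obj ⟶ Z) × H.obj (op C)) := fun C =>
    LinearMap.range ((Linear.rightComp k C.obj g).prod (η.1 C))
  have hR₀ : IsPartial H R₀ := by
    refine ⟨fun C x ⟨z, hz⟩ => ?_, fun C C' f z x ⟨y, hy⟩ => ?_⟩
    · have h1 : z ≫ g = 0 := congrArg Prod.fst hz
      have h2 : η.1 C z = x := congrArg Prod.snd hz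
      rw [← h2, hη C z h1]
    · have h1 : y ≫ g = z := congrArg Prod.fst hy
      have h2 : η.1 C y = x := congrArg Prod.snd hy
      refine ⟨f.hom ≫ y, Prod.ext ?_ ?_⟩
      · show (f.hom ≫ y) ≫ g = f.hom ≫ z
        rw [Category.assoc, h1]
      · show η.1 C' (f.hom ≫ y) = H.map f.op x
        rw [η.2 C C' f y, h2]
  obtain ⟨R, hle, hmax⟩ := zorn_le_nonempty₀ {R | IsPartial H (Z := Z) R} (fun c hc hch R₁ hR₁ => by
    haveI : Nonempty c := ⟨⟨R₁, hR₁⟩⟩
    have hdir : ∀ C : Sc D, Directed (· ≤ ·) (fun R : c => R.1 C) := fun C a b => by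
      rcases hch.total a.2 b.2 with h | h
      · exact ⟨b, h C, le_rfl⟩
      · exact ⟨a, le_rfl, h C⟩
    refine ⟨fun C => ⨆ R : c, R.1 C, ⟨fun C x hx => ?_, fun C C' f z x hx => ?_⟩,
      fun R hR C => le_iSup (fun R : c => R.1 C) ⟨R, hR⟩⟩
    · obtain ⟨R, hR⟩ := (Submodule.mem_iSup_of_directed _ (hdir C)).1 hx
      exact (hc R.2).1 C x hR
    · obtain ⟨R, hR⟩ := (Submodule.mem_iSup_of_directed _ (hdir C)).1 hx
      exact (Submodule.mem_iSup_of_directed _ (hdir C')).2 ⟨R, (hc R.2).2 C C' f z x hR⟩)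
    R₀ hR₀
  have hP : IsPartial H R := hmax.prop
  have total : ∀ (C : Sc D) (z : C.obj ⟶ Z), ∃ x, (z, x) ∈ R C := by
    intro C₀ z₀
    obtain ⟨x₀, hx₀⟩ := exists_value H hlin hcoh hfin hP C₀ z₀
    let G : ∀ C : Sc D, (C ⟶ C₀) →ₗ[k] ((C.obj ⟶ Z) × H.obj (op C)) := fun C =>
      { toFun := fun f => (f.hom ≫ z₀, H.map f.op x₀)
        map_add' := fun f f' => by
          refine Prod.ext ?_ (by simp [op_add, H.map_add])
          exact Preadditive.add_comp _ _ _ f.hom f'.hom z₀
        map_smul' := fun r f => by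
          simp only [RingHom.id_apply, Prod.smul_mk, hlin _ _ r f]
          refine Prod.ext ?_ rfl
          exact Linear.smul_comp _ _ _ _ _ _ }
    let R' : ∀ C : Sc D, Submodule k ((C.obj ⟶ Z) × H.obj (op C)) := fun C =>
      R C ⊔ LinearMap.range (G C)
    have hR' : IsPartial H R' := by
      refine ⟨fun C x hx => ?_, fun C C' f z x hx => ?_⟩
      · obtain ⟨⟨z, y⟩, hy, _, ⟨f, rfl⟩, he⟩ := Submodule.mem_sup.1 hx
        simp only [G, LinearMap.coe_mk, AddHom.coe_mk, Prod.mk_add_mk, Prod.mk.injEq] at he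
        have hz : f.hom ≫ z₀ = -z := eq_neg_of_add_eq_zero_right he.1
        have := hx₀ C f (-y) (by rw [hz]; exact (R C).neg_mem hy)
        rw [← he.2, this, add_neg_cancel]
      · obtain ⟨⟨z', y⟩, hy, _, ⟨e, rfl⟩, he⟩ := Submodule.mem_sup.1 hx
        simp only [G, LinearMap.coe_mk, AddHom.coe_mk, Prod.mk_add_mk, Prod.mk.injEq] at he
        refine Submodule.mem_sup.2 ⟨_, hP.2 C C' f z' y hy, _, ⟨f ≫ e, rfl⟩, ?_⟩
        simp [G, ← he.1, ← he.2, Preadditive.comp_add, op_comp]
    have hRR' : R ≤ R' := fun C => le_sup_left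
    refine ⟨x₀, hmax.2 hR' hRR' C₀ (Submodule.mem_sup_right ⟨𝟙 C₀, ?_⟩)⟩
    simp [G]
  have uniq : ∀ {C : Sc D} {z : C.obj ⟶ Z} {x x' : H.obj (op C)},
      (z, x) ∈ R C → (z, x') ∈ R C → x = x' := fun {C z x x'} h h' =>
    sub_eq_zero.1 (hP.1 C (x - x') (by simpa using (R C).sub_mem h h'))
  choose v hv using total
  let θ : ∀ C : Sc D, (C.obj ⟶ Z) →ₗ[k] H.obj (op C) := fun C =>
    { toFun := v C
      map_add' := fun a b => uniq (hv C _) (by simpa using (R C).add_mem (hv C a) (hv C b))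
      map_smul' := fun r a => uniq (hv C _) (by simpa using (R C).smul_mem r (hv C a)) }
  refine ⟨⟨θ, fun C C' f z => uniq (hv C' _) (hP.2 C C' f z _ (hv C z))⟩,
    Subtype.ext (funext fun C => LinearMap.ext fun z => uniq (hv C (z ≫ g)) (hle C ⟨z, rfl⟩))⟩

end injective

include hlin hcoh hfin in
theorem nonempty_representing (hD : CohDer.IsCompactlyGenerated D) :
    ∃ (Y : D), Nonempty (H ≅ (ObjectProperty.ι _).op ⋙ (linearYoneda k D).obj Y) := by
  obtain ⟨U, hsm, hU, hret⟩ := exists_small_retracts hD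
  haveI : ∀ X : D, Small.{v} (Tr H X) := fun X => small_tr H U hU hret X
  haveI : (ext' H).PreservesZeroMorphisms := ⟨fun X Y => by
    ext η
    refine (Shrink.addEquiv (α := Tr H Y.unop)).injective ?_
    rw [addEquiv_ext'_map]
    ext C z
    simp [pull]⟩
  haveI : (ext' H).IsHomological := ⟨fun T hT => by
    rw [ShortComplex.ab_exact_iff]
    intro x₂ hx₂
    have hT' := unop_distinguished T hT
    set η := (Shrink.addEquiv (α := Tr H T.obj₂.unop)) x₂ with hη
    have h0 : pull H T.mor₂.unop η = 0 := by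
      rw [hη, ← addEquiv_ext'_map]
      erw [hx₂]
      exact map_zero _
    obtain ⟨θ, hθ⟩ := exists_extension H hlin hcoh hfin T.mor₁.unop η (fun C z hz => by
      obtain ⟨w', hw'⟩ := Triangle.coyoneda_exact₂ _ hT' z hz
      rw [hw']
      exact LinearMap.congr_fun (congrFun (congrArg Subtype.val h0) C) w')
    refine ⟨(Shrink.addEquiv (α := Tr H T.obj₁.unop)).symm θ, ?_⟩
    refine (Shrink.addEquiv (α := Tr H T.obj₂.unop)).injective ?_
    erw [addEquiv_ext'_map]
    erw [AddEquiv.apply_symm_apply]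
    exact hθ⟩
  haveI : ∀ τ : Type v, PreservesLimitsOfShape (Discrete τ) (ext' H) := fun τ => by
    suffices ∀ X : τ → D, PreservesLimit (Discrete.functor (fun i => op (X i))) (ext' H) from
      ⟨fun {K} => by
        haveI := this (fun i => (K.obj ⟨i⟩).unop)
        exact preservesLimit_of_iso_diagram _
          (Discrete.natIso (fun _ => Iso.refl _) :
            Discrete.functor (fun i => op (K.obj ⟨i⟩).unop) ≅ K)⟩
    intro X
    refine preservesLimit_of_preserves_limit_cone (Cofan.IsColimit.op (coproductIsCoproduct X)) ?_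
    refine (isLimitMapConeFanMkEquiv (ext' H) _ _).symm ?_
    refine isLimitOfReflects (forget AddCommGrpCat.{v}) ?_
    refine (isLimitMapConeFanMkEquiv _ _ _).symm ?_
    refine Nonempty.some ((Types.isLimit_iff _).2 fun s _ => ?_)
    let eS := Shrink.addEquiv (α := Tr H (∐ X))
    let eI := fun i => Shrink.addEquiv (α := Tr H (X i))
    have hπ : ∀ (a : Shrink.{v} (Tr H (∐ X))) (i : τ),
        eI i ((ext' H).map (Sigma.ι X i).op a) = pull H (Sigma.ι X i) (eS a) := fun a i =>
      addEquiv_ext'_map H (X := op (∐ X)) (Y := op (X i)) (Sigma.ι X i).op a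
    obtain ⟨η, hη⟩ := (pull_ι_bijective H X).2 fun i => eI i (s ⟨i⟩)
    refine ⟨eS.symm η, fun j => ?_, fun y hy => ?_⟩
    · refine (eI j.as).injective ((hπ (eS.symm η) j.as).trans ?_)
      rw [eS.apply_symm_apply]
      exact congrFun hη j.as
    · refine eS.injective ((pull_ι_bijective H X).1 (funext fun i => ?_))
      show pull H (Sigma.ι X i) (eS y) = pull H (Sigma.ι X i) (eS (eS.symm η))
      rw [eS.apply_symm_apply, ← hπ y i]
      exact (congrArg (eI i) (hy ⟨i⟩)).trans (congrFun hη i).symm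
  obtain ⟨Y, ⟨e⟩⟩ := isRepresentable_of_isCompactlyGenerated hD (ext' H)
  -- the universal natural transformation
  let B : ∀ X : D, (X ⟶ Y) ≃ Tr H X := fun X =>
    (e.homEquiv (X := X)).trans (Shrink.addEquiv (α := Tr H X)).toEquiv
  let u : Tr H Y := B Y (𝟙 Y)
  have hu : ∀ (X : D) (z : X ⟶ Y), B X z = pull H z u := fun X z => by
    refine (congrArg (Shrink.addEquiv (α := Tr H X))
      (e.homEquiv_eq z)).trans ?_
    exact addEquiv_ext'_map H (X := op Y) (Y := op X) z.op _
  have hbij : ∀ C : Sc D, Function.Bijective (u.1 C) := by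
    intro C
    constructor
    · intro z z' h
      refine (B C.obj).injective ?_
      rw [hu, hu]
      refine Subtype.ext (funext fun C' => LinearMap.ext fun f => ?_)
      show u.1 C' (f ≫ z) = u.1 C' (f ≫ z')
      have hf : ∀ w, u.1 C' (f ≫ w) = H.map (ObjectProperty.homMk f : C' ⟶ C).op (u.1 C w) :=
        fun w => u.2 C C' (ObjectProperty.homMk f : C' ⟶ C) w
      rw [hf, hf, h]
    · intro x
      let η : Tr H C.obj :=
        ⟨fun C' =>
          { toFun := fun f => H.map (ObjectProperty.homMk f : C' ⟶ C).op x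
            map_add' := fun f g => by
              rw [show (ObjectProperty.homMk (f + g) : C' ⟶ C) =
                ObjectProperty.homMk f + ObjectProperty.homMk g from rfl, op_add, H.map_add]
              rfl
            map_smul' := fun r f => by
              rw [show (ObjectProperty.homMk (r • f) : C' ⟶ C) = r • ObjectProperty.homMk f from rfl,
                hlin]
              rfl },
          fun C₁ C₂ f z => by
            show H.map (ObjectProperty.homMk (f.hom ≫ z) : C₂ ⟶ C).op x = _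
            rw [show (ObjectProperty.homMk (f.hom ≫ z) : C₂ ⟶ C) = f ≫ ObjectProperty.homMk z from rfl,
              op_comp, Functor.map_comp]
            rfl⟩
      obtain ⟨z, hz⟩ := (B C.obj).surjective η
      rw [hu] at hz
      refine ⟨z, ?_⟩
      have := LinearMap.congr_fun (congrFun (congrArg Subtype.val hz) C) (𝟙 C.obj)
      change u.1 C (𝟙 C.obj ≫ z) = H.map (ObjectProperty.homMk (𝟙 C.obj) : C ⟶ C).op x at this
      rw [Category.id_comp, show (ObjectProperty.homMk (𝟙 C.obj) : C ⟶ C) = 𝟙 C from rfl,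
        op_id, H.map_id] at this
      exact this
  refine ⟨Y, ⟨(NatIso.ofComponents (fun X => (LinearEquiv.ofBijective (u.1 X.unop)
    (hbij X.unop)).toModuleIso) (fun {X X'} f => ?_)).symm⟩⟩
  ext z
  exact u.2 X.unop X'.unop f.unop z

end Groth.Agent.DEqT.RepCompact
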