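import Groth.Agent.KFlatLib.PsiC
import Groth.Agent.KFlatLib.Ghost
import Mathlib.Algebra.Homology.DerivedCategory.Linear
import Mathlib.Algebra.Homology.DerivedCategory.ShortExact
import Mathlib.Algebra.Homology.DerivedCategory.TStructure
import Mathlib.Algebra.Homology.ShortComplex.Linear
import Mathlib.Algebra.Homology.ShortComplex.ModuleCat
import Mathlib.Algebra.Homology.DerivedCategory.SingleTriangle
import Mathlib.Algebra.Category.ModuleCat.Basic
import Mathlib.Algebra.Category.ModuleCat.Projective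
import Mathlib.RingTheory.Ideal.AssociatedPrime.Finiteness
import Mathlib.RingTheory.Nakayama
import Mathlib.RingTheory.Finiteness.Cardinality

/-!
# Complexes orthogonal to the residue field at a maximal ideal vanish at that ideal
-/

set_option linter.style.haveILetI false
set_option backward.isDefEq.respectTransparency false

universe u

open CategoryTheory CategoryTheory.Category CategoryTheory.Limits CategoryTheory.Pretriangulated

attribute [local instance] HasDerivedCategory.standard

namespace Groth.Agent.DEqT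

variable {A : Type u} [CommRing A]


lemma linear_homologyFunctor (i : ℤ) : Functor.Linear A (DerivedCategory.homologyFunctor (ModuleCat.{u} A) i) := by
  haveI : Functor.Linear A (HomologicalComplex.homologyFunctor (ModuleCat.{u} A) (ComplexShape.up ℤ) i) :=
    ⟨fun φ r => ShortComplex.homologyMap_smul
      ((HomologicalComplex.shortComplexFunctor (ModuleCat.{u} A) (ComplexShape.up ℤ) i).map φ) r⟩
  let _ : Localization.Lifting (DerivedCategory.Q (C := ModuleCat.{u} A))
      (HomologicalComplex.quasiIso (ModuleCat.{u} A) (ComplexShape.up ℤ))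
      (HomologicalComplex.homologyFunctor (ModuleCat.{u} A) (ComplexShape.up ℤ) i) (DerivedCategory.homologyFunctor (ModuleCat.{u} A) i) :=
    ⟨DerivedCategory.homologyFunctorFactors (ModuleCat.{u} A) i⟩
  exact (Localization.functor_linear_iff (DerivedCategory.Q (C := ModuleCat.{u} A))
    (HomologicalComplex.quasiIso (ModuleCat.{u} A) (ComplexShape.up ℤ)) A
    (HomologicalComplex.homologyFunctor (ModuleCat.{u} A) (ComplexShape.up ℤ) i) (DerivedCategory.homologyFunctor (ModuleCat.{u} A) i)).1 inferInstance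

/-- All maps from `X` to shifts of `M` vanish. -/
def Orth (M X : (DerivedCategory (ModuleCat.{u} A))) : Prop := ∀ (i : ℤ) (φ : X ⟶ M⟦i⟧), φ = 0

variable {M : (DerivedCategory (ModuleCat.{u} A))}

lemma Orth.of_iso {X Y : (DerivedCategory (ModuleCat.{u} A))} (e : X ≅ Y) (h : Orth M X) : Orth M Y := fun i φ => by
  rw [← cancel_epi e.hom, comp_zero]
  exact h i _

lemma orth_of_isZero {X : (DerivedCategory (ModuleCat.{u} A))} (h : IsZero X) : Orth M X := fun _ _ => h.eq_of_src _ _

lemma Orth.shift {X : (DerivedCategory (ModuleCat.{u} A))} (h : Orth M X) (n : ℤ) : Orth M (X⟦n⟧) := fun i φ => by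
  let e : (M⟦i⟧)⟦-n⟧ ≅ M⟦i + -n⟧ := ((shiftFunctorAdd (DerivedCategory (ModuleCat.{u} A)) i (-n)).app M).symm
  refine (shiftFunctor (DerivedCategory (ModuleCat.{u} A)) (-n)).map_injective ?_
  rw [Functor.map_zero, ← cancel_mono e.hom, zero_comp,
    ← cancel_epi ((shiftShiftNeg X n).inv), comp_zero]
  exact h _ _

lemma orth_obj₂ {T : Triangle (DerivedCategory (ModuleCat.{u} A))} (hT : T ∈ distTriang _) (h₁ : Orth M T.obj₁) (h₃ : Orth M T.obj₃) :
    Orth M T.obj₂ := fun i φ => by
  obtain ⟨g, rfl⟩ := Triangle.yoneda_exact₂ T hT φ (h₁ i _)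
  rw [h₃ i g, comp_zero]

/-- Orthogonality propagates from the residue field to modules killed by a power of the ideal. -/
lemma orth_single_of_killed [IsNoetherianRing A] (p : Ideal A) [hp : p.IsMaximal]
    (h : Orth M ((DerivedCategory.singleFunctor (ModuleCat.{u} A) 0).obj (ModuleCat.of A (A ⧸ p)))) (N : ModuleCat.{u} A) [Module.Finite A N]
    (k : ℕ) (hk : ∀ a ∈ p ^ k, ∀ n : N, a • n = 0) : Orth M ((DerivedCategory.singleFunctor (ModuleCat.{u} A) 0).obj N) := by
  revert hk
  refine IsNoetherianRing.induction_on_isQuotientEquivQuotientPrime (A := A) (M := (N : Type u))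
    inferInstance (motive := fun N' _ _ _ => (∀ a ∈ p ^ k, ∀ n : N', a • n = 0) →
      Orth M ((DerivedCategory.singleFunctor (ModuleCat.{u} A) 0).obj (ModuleCat.of A N'))) ?_ ?_ ?_
  · intro N' _ _ _ _ _
    exact orth_of_isZero ((DerivedCategory.singleFunctor (ModuleCat.{u} A) 0).map_isZero (ModuleCat.isZero_of_subsingleton _))
  · intro N' _ _ _ q e hk
    have hpq : p ^ k ≤ q.1 := fun a ha => by
      refine Ideal.Quotient.eq_zero_iff_mem.1 ?_
      have := congrArg e (hk a ha (e.symm (Ideal.Quotient.mk q.1 1)))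
      rw [map_smul, map_zero, LinearEquiv.apply_symm_apply] at this
      simpa [Algebra.smul_def, Ideal.Quotient.algebraMap_eq] using this
    obtain rfl | hk0 := Nat.eq_zero_or_pos k
    · exact absurd (top_le_iff.1 (by simpa using hpq)) q.2.ne_top
    have hq : q.1 = p := (hp.eq_of_le q.2.ne_top (q.2.le_of_pow_le hpq)).symm
    exact h.of_iso ((DerivedCategory.singleFunctor (ModuleCat.{u} A) 0).mapIso ((Submodule.quotEquivOfEq _ _ hq.symm).trans e.symm).toModuleIso)
  · intro N₁ _ _ _ N₂ _ _ _ N₃ _ _ _ f g hf hg hfg h₁ h₃ hk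
    let S : ShortComplex (ModuleCat.{u} A) :=
      ShortComplex.mk (ModuleCat.ofHom f) (ModuleCat.ofHom g) (ModuleCat.hom_ext
        (LinearMap.ext fun x => hfg.apply_apply_eq_zero x))
    have hS : S.ShortExact :=
      { exact := (ShortComplex.ShortExact.moduleCat_exact_iff_function_exact S).2 hfg
        mono_f := (ModuleCat.mono_iff_injective _).2 hf
        epi_g := (ModuleCat.epi_iff_surjective _).2 hg }
    refine orth_obj₂ hS.singleTriangle_distinguished (h₁ fun a ha n => hf ?_) (h₃ fun a ha n => ?_)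
    · rw [map_smul, map_zero]
      exact hk a ha _
    · obtain ⟨m, rfl⟩ := hg n
      rw [← map_smul, hk a ha m, map_zero]

/-- Devissage over the amplitude. -/
lemma orth_of_homology (d : ℕ) : ∀ (X : (DerivedCategory (ModuleCat.{u} A))) (a : ℤ) [X.IsGE a] [X.IsLE (a + d)],
    (∀ i, Orth M ((DerivedCategory.singleFunctor (ModuleCat.{u} A) 0).obj ((DerivedCategory.homologyFunctor (ModuleCat.{u} A) i).obj X))) → Orth M X := by
  induction d with
  | zero =>
    intro X a _ _ h
    haveI : X.IsLE a := DerivedCategory.TStructure.t.isLE_of_le X (a + (0 : ℕ)) a (by simp)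
    obtain ⟨N, ⟨e⟩⟩ := DerivedCategory.exists_iso_singleFunctor_obj_of_isGE_of_isLE X a
    let eN : (DerivedCategory.homologyFunctor (ModuleCat.{u} A) a).obj X ≅ N := (DerivedCategory.homologyFunctor (ModuleCat.{u} A) a).mapIso e ≪≫
      (DerivedCategory.singleFunctorCompHomologyFunctorIso (ModuleCat.{u} A) a).app N
    refine Orth.of_iso e.symm (((h a).of_iso ((DerivedCategory.singleFunctor (ModuleCat.{u} A) 0).mapIso eN)).shift (-a) |>.of_iso ?_)
    exact ((DerivedCategory.singleFunctors (ModuleCat.{u} A)).shiftIso (-a) a 0 (by omega)).app N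
  | succ d ih =>
    intro X a _ _ h
    let b := a + (d + 1 : ℕ)
    let T := (DerivedCategory.TStructure.t.triangleLTGE b).obj X
    have hT : T ∈ distinguishedTriangles := DerivedCategory.TStructure.t.triangleLTGE_distinguished b X
    haveI : DerivedCategory.IsLE T.obj₁ (b - 1) :=
      inferInstanceAs (DerivedCategory.TStructure.t.IsLE
        ((DerivedCategory.TStructure.t.truncLT b).obj X) (b - 1))
    haveI : T.obj₁.IsLE (a + d) :=
      DerivedCategory.TStructure.t.isLE_of_le _ (b - 1) _ (by simp only [b]; push_cast; omega)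
    haveI : T.obj₁.IsGE a := KFlatLib.isGE_truncLT X a b
    haveI : DerivedCategory.IsGE T.obj₃ b :=
      inferInstanceAs (DerivedCategory.TStructure.t.IsGE
        ((DerivedCategory.TStructure.t.truncGE b).obj X) b)
    have h₁ : ∀ j, b ≤ j → IsZero ((DerivedCategory.homologyFunctor (ModuleCat.{u} A) j).obj T.obj₁) := fun j hj =>
      DerivedCategory.isZero_of_isLE _ (b - 1) j (by omega)
    have hm : ∀ j, b ≤ j → IsIso ((DerivedCategory.homologyFunctor (ModuleCat.{u} A) j).map T.mor₂) := fun j hj => by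
      haveI : Mono ((DerivedCategory.homologyFunctor (ModuleCat.{u} A) j).map T.mor₂) :=
        (DerivedCategory.HomologySequence.mono_homologyMap_mor₂_iff T hT j).2
          ((h₁ j hj).eq_of_src _ _)
      haveI : Epi ((DerivedCategory.homologyFunctor (ModuleCat.{u} A) j).map T.mor₂) :=
        (DerivedCategory.HomologySequence.epi_homologyMap_mor₂_iff T hT j (j + 1) rfl).2
          ((h₁ (j + 1) (by omega)).eq_of_tgt _ _)
      exact isIso_of_mono_of_epi ((DerivedCategory.homologyFunctor (ModuleCat.{u} A) j).map T.mor₂)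
    haveI : T.obj₃.IsLE b := (DerivedCategory.isLE_iff _ _).2 fun j hj => by
      haveI := hm j hj.le
      exact (DerivedCategory.isZero_of_isLE X b j hj).of_iso (asIso ((DerivedCategory.homologyFunctor (ModuleCat.{u} A) j).map T.mor₂)).symm
    refine orth_obj₂ hT (ih T.obj₁ a fun i => ?_) ?_
    · by_cases hi : i < b
      · haveI := KFlatLib.isIso_homology_truncLTι X b i hi
        exact (h i).of_iso ((DerivedCategory.singleFunctor (ModuleCat.{u} A) 0).mapIso (asIso ((DerivedCategory.homologyFunctor (ModuleCat.{u} A) i).map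
          ((DerivedCategory.TStructure.t.truncLTι b).app X))).symm)
      · exact orth_of_isZero ((DerivedCategory.singleFunctor (ModuleCat.{u} A) 0).map_isZero (h₁ i (by omega)))
    · obtain ⟨N, ⟨e⟩⟩ := DerivedCategory.exists_iso_singleFunctor_obj_of_isGE_of_isLE T.obj₃ b
      haveI := hm b le_rfl
      let eN : (DerivedCategory.homologyFunctor (ModuleCat.{u} A) b).obj X ≅ N := asIso ((DerivedCategory.homologyFunctor (ModuleCat.{u} A) b).map T.mor₂) ≪≫ (DerivedCategory.homologyFunctor (ModuleCat.{u} A) b).mapIso e ≪≫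
        (DerivedCategory.singleFunctorCompHomologyFunctorIso (ModuleCat.{u} A) b).app N
      refine Orth.of_iso e.symm (((h b).of_iso ((DerivedCategory.singleFunctor (ModuleCat.{u} A) 0).mapIso eN)).shift (-b) |>.of_iso ?_)
      exact ((DerivedCategory.singleFunctors (ModuleCat.{u} A)).shiftIso (-b) b 0 (by omega)).app N

/-- The objects used in the induction. -/
structure Nice (M C : (DerivedCategory (ModuleCat.{u} A))) : Prop where
  bdd : ∃ (a : ℤ) (d : ℕ), C.IsGE a ∧ C.IsLE (a + d)
  finH : ∀ i, Module.Finite A ((DerivedCategory.homologyFunctor (ModuleCat.{u} A) i).obj C)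
  finHom : ∀ i : ℤ, Module.Finite A (C ⟶ M⟦i⟧)

lemma killed_obj₃ {T : Triangle (DerivedCategory (ModuleCat.{u} A))} (hT : T ∈ distTriang _) {a b : A} (h₂ : a • T.mor₂ = 0)
    (h₃ : b • T.mor₃ = 0) : (a * b) • 𝟙 T.obj₃ = 0 := by
  have h1 : (b • 𝟙 T.obj₃) ≫ T.mor₃ = 0 := by rw [Linear.smul_comp, id_comp, h₃]
  obtain ⟨g, hg⟩ := Triangle.coyoneda_exact₃ T hT (b • 𝟙 T.obj₃) h1
  rw [mul_smul, hg, ← Linear.comp_smul, h₂, comp_zero]

lemma smul_eq_zero_shift {X : (DerivedCategory (ModuleCat.{u} A))} {a : A} (h : a • 𝟙 X = 0) (n : ℤ) : a • 𝟙 (X⟦n⟧) = 0 := by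
  rw [← CategoryTheory.Functor.map_id, ← Functor.map_smul, h, Functor.map_zero]

lemma finite_of_exact_triangle [IsNoetherianRing A] {T : Triangle (DerivedCategory (ModuleCat.{u} A))} (hT : T ∈ distTriang _) (Y : (DerivedCategory (ModuleCat.{u} A)))
    [Module.Finite A (T.obj₂ ⟶ Y)] [Module.Finite A (T.obj₁⟦(1 : ℤ)⟧ ⟶ Y)] :
    Module.Finite A (T.obj₃ ⟶ Y) := by
  refine Module.Finite.of_exact (f := Linear.leftComp A Y T.mor₃)
    (g := (Linear.leftComp A Y T.mor₂).rangeRestrict) (fun φ => ?_)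
    (LinearMap.surjective_rangeRestrict _)
  refine ⟨fun h => ?_, ?_⟩
  · obtain ⟨g, rfl⟩ := Triangle.yoneda_exact₃ T hT φ (congrArg Subtype.val h)
    exact ⟨g, rfl⟩
  · rintro ⟨g, rfl⟩
    ext1
    change T.mor₂ ≫ T.mor₃ ≫ g = 0
    rw [← assoc, comp_distTriang_mor_zero₂₃ T hT, zero_comp]

/-- The homs from `X⟦1⟧` are the homs from `X` in another degree. -/
noncomputable def homShiftEquiv (X : (DerivedCategory (ModuleCat.{u} A))) (i : ℤ) :
    (X ⟶ M⟦i + -1⟧) ≃ₗ[A] (X⟦(1 : ℤ)⟧ ⟶ M⟦i⟧) := by
  let e : (M⟦i + -1⟧)⟦(1 : ℤ)⟧ ≅ M⟦i⟧ := ((shiftFunctorAdd' (DerivedCategory (ModuleCat.{u} A)) (i + -1) 1 i (by omega)).app M).symm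
  exact LinearEquiv.ofBijective
    ((Linear.rightComp A (X⟦(1 : ℤ)⟧) e.hom).comp ((shiftFunctor (DerivedCategory (ModuleCat.{u} A)) (1 : ℤ)).mapLinearMap A))
    ⟨fun f g h => (shiftFunctor (DerivedCategory (ModuleCat.{u} A)) (1 : ℤ)).map_injective ((cancel_mono e.hom).1 h), fun h =>
      ⟨(shiftFunctor (DerivedCategory (ModuleCat.{u} A)) (1 : ℤ)).preimage (h ≫ e.inv), by
        change (shiftFunctor (DerivedCategory (ModuleCat.{u} A)) (1 : ℤ)).map _ ≫ e.hom = h
        simp⟩⟩

lemma Nice.cone [IsNoetherianRing A] {T : Triangle (DerivedCategory (ModuleCat.{u} A))} (hT : T ∈ distTriang _) (h₁ : Nice M T.obj₁)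
    (h₂ : Nice M T.obj₂) : Nice M T.obj₃ := by
  obtain ⟨a₁, d₁, hg₁, hl₁⟩ := h₁.bdd
  obtain ⟨a₂, d₂, hg₂, hl₂⟩ := h₂.bdd
  let a := min (a₁ - 1) a₂
  let d := (max (a₁ + d₁) (a₂ + d₂) - a).toNat
  have hz : ∀ i, (i < a ∨ a + d < i) → IsZero ((DerivedCategory.homologyFunctor (ModuleCat.{u} A) i).obj T.obj₃) := fun i hi => by
    have hd : max (a₁ + d₁) (a₂ + d₂) ≤ a + d := by simp only [d]; omega
    have h2 : IsZero ((DerivedCategory.homologyFunctor (ModuleCat.{u} A) i).obj T.obj₂) := by
      rcases hi with hi | hi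
      · exact DerivedCategory.isZero_of_isGE _ a₂ i (by omega)
      · exact DerivedCategory.isZero_of_isLE _ (a₂ + d₂) i (by omega)
    have h1 : IsZero ((DerivedCategory.homologyFunctor (ModuleCat.{u} A) (i + 1)).obj T.obj₁) := by
      rcases hi with hi | hi
      · exact DerivedCategory.isZero_of_isGE _ a₁ (i + 1) (by omega)
      · exact DerivedCategory.isZero_of_isLE _ (a₁ + d₁) (i + 1) (by omega)
    exact (DerivedCategory.HomologySequence.exact₃ T hT i (i + 1) rfl).isZero_X₂
      (h2.eq_of_src _ _) (h1.eq_of_tgt _ _)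
  refine ⟨⟨a, d, (DerivedCategory.isGE_iff _ _).2 fun i hi => hz i (Or.inl hi),
    (DerivedCategory.isLE_iff _ _).2 fun i hi => hz i (Or.inr hi)⟩, fun i => ?_, fun i => ?_⟩
  · haveI := h₂.finH i
    haveI := h₁.finH (i + 1)
    have hex := (ShortComplex.ShortExact.moduleCat_exact_iff_function_exact _).1
      (DerivedCategory.HomologySequence.exact₃ T hT i (i + 1) rfl)
    let g := (DerivedCategory.HomologySequence.δ T i (i + 1) rfl).hom
    exact Module.Finite.of_exact (f := ((DerivedCategory.homologyFunctor (ModuleCat.{u} A) i).map T.mor₂).hom) (g := g.rangeRestrict)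
      (fun x => ⟨fun hx => (hex x).1 (congrArg Subtype.val hx), fun hx => Subtype.ext ((hex x).2 hx)⟩)
      (LinearMap.surjective_rangeRestrict g)
  · haveI := h₂.finHom i
    haveI := h₁.finHom (i + -1)
    haveI : Module.Finite A (T.obj₁⟦(1 : ℤ)⟧ ⟶ M⟦i⟧) := Module.Finite.equiv (homShiftEquiv T.obj₁ i)
    exact finite_of_exact_triangle hT _

/-- Koszul induction. -/
lemma exists_smul_hom_eq_zero [IsNoetherianRing A] (p : Ideal A) [hp : p.IsMaximal] (gens : Finset A)
    (hgens : Ideal.span (gens : Set A) = p)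
    (h : Orth M ((DerivedCategory.singleFunctor (ModuleCat.{u} A) 0).obj (ModuleCat.of A (A ⧸ p)))) : ∀ (l : List A), (∀ x ∈ l, x ∈ p) →
    ∀ (C : (DerivedCategory (ModuleCat.{u} A))), Nice M C → (∀ g ∈ gens, g ∈ l ∨ ∃ k : ℕ, g ^ k • 𝟙 C = 0) →
      ∀ i : ℤ, ∃ s ∉ p, ∀ φ : C ⟶ M⟦i⟧, s • φ = 0 := by
  intro l
  induction l with
  | nil =>
    intro _ C hC hnil i
    refine ⟨1, fun h1 => hp.ne_top ((Ideal.eq_top_iff_one p).2 h1), fun φ => ?_⟩
    obtain ⟨a, d, hg, hl⟩ := hC.bdd
    rw [one_smul]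
    refine orth_of_homology d C a (fun j => ?_) i φ
    haveI := hC.finH j
    have hrad : p ≤ (Module.annihilator A ((DerivedCategory.homologyFunctor (ModuleCat.{u} A) j).obj C)).radical := by
      rw [← hgens, Ideal.span_le]
      intro g hg'
      obtain hgl | ⟨k, hk⟩ := hnil g hg'
      · simp at hgl
      refine ⟨k, Module.mem_annihilator.2 fun z => ?_⟩
      haveI := linear_homologyFunctor (A := A) j
      have hz : g ^ k • 𝟙 ((DerivedCategory.homologyFunctor (ModuleCat.{u} A) j).obj C) = 0 := by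
        rw [← CategoryTheory.Functor.map_id, ← Functor.map_smul, hk, Functor.map_zero]
      exact ConcreteCategory.congr_hom hz z
    obtain ⟨k, hk⟩ := Ideal.exists_pow_le_of_le_radical_of_fg hrad (IsNoetherian.noetherian p)
    exact orth_single_of_killed p h _ k fun a ha n => Module.mem_annihilator.1 (hk ha) n
  | cons x l ih =>
    intro hl C hC hnil i
    obtain ⟨C', j, δ, hT⟩ := distinguished_cocone_triangle (x • 𝟙 C)
    let T := Triangle.mk (x • 𝟙 C) j δ
    have hj : x • j = 0 := by
      have := comp_distTriang_mor_zero₁₂ T hT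
      change (x • 𝟙 C) ≫ j = 0 at this
      rwa [Linear.smul_comp, id_comp] at this
    have hδ : x • δ = 0 := by
      have := comp_distTriang_mor_zero₂₃ _ (rot_of_distTriang T hT)
      change δ ≫ (-((x • 𝟙 C)⟦(1 : ℤ)⟧')) = 0 at this
      rwa [Functor.map_smul, CategoryTheory.Functor.map_id, Preadditive.comp_neg, Linear.comp_smul, comp_id,
        neg_eq_zero] at this
    have key := ih (fun y hy => hl y (List.mem_cons_of_mem _ hy)) C' (Nice.cone (T := T) hT hC hC) ?_
    · obtain ⟨s, hs, hsi⟩ := key (i + 1)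
      let H := C ⟶ M⟦i⟧
      let e : (M⟦i⟧)⟦(1 : ℤ)⟧ ≅ M⟦i + 1⟧ := ((shiftFunctorAdd (DerivedCategory (ModuleCat.{u} A)) i 1).app M).symm
      have hsurj : ∀ φ : H, ∃ ψ : H, s • φ = x • ψ := fun φ => by
        have h1 := hsi (δ ≫ φ⟦(1 : ℤ)⟧' ≫ e.hom)
        rw [← Linear.comp_smul, ← Linear.smul_comp] at h1
        obtain ⟨g, hg⟩ := Triangle.yoneda_exact₂ _ (rot_of_distTriang _ (rot_of_distTriang T hT))
          ((s • φ⟦(1 : ℤ)⟧') ≫ e.hom) h1
        change (s • φ⟦(1 : ℤ)⟧') ≫ e.hom = (-((x • 𝟙 C)⟦(1 : ℤ)⟧')) ≫ g at hg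
        rw [Functor.map_smul, CategoryTheory.Functor.map_id, Preadditive.neg_comp, Linear.smul_comp _ _ _ x,
          id_comp] at hg
        obtain ⟨ψ, hψ⟩ := (shiftFunctor (DerivedCategory (ModuleCat.{u} A)) (1 : ℤ)).map_surjective (g ≫ e.inv)
        refine ⟨-ψ, (shiftFunctor (DerivedCategory (ModuleCat.{u} A)) (1 : ℤ)).map_injective ?_⟩
        rw [Functor.map_smul, Functor.map_smul, Functor.map_neg, hψ, smul_neg, ← Linear.smul_comp,
          ← Preadditive.neg_comp, ← hg, assoc, e.hom_inv_id, comp_id]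
      haveI := hC.finHom i
      obtain ⟨t, ht⟩ := Ideal.Quotient.mk_surjective
        (I := p) ((Ideal.Quotient.field p).inv (Ideal.Quotient.mk p s))
      have hts : t * s - 1 ∈ p := by
        letI := Ideal.Quotient.field p
        rw [← Ideal.Quotient.eq_zero_iff_mem, map_sub, map_mul, map_one, ht]
        exact sub_eq_zero.2 (inv_mul_cancel₀ (fun h0 => hs (Ideal.Quotient.eq_zero_iff_mem.1 h0)))
      have hle : (⊤ : Submodule A H) ≤ p • (⊤ : Submodule A H) := fun φ _ => by
        obtain ⟨ψ, hψ⟩ := hsurj φ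
        have : φ = t • x • ψ - (t * s - 1) • φ := by rw [← hψ, sub_smul, mul_smul, one_smul]; abel
        rw [this]
        refine Submodule.sub_mem _ ?_ (Submodule.smul_mem_smul hts trivial)
        rw [← mul_smul]
        exact Submodule.smul_mem_smul (p.mul_mem_left t (hl x List.mem_cons_self)) trivial
      obtain ⟨r, hr, hr'⟩ := Submodule.exists_sub_one_mem_and_smul_eq_zero_of_fg_of_le_smul p
        (⊤ : Submodule A H) Module.Finite.fg_top hle
      exact ⟨r, fun hrp => hp.ne_top ((Ideal.eq_top_iff_one p).2 (by simpa using p.sub_mem hrp hr)),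
        fun φ => hr' φ trivial⟩
    · intro g hg
      rcases hnil g hg with hgl | ⟨k, hk⟩
      · rcases List.mem_cons.1 hgl with rfl | hgl
        · exact Or.inr ⟨1 + 1, by rw [pow_add, pow_one]; exact killed_obj₃ (T := T) hT hj hδ⟩
        · exact Or.inl hgl
      · refine Or.inr ⟨k + k, ?_⟩
        rw [pow_add]
        refine killed_obj₃ (T := T) hT ?_ ?_
        · change g ^ k • j = 0
          rw [← id_comp j, ← Linear.smul_comp, hk, zero_comp]
        · change g ^ k • δ = 0
          rw [← comp_id δ, ← Linear.comp_smul, smul_eq_zero_shift hk 1, comp_zero]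

/-- If `M` has finite cohomology and receives no maps from the residue field at a maximal ideal, then
its cohomology is killed outside that ideal. -/
theorem exists_smul_eq_zero_of_orth [IsNoetherianRing A] (M : (DerivedCategory (ModuleCat.{u} A)))
    (hM : ∀ i, Module.Finite A ((DerivedCategory.homologyFunctor (ModuleCat.{u} A) i).obj M)) (p : Ideal A) [hp : p.IsMaximal]
    (h : ∀ (i : ℤ) (φ : (DerivedCategory.singleFunctor (ModuleCat.{u} A) 0).obj (ModuleCat.of A (A ⧸ p)) ⟶ M⟦i⟧), φ = 0) (i : ℤ) :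
    ∃ s ∉ p, ∀ z : (DerivedCategory.homologyFunctor (ModuleCat.{u} A) i).obj M, s • z = 0 := by
  let P := ModuleCat.of A A
  haveI : Projective P := inferInstance
  haveI := linear_homologyFunctor (A := A)
  let eM : ∀ j : ℤ, (DerivedCategory.homologyFunctor (ModuleCat.{u} A) 0).obj (M⟦j⟧) ≅ (DerivedCategory.homologyFunctor (ModuleCat.{u} A) j).obj M := fun j =>
    ((DerivedCategory.homologyFunctor (ModuleCat.{u} A) 0).shiftIso j 0 j (by omega)).app M
  let Φ : ∀ j : ℤ, ((DerivedCategory.singleFunctor (ModuleCat.{u} A) 0).obj P ⟶ M⟦j⟧) ≃ₗ[A] (DerivedCategory.homologyFunctor (ModuleCat.{u} A) j).obj M := fun j =>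
    (LinearEquiv.ofBijective
      ({ toFun := KFlatLib.psiC 0 P (M⟦j⟧)
         map_add' := fun f g => by simp [KFlatLib.psiC]
         map_smul' := fun a f => by
           simp only [KFlatLib.psiC, Functor.map_smul, Linear.comp_smul]
           rfl } :
        ((DerivedCategory.singleFunctor (ModuleCat.{u} A) 0).obj P ⟶ M⟦j⟧) →ₗ[A] (P ⟶ (DerivedCategory.homologyFunctor (ModuleCat.{u} A) 0).obj (M⟦j⟧)))
      (KFlatLib.bijective_psiC_of_projective 0 (M⟦j⟧))).trans
    ((ModuleCat.homLinearEquiv (S := A)).trans ((LinearMap.ringLmapEquivSelf A A _).trans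
      (eM j).toLinearEquiv))
  obtain ⟨gens, hgens⟩ := (IsNoetherian.noetherian p)
  have hnice : Nice M ((DerivedCategory.singleFunctor (ModuleCat.{u} A) 0).obj P) := by
    refine ⟨⟨0, 0, inferInstance, ?_⟩, fun j => ?_, fun j => ?_⟩
    · rw [show (0 : ℤ) + ((0 : ℕ) : ℤ) = 0 by simp]
      infer_instance
    · by_cases hj : j = 0
      · subst hj
        exact Module.Finite.equiv (KFlatLib.hSingle 0 P).symm.toLinearEquiv
      · rcases lt_or_gt_of_ne hj with hj | hj
        · haveI := ModuleCat.subsingleton_of_isZero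
            (DerivedCategory.isZero_of_isGE ((DerivedCategory.singleFunctor (ModuleCat.{u} A) 0).obj P) 0 j hj)
          infer_instance
        · haveI := ModuleCat.subsingleton_of_isZero
            (DerivedCategory.isZero_of_isLE ((DerivedCategory.singleFunctor (ModuleCat.{u} A) 0).obj P) 0 j hj)
          infer_instance
    · haveI := hM j
      exact Module.Finite.equiv (Φ j).symm
  obtain ⟨s, hs, hsi⟩ := exists_smul_hom_eq_zero p gens hgens h gens.toList
    (fun x hx => hgens ▸ Ideal.subset_span (Finset.mem_toList.1 hx)) _ hnice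
    (fun g hg => Or.inl (Finset.mem_toList.2 hg)) i
  refine ⟨s, hs, fun z => ?_⟩
  obtain ⟨φ, rfl⟩ := (Φ i).surjective z
  rw [← map_smul, hsi, map_zero]

end Groth.Agent.DEqT
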