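import Groth.Agent.H9Misc.SerreRep
import Mathlib.CategoryTheory.Triangulated.Pretriangulated
import Mathlib.CategoryTheory.Shift.Linear
import Mathlib.LinearAlgebra.Dual.Lemmas

/-!
# A Serre functor is exact (Bondal–Kapranov)
-/

set_option linter.style.haveILetI false
set_option linter.unusedSectionVars false
set_option backward.defeqAttrib.useBackward true
set_option backward.isDefEq.respectTransparency false

universe w v u

open CategoryTheory CategoryTheory.Limits CategoryTheory.Pretriangulated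
open Groth.Agent.H9Misc.SerreRep

namespace Groth.Agent.DEqT.SerreTri

lemma exists_factor {k V W : Type*} [Field k] [AddCommGroup V] [Module k V] [AddCommGroup W]
    [Module k W] (α : V →ₗ[k] W) (t : V →ₗ[k] k) (h : ∀ v, α v = 0 → t v = 0) :
    ∃ s : W →ₗ[k] k, ∀ v, s (α v) = t v := by
  have ht : t ∈ LinearMap.range α.dualMap := by
    rw [LinearMap.range_dualMap_eq_dualAnnihilator_ker, Submodule.mem_dualAnnihilator]
    exact fun v hv => h v hv
  obtain ⟨s, hs⟩ := ht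
  exact ⟨s, fun v => LinearMap.congr_fun hs v⟩

variable {k : Type w} [Field k] {T : Type u} [Category.{v} T] [Preadditive T] [Linear k T]
  [HasZeroObject T] [HasShift T ℤ] [∀ n : ℤ, (shiftFunctor T n).Additive]
  [∀ n : ℤ, (shiftFunctor T n).Linear k] [Pretriangulated T]
  [∀ X Y : T, Module.Finite k (X ⟶ Y)]
  (S : T ⥤ T) (tr : ∀ X : T, (X ⟶ S.obj X) →ₗ[k] k)
  (hrep : ∀ X, IsRep (tr X))
  (hswap : ∀ {X' X : T} (a : X' ⟶ X) (ψ : X ⟶ S.obj X'), tr X' (a ≫ ψ) = tr X (ψ ≫ S.map a))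

/-- The trace on `Hom(X[1], (S X)[1])`. -/
noncomputable def tr' (X : T) : (X⟦(1 : ℤ)⟧ ⟶ (S.obj X)⟦(1 : ℤ)⟧) →ₗ[k] k :=
  -((tr X).comp ((LinearEquiv.ofBijective ((shiftFunctor T (1 : ℤ)).mapLinearMap k)
    ⟨(shiftFunctor T (1 : ℤ)).map_injective, (shiftFunctor T (1 : ℤ)).map_surjective⟩).symm
      : (X⟦(1 : ℤ)⟧ ⟶ (S.obj X)⟦(1 : ℤ)⟧) ≃ₗ[k] (X ⟶ S.obj X)).toLinearMap)

lemma tr'_map (X : T) (w : X ⟶ S.obj X) : tr' S tr X (w⟦(1 : ℤ)⟧') = -(tr X w) := by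
  simp only [tr', LinearMap.neg_apply, LinearMap.comp_apply, LinearEquiv.coe_coe]
  congr 2
  exact LinearEquiv.symm_apply_apply _ w

include hrep in
lemma isRep_tr' (X : T) : IsRep (tr' S tr X) := by
  intro Y
  let ε := (shiftFunctorCompIsoId T (-1 : ℤ) (1 : ℤ) (by lia)).app Y
  constructor
  · intro f g hfg
    obtain ⟨f', hf'⟩ := (shiftFunctor T (1 : ℤ)).map_surjective (ε.hom ≫ f)
    obtain ⟨g', hg'⟩ := (shiftFunctor T (1 : ℤ)).map_surjective (ε.hom ≫ g)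
    rw [← cancel_epi ε.hom, ← hf', ← hg']
    congr 1
    refine (hrep X).ext fun x => neg_injective ?_
    rw [← tr'_map, ← tr'_map, Functor.map_comp, Functor.map_comp, hf', hg']
    exact (LinearMap.congr_fun hfg (x⟦(1 : ℤ)⟧' ≫ ε.hom)) |> fun h => by simpa using h
  · intro s
    let s' : (X ⟶ Y⟦(-1 : ℤ)⟧) →ₗ[k] k :=
      -(s.comp ((Linear.rightComp k (X⟦(1 : ℤ)⟧) ε.hom).comp
        ((shiftFunctor T (1 : ℤ)).mapLinearMap k)))
    obtain ⟨f, hf⟩ := (hrep X).exists_hom s'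
    refine ⟨ε.inv ≫ f⟦(1 : ℤ)⟧', LinearMap.ext fun x => ?_⟩
    obtain ⟨x', hx'⟩ := (shiftFunctor T (1 : ℤ)).map_surjective (x ≫ ε.inv)
    rw [pairing_apply, ← Category.assoc, ← hx', ← Functor.map_comp, tr'_map, hf]
    simp [s', hx']

include hrep hswap in
/-- `Hom(Y, S -)` of an exact pair is exact. -/
lemma exists_preimage {X Y' Z : T} (a : X ⟶ Y') (b : Y' ⟶ Z)
    (hex : ∀ {W : T} (x : Y' ⟶ W), a ≫ x = 0 → ∃ x', x = b ≫ x')
    {Y : T} (y : Y ⟶ S.obj Y') (hy : y ≫ S.map b = 0) :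
    ∃ w : Y ⟶ S.obj X, y = w ≫ S.map a := by
  obtain ⟨s, hs⟩ := exists_factor (Linear.leftComp k Y a)
    ((tr Y').comp (Linear.rightComp k Y' y)) (fun x hx => by
      obtain ⟨x', rfl⟩ := hex x hx
      show tr Y' ((b ≫ x') ≫ y) = 0
      rw [Category.assoc, hswap b (x' ≫ y), Category.assoc, hy, comp_zero, map_zero])
  obtain ⟨w, hw⟩ := (hrep X).exists_hom s
  refine ⟨w, (hrep Y').ext fun x => ?_⟩
  rw [← Category.assoc, ← hswap a (x ≫ w), ← Category.assoc, hw]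
  exact (hs x).symm

include hrep hswap in
theorem exists_commShift_triangle [S.Additive] :
    ∃ e : shiftFunctor T (1 : ℤ) ⋙ S ≅ S ⋙ shiftFunctor T (1 : ℤ),
      ∀ T' ∈ distTriang T,
        Triangle.mk (S.map T'.mor₁) (S.map T'.mor₂)
          (S.map T'.mor₃ ≫ e.hom.app T'.obj₁) ∈ distTriang T := by
  choose e₀ he₀ using fun X : T => (hrep (X⟦(1 : ℤ)⟧)).exists_iso (isRep_tr' S tr hrep X)
  have hnat : ∀ {X' X : T} (a : X' ⟶ X),
      S.map (a⟦(1 : ℤ)⟧') ≫ (e₀ X).hom = (e₀ X').hom ≫ (S.map a)⟦(1 : ℤ)⟧' := by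
    intro X' X a
    refine (isRep_tr' S tr hrep X).ext fun x => ?_
    rw [← Category.assoc, he₀, ← hswap, ← he₀ X']
    obtain ⟨w, hw⟩ := (shiftFunctor T (1 : ℤ)).map_surjective (x ≫ (e₀ X').hom)
    rw [Category.assoc, ← hw, ← Functor.map_comp, ← Category.assoc, ← hw, ← Functor.map_comp,
      tr'_map, tr'_map, hswap]
  refine ⟨NatIso.ofComponents (fun X => e₀ X) (fun a => hnat a), ?_⟩
  intro T' hT'
  show Triangle.mk (S.map T'.mor₁) (S.map T'.mor₂) (S.map T'.mor₃ ≫ (e₀ T'.obj₁).hom) ∈ _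
  obtain ⟨C₀, p, φ, hT₀⟩ := distinguished_cocone_triangle (S.map T'.mor₁)
  -- the functional defining the comparison map
  let Φ : ((T'.obj₃ ⟶ S.obj T'.obj₂) × (T'.obj₁⟦(1 : ℤ)⟧ ⟶ C₀)) →ₗ[k] (T'.obj₃ ⟶ C₀) :=
    (Linear.rightComp k T'.obj₃ p).coprod (Linear.leftComp k C₀ T'.mor₃)
  let τ : ((T'.obj₃ ⟶ S.obj T'.obj₂) × (T'.obj₁⟦(1 : ℤ)⟧ ⟶ C₀)) →ₗ[k] k :=
    ((tr T'.obj₂).comp (Linear.leftComp k (S.obj T'.obj₂) T'.mor₂)).coprod
      ((tr' S tr T'.obj₁).comp (Linear.rightComp k (T'.obj₁⟦(1 : ℤ)⟧) φ))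
  obtain ⟨t, ht⟩ := exists_factor Φ τ (fun v hv => by
    obtain ⟨y, z⟩ := v
    simp only [Φ, LinearMap.coprod_apply, Linear.rightComp_apply, Linear.leftComp_apply] at hv
    simp only [τ, LinearMap.coprod_apply, LinearMap.comp_apply, Linear.rightComp_apply,
      Linear.leftComp_apply]
    obtain ⟨u, hu₁, hu₃⟩ := complete_distinguished_triangle_morphism₁ T'.rotate
      (Triangle.mk (S.map T'.mor₁) p φ) (rot_of_distTriang _ hT') hT₀ y (-z)
      (by dsimp; rw [Preadditive.comp_neg]; exact neg_eq_of_add_eq_zero_left hv)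
    dsimp at u hu₁ hu₃
    rw [show T'.mor₂ ≫ y = u ≫ S.map T'.mor₁ from hu₁, ← hswap]
    have hz : z ≫ φ = (T'.mor₁ ≫ u)⟦(1 : ℤ)⟧' := by
      simp only [Preadditive.neg_comp] at hu₃
      rw [Functor.map_comp]
      exact (neg_injective hu₃).symm
    rw [hz, tr'_map, add_neg_cancel])
  obtain ⟨ψ, hψ⟩ := (hrep T'.obj₃).exists_hom t
  have hp : p ≫ ψ = S.map T'.mor₂ := by
    refine (hrep T'.obj₃).ext fun y => ?_
    rw [← Category.assoc, hψ, ← hswap]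
    have := ht (y, 0)
    simpa [Φ, τ] using this
  have hφ : ψ ≫ S.map T'.mor₃ ≫ (e₀ T'.obj₁).hom = φ := by
    refine (isRep_tr' S tr hrep T'.obj₁).ext fun z => ?_
    rw [← Category.assoc, ← Category.assoc, he₀, Category.assoc, ← Category.assoc z, ← hswap,
      ← Category.assoc, hψ]
    have := ht (0, z)
    simpa [Φ, τ] using this
  have exB : ∀ {W : T} (x : T'.obj₂ ⟶ W), T'.mor₁ ≫ x = 0 → ∃ x', x = T'.mor₂ ≫ x' :=
    fun x hx => Triangle.yoneda_exact₂ T' hT' x hx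
  have exC : ∀ {W : T} (x : T'.obj₃ ⟶ W), T'.mor₂ ≫ x = 0 → ∃ x', x = T'.mor₃ ≫ x' :=
    fun x hx => Triangle.yoneda_exact₃ T' hT' x hx
  have hbij : ∀ Y : T, Function.Bijective (fun w : Y ⟶ C₀ => w ≫ ψ) := by
    intro Y
    constructor
    · refine (injective_iff_map_eq_zero (Preadditive.rightComp Y ψ)).2 (fun w hw => ?_)
      change w ≫ ψ = 0 at hw
      obtain ⟨y, hy⟩ := Triangle.coyoneda_exact₃ _ hT₀ w (by
        show w ≫ φ = 0
        rw [← hφ, reassoc_of% hw, zero_comp])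
      dsimp at y hy
      obtain ⟨v, hv⟩ := exists_preimage S tr hrep hswap T'.mor₁ T'.mor₂ exB y (by
        rw [← hp, ← Category.assoc, ← hy, hw])
      have h0 : S.map T'.mor₁ ≫ p = 0 := comp_distTriang_mor_zero₁₂ _ hT₀
      rw [hy, hv, Category.assoc, h0, comp_zero]
    · intro w
      obtain ⟨w₀, hw₀⟩ := Triangle.coyoneda_exact₁ _ hT₀ (w ≫ S.map T'.mor₃ ≫ (e₀ T'.obj₁).hom) (by
        show (w ≫ S.map T'.mor₃ ≫ (e₀ T'.obj₁).hom) ≫ (S.map T'.mor₁)⟦(1 : ℤ)⟧' = 0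
        rw [Category.assoc, Category.assoc, ← hnat T'.mor₁, ← Functor.map_comp_assoc,
          comp_distTriang_mor_zero₃₁ T' hT', Functor.map_zero, zero_comp, comp_zero])
      dsimp at w₀ hw₀
      obtain ⟨y, hy⟩ := exists_preimage S tr hrep hswap T'.mor₂ T'.mor₃ exC (w - w₀ ≫ ψ) (by
        rw [← cancel_mono (e₀ T'.obj₁).hom, zero_comp, Category.assoc, Preadditive.sub_comp,
          Category.assoc, hφ, hw₀, sub_self])
      refine ⟨w₀ + y ≫ p, ?_⟩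
      show (w₀ + y ≫ p) ≫ ψ = w
      rw [Preadditive.add_comp, Category.assoc, hp, ← hy]
      abel
  haveI : IsIso ψ := by
    obtain ⟨χ, hχ⟩ := (hbij _).2 (𝟙 _)
    dsimp at hχ
    exact ⟨χ, (hbij _).1 (by dsimp; rw [Category.assoc, hχ, Category.comp_id, Category.id_comp]),
      hχ⟩
  refine isomorphic_distinguished _ hT₀ _ (Iso.symm ?_)
  exact Triangle.isoMk _ _ (Iso.refl _) (Iso.refl _) (asIso ψ) (by dsimp; simp)
    (by dsimp; simp [hp]) (by dsimp; simp [hφ])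

end Groth.Agent.DEqT.SerreTri
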