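import Groth.Agent.DEqT.Sibling
import Mathlib.CategoryTheory.Abelian.Basic

/-!
# Siblings of a fully faithful functor are isomorphic when the heart has enough negative objects
-/

set_option linter.style.haveILetI false
set_option linter.unusedSectionVars false
set_option backward.defeqAttrib.useBackward true
set_option backward.isDefEq.respectTransparency false

universe v u v' u' w' z'

open CategoryTheory CategoryTheory.Limits CategoryTheory.Pretriangulated CategoryTheory.Triangulated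
open scoped ZeroObject

namespace Groth.Agent.DEqT

variable {C : Type u} [Category.{v} C] [Preadditive C] [HasZeroObject C] [HasShift C ℤ]
  [∀ n : ℤ, (shiftFunctor C n).Additive] [Pretriangulated C] [IsTriangulated C]
  {A : Type w'} [Category.{z'} A]
  {D : Type u'} [Category.{v'} D] [Preadditive D] [HasZeroObject D] [HasShift D ℤ]
  [∀ n : ℤ, (shiftFunctor D n).Additive] [Pretriangulated D]
  {F F' : C ⥤ D} [F.CommShift ℤ] [F'.CommShift ℤ] [F.IsTriangulated] [F'.IsTriangulated]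
  {t : TStructure C} {j : A ⥤ C}

variable (t) in
/-- Width at most `w`. -/
def Width (w : ℕ) (K : C) : Prop := ∃ a : ℤ, t.IsGE K a ∧ t.IsLE K (a + w)

lemma Width.mono {w w' : ℕ} (hw : w ≤ w') {K : C} (hK : Width t w K) : Width t w' K := by
  obtain ⟨a, h₁, h₂⟩ := hK
  exact ⟨a, h₁, t.isLE_of_le K (a + w) (a + w') (by omega)⟩

lemma width_hobj (hj : HeartData t j) (w : ℕ) (X : A) (m : ℤ) : Width t w (hobj j X m) :=
  ⟨-m, hj.isGE_hobj X m _ le_rfl, hj.isLE_hobj X m _ (by omega)⟩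

omit [IsTriangulated C] in
lemma exists_iso_mid {K₁ K₂ K₃ : C} {i : K₁ ⟶ K₂} {q : K₂ ⟶ K₃} {δ : K₃ ⟶ K₁⟦(1 : ℤ)⟧}
    (hT : Triangle.mk i q δ ∈ distTriang C) (u : F.obj K₁ ≅ F'.obj K₁) (v : F.obj K₃ ≅ F'.obj K₃)
    (hδ : Comm F F' δ v (sh F F' u 1)) : ∃ e : F.obj K₂ ≅ F'.obj K₂, Comm F F' q e v := by
  let φ := isoTriangleOfIso₁₃ _ _ (F.map_distinguished _ hT) (F'.map_distinguished _ hT) u v (by
    unfold Comm at hδ
    simp only [sh, Iso.trans_hom, Iso.app_hom, Functor.mapIso_hom, Iso.symm_hom,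
      Iso.app_inv] at hδ
    show (F.map δ ≫ _) ≫ _ = _ ≫ F'.map δ ≫ (F'.commShiftIso (1 : ℤ)).hom.app K₁
    rw [← reassoc_of% hδ]
    simp)
  exact ⟨Triangle.π₂.mapIso φ, φ.hom.comm₂⟩

variable (h : j ⋙ F ≅ j ⋙ F')

variable (t) in
/-- A natural family of isomorphisms on objects of width `≤ w`, extending `h`. -/
structure PartialIso (w : ℕ) where
  η : ∀ K : C, Width t w K → (F.obj K ≅ F'.obj K)
  nat : ∀ {K L : C} (hK : Width t w K) (hL : Width t w L) (f : K ⟶ L),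
    Comm F F' f (η K hK) (η L hL)
  base : ∀ (X : A) (m : ℤ) (hX : Width t w (hobj j X m)), η _ hX = hI h X m

variable (hj : HeartData t j) [j.Full] (hneg : NegVanish F j)

include hj hneg in
lemma exists_partialIso_zero : Nonempty (PartialIso t h 0) := by
  have key : ∀ K : C, Width t 0 K → ∃ (X : A) (m : ℤ), Nonempty (hobj j X m ≅ K) := by
    rintro K ⟨a, h₁, h₂⟩
    have : t.IsLE K a := by simpa using h₂
    obtain ⟨X, hX⟩ := hj.exists_iso_hobj K a
    exact ⟨X, -a, hX⟩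
  choose X m hX using key
  let i := fun K hK => (hX K hK).some
  let η := fun K hK => F.mapIso (i K hK).symm ≪≫ hI h (X K hK) (m K hK) ≪≫ F'.mapIso (i K hK)
  have hi : ∀ K hK, Comm F F' (i K hK).hom (hI h (X K hK) (m K hK)) (η K hK) := fun K hK => by
    simp [Comm, η]
  refine ⟨⟨η, fun {K L} hK hL f => ?_, fun Y n hY => ?_⟩⟩
  · have := (((hi K hK).inv (i K hK)).comp
      (comm_hobj h hj hneg ((i K hK).hom ≫ f ≫ (i L hL).inv))).comp (hi L hL)
    simpa using this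
  · refine Iso.ext ?_
    have h1 := comm_hobj h hj hneg (i (hobj j Y n) hY).hom
    have h2 := hi (hobj j Y n) hY
    unfold Comm at h1 h2
    rw [← cancel_epi (F.map (i (hobj j Y n) hY).hom), h1, h2]

variable {h}
variable {w : ℕ}

variable (t j) in
/-- Approximation data of `K` at top degree `b`. -/
structure Approx (w : ℕ) (K : C) (b : ℤ) where
  N : A
  i : hobj j N (-b) ⟶ K
  K' : C
  q : K ⟶ K'
  δ : K' ⟶ (hobj j N (-b))⟦(1 : ℤ)⟧
  mem : Triangle.mk i q δ ∈ distTriang C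
  vanish : ∀ g : K ⟶ hobj j N (-b), g = 0
  isGE : t.IsGE K' (b - 1 - w)
  isLE : t.IsLE K' (b - 1)

lemma Approx.width {K : C} {b : ℤ} (ap : Approx t j w K b) : Width t w ap.K' :=
  ⟨b - 1 - w, ap.isGE, by
    have := ap.isLE
    simpa using this⟩

/-- Enough negative objects. -/
def EnoughNegative (A : Type w') [Category.{z'} A] [HasZeroMorphisms A] : Prop :=
  ∀ X : A, ∃ (N : A) (p : N ⟶ X), Epi p ∧ ∀ f : X ⟶ N, f = 0

variable [Abelian A] [j.Additive] [j.Faithful] (hA : EnoughNegative A)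

omit [IsTriangulated C] [j.Additive] [j.Full] hneg in
lemma isLE_biprod (M₁ M₂ : C) (n : ℤ) [t.IsLE M₁ n] [t.IsLE M₂ n] : t.IsLE (M₁ ⊞ M₂) n :=
  t.isLE₂ _ (binaryBiproductTriangle_distinguished M₁ M₂) n
    (inferInstanceAs (t.IsLE M₁ n)) (inferInstanceAs (t.IsLE M₂ n))

include hj hA in
lemma exists_approx_kill (K : C) (b : ℤ) [t.IsGE K (b - 1 - w)] [t.IsLE K b] (M : C) (f : K ⟶ M)
    [t.IsLE M (b - 1)] (K₂ : C) [t.IsLE K₂ b] :
    ∃ ap : Approx t j w K b, (∃ f' : ap.K' ⟶ M, f = ap.q ≫ f') ∧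
      ∀ g : K₂ ⟶ hobj j ap.N (-b), g = 0 := by
  obtain ⟨N₁, i₁, hi₁, hi₁f⟩ := exists_isTop_kill hj K b M f
  have : t.IsLE ((t.truncGE b).obj K) b := inferInstance
  have : t.IsLE ((t.truncGE b).obj K₂) b := inferInstance
  obtain ⟨X, ⟨e⟩⟩ := hj.exists_iso_hobj ((t.truncGE b).obj K) b
  obtain ⟨X₂, ⟨e₂⟩⟩ := hj.exists_iso_hobj ((t.truncGE b).obj K₂) b
  obtain ⟨N, p, hp, hN⟩ := hA ((X ⊞ X₂) ⊞ N₁)
  haveI := hp
  haveI : Epi (p ≫ biprod.snd) := epi_comp _ _
  have hX : ∀ u : X ⟶ N, u = 0 := fun u => by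
    have := hN (biprod.fst ≫ biprod.fst ≫ u)
    rwa [← cancel_epi (biprod.fst : X ⊞ X₂ ⟶ X), ← cancel_epi (biprod.fst : (X ⊞ X₂) ⊞ N₁ ⟶ _),
      comp_zero, comp_zero]
  have hX₂ : ∀ u : X₂ ⟶ N, u = 0 := fun u => by
    have := hN (biprod.fst ≫ biprod.snd ≫ u)
    rwa [← cancel_epi (biprod.snd : X ⊞ X₂ ⟶ X₂), ← cancel_epi (biprod.fst : (X ⊞ X₂) ⊞ N₁ ⟶ _),
      comp_zero, comp_zero]
  have van : ∀ (L : C) (Y : A), (hobj j Y (-b) ≅ (t.truncGE b).obj L) → (∀ u : Y ⟶ N, u = 0) →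
      ∀ g : L ⟶ hobj j N (-b), g = 0 := by
    intro L Y eY hY g
    have : t.IsGE (hobj j N (-b)) b := hj.isGE_hobj N (-b) b (by lia)
    obtain ⟨u', hu'⟩ := (shiftFunctor C (-b)).map_surjective (eY.hom ≫ t.descTruncGE g b)
    obtain ⟨u, rfl⟩ := j.map_surjective u'
    rw [hY u, j.map_zero, Functor.map_zero] at hu'
    rw [← t.π_descTruncGE g b, (cancel_epi eY.hom).1 (hu'.symm.trans comp_zero.symm), comp_zero]
  have hi := IsTop.comp_epi hj hi₁ (p ≫ biprod.snd) inferInstance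
  obtain ⟨K', q, δ, hT⟩ := distinguished_cocone_triangle
    ((shiftFunctor C (-b)).map (j.map (p ≫ biprod.snd)) ≫ i₁)
  refine ⟨⟨N, _, K', q, δ, hT, van K X e hX, isGE_cone hj (by omega) hT,
    IsTop.isLE_cone hj hi hT⟩, ?_, van K₂ X₂ e₂ hX₂⟩
  exact Triangle.yoneda_exact₂ _ hT f (by
    show (_ ≫ i₁) ≫ f = 0
    rw [Category.assoc, hi₁f, comp_zero])

variable (S : PartialIso t h w)

section
variable [F.Full]

omit [Abelian A] [j.Additive] [j.Faithful] [IsTriangulated C] in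
include hj in
lemma hom_F_hobj'_eq_zero (h : j ⋙ F ≅ j ⋙ F') {K : C} {X : A} {m : ℤ}
    (hv : ∀ g : K ⟶ hobj j X m, g = 0) (k : F.obj K ⟶ F'.obj (hobj j X m)) : k = 0 := by
  obtain ⟨g, hg⟩ := F.map_surjective (k ≫ (hI h X m).inv)
  rw [hv g, F.map_zero] at hg
  rw [← cancel_mono (hI h X m).inv, ← hg, zero_comp]

include hj in
lemma Approx.eq_of_comp {K : C} {b : ℤ} (ap : Approx t j w K b)
    (h : j ⋙ F ≅ j ⋙ F') {d d' : F.obj K ⟶ F'.obj K}
    (hd : d ≫ F'.map ap.q = d' ≫ F'.map ap.q) : d = d' := by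
  obtain ⟨k, hk⟩ := Triangle.coyoneda_exact₂ _ (F'.map_distinguished _ ap.mem) (d - d') (by
    show (d - d') ≫ F'.map ap.q = 0
    rw [Preadditive.sub_comp, hd, sub_self])
  rw [hom_F_hobj'_eq_zero hj h ap.vanish k, zero_comp] at hk
  exact sub_eq_zero.1 hk

include hj in
lemma Approx.iso_unique {K : C} {b : ℤ} (ap : Approx t j w K b) {e e' : F.obj K ≅ F'.obj K}
    (he : Comm F F' ap.q e (S.η _ ap.width)) (he' : Comm F F' ap.q e' (S.η _ ap.width)) :
    e = e' :=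
  Iso.ext (Approx.eq_of_comp hj ap h (he.symm.trans he'))

include hj in
lemma Approx.exists_iso {K : C} {b : ℤ} (ap : Approx t j w K b) :
    ∃ e : F.obj K ≅ F'.obj K, Comm F F' ap.q e (S.η _ ap.width) := by
  let E := (shiftFunctorAdd' C (-b) 1 (-(b - 1)) (by lia)).app (j.obj ap.N)
  have h2 := S.nat ap.width (width_hobj hj w ap.N (-(b - 1))) (ap.δ ≫ E.inv)
  rw [S.base] at h2
  have h3 := h2.comp
    (comm_add (F := F) (F' := F') (K := j.obj ap.N) (h.app ap.N) (-b) 1 (-(b - 1)) (by lia))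
  rw [Category.assoc] at h3
  erw [E.inv_hom_id, Category.comp_id] at h3
  exact exists_iso_mid ap.mem (hI h ap.N (-b)) (S.η _ ap.width) h3

include hj hA in
lemma exists_unique_extension (K : C) (b : ℤ) [t.IsGE K (b - 1 - w)] [t.IsLE K b] :
    ∃ e : F.obj K ≅ F'.obj K, ∀ ap : Approx t j w K b, Comm F F' ap.q e (S.η _ ap.width) := by
  have : t.IsLE (0 : C) (b - 1) := inferInstance
  obtain ⟨ap₀, -⟩ := exists_approx_kill (w := w) hj hA K b (0 : C) 0 K
  obtain ⟨e, he⟩ := Approx.exists_iso hj S ap₀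
  refine ⟨e, fun ap => ?_⟩
  have := ap.isLE
  have := ap₀.isLE
  have := isLE_biprod (t := t) ap.K' ap₀.K' (b - 1)
  obtain ⟨ap₃, ⟨f', hf'⟩, -⟩ := exists_approx_kill (w := w) hj hA K b _ (biprod.lift ap.q ap₀.q) K
  obtain ⟨e₃, he₃⟩ := Approx.exists_iso hj S ap₃
  have h₁ := he₃.comp (S.nat ap₃.width ap.width (f' ≫ biprod.fst))
  have h₀ := he₃.comp (S.nat ap₃.width ap₀.width (f' ≫ biprod.snd))
  rw [← Category.assoc, ← hf', biprod.lift_fst] at h₁
  rw [← Category.assoc, ← hf', biprod.lift_snd] at h₀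
  rwa [Approx.iso_unique hj S ap₀ he h₀]

include hj hA in
lemma exists_succ : ∃ S' : PartialIso t h (w + 1),
    ∀ K (hK : Width t w K) (hK' : Width t (w + 1) K), S'.η K hK' = S.η K hK := by
  classical
  -- the family
  have hex : ∀ K : C, Width t (w + 1) K → ∃ e : F.obj K ≅ F'.obj K,
      (∀ hK : Width t w K, e = S.η K hK) ∧
      ∀ (b : ℤ), t.IsGE K (b - 1 - w) → t.IsLE K b →
        ∀ ap : Approx t j w K b, Comm F F' ap.q e (S.η _ ap.width) := by
    intro K hK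
    by_cases hn : Width t w K
    · exact ⟨S.η K hn, fun _ => rfl, fun b _ _ ap => S.nat hn ap.width ap.q⟩
    · obtain ⟨a, h₁, h₂⟩ := hK
      have : t.IsGE K (a + w + 1 - 1 - w) := by
        rw [show a + w + 1 - 1 - (w : ℤ) = a by omega]; exact h₁
      have : t.IsLE K (a + w + 1) := t.isLE_of_le K (a + ((w + 1 : ℕ) : ℤ)) _ (by omega)
      obtain ⟨e, he⟩ := exists_unique_extension hj hA S K (a + w + 1)
      refine ⟨e, fun hK => absurd hK hn, fun b hb hb' => ?_⟩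
      obtain rfl : b = a + w + 1 := by
        by_contra hne
        apply hn
        rcases lt_or_gt_of_ne hne with hlt | hlt
        · exact ⟨a, h₁, t.isLE_of_le K b (a + w) (by omega)⟩
        · exact ⟨b - 1 - w, hb, t.isLE_of_le K (a + w + 1) _ (by omega)⟩
      exact he
  choose η hη₁ hη₂ using hex
  let W' := Width t (w + 1)
  let Nat₁ : C → C → Prop := fun K L => ∀ (hK : W' K) (hL : W' L) (f : K ⟶ L),
    Comm F F' f (η K hK) (η L hL)
  have narrow : ∀ K L, Width t w K → Width t w L → Nat₁ K L := fun K L hK hL hK' hL' f => by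
    rw [hη₁ K hK' hK, hη₁ L hL' hL]
    exact S.nat hK hL f
  -- reduction in the source
  have redA : ∀ K L (b b' : ℤ), t.IsGE K (b - 1 - w) → t.IsLE K b → t.IsLE L b' → b' < b →
      (∀ K', Width t w K' → t.IsGE K' (b - 1 - 1 - w) → t.IsLE K' (b - 1) → Nat₁ K' L) →
      Nat₁ K L := by
    intro K L b b' h₁ h₂ h₃ hlt hrec hK hL f
    have := t.isLE_of_le L b' (b - 1) (by omega)
    obtain ⟨ap, ⟨f', hf'⟩, -⟩ := exists_approx_kill (w := w) hj hA K b L f K
    have hW := ap.width.mono (Nat.le_succ w)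
    have := ap.isGE
    have hq : Comm F F' ap.q (η K hK) (η _ hW) := by
      rw [hη₁ _ hW ap.width]; exact hη₂ K hK b h₁ h₂ ap
    rw [hf']
    exact hq.comp (hrec _ ap.width (t.isGE_of_ge _ _ (b - 1 - w) (by omega)) ap.isLE hW hL f')
  -- reduction in the target
  have redB : ∀ K L (b b' : ℤ), t.IsGE L (b' - 1 - w) → t.IsLE L b' → t.IsLE K b → b ≤ b' →
      (∀ L', Width t w L' → t.IsGE L' (b' - 1 - 1 - w) → t.IsLE L' (b' - 1) → Nat₁ K L') →
      Nat₁ K L := by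
    intro K L b b' h₁ h₂ h₃ hle hrec hK hL f
    have := t.isLE_of_le K b b' hle
    have : t.IsLE (0 : C) (b' - 1) := inferInstance
    obtain ⟨ap, -, hv⟩ := exists_approx_kill (w := w) hj hA L b' (0 : C) 0 K
    have hW := ap.width.mono (Nat.le_succ w)
    have := ap.isGE
    have hq : Comm F F' ap.q (η L hL) (η _ hW) := by
      rw [hη₁ _ hW ap.width]; exact hη₂ L hL b' h₁ h₂ ap
    have h3 := hrec _ ap.width (t.isGE_of_ge _ _ (b' - 1 - w) (by omega)) ap.isLE hK hW (f ≫ ap.q)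
    unfold Comm at hq h3 ⊢
    obtain ⟨k, hk⟩ := Triangle.coyoneda_exact₂ _ (F'.map_distinguished _ ap.mem)
      (F.map f ≫ (η L hL).hom - (η K hK).hom ≫ F'.map f) (by
        show (_ - _) ≫ F'.map ap.q = 0
        rw [Preadditive.sub_comp, Category.assoc, ← hq, Category.assoc, ← Functor.map_comp,
          ← h3, ← Category.assoc, ← Functor.map_comp, sub_self])
    rw [hom_F_hobj'_eq_zero hj h hv k, zero_comp] at hk
    exact sub_eq_zero.1 hk
  -- source narrow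
  have srcN : ∀ (n : ℕ) K L (b b' : ℤ), Width t w K → t.IsGE K (b - 1 - w) → t.IsLE K b →
      t.IsGE L (b' - 1 - w) → t.IsLE L b' → b ≤ b' + n → Nat₁ K L := by
    intro n
    induction n with
    | zero =>
      intro K L b b' hKn h₁ h₂ h₃ h₄ hle
      exact redB K L b b' h₃ h₄ h₂ (by omega) fun L' hL' _ _ => narrow K L' hKn hL'
    | succ n ih =>
      intro K L b b' hKn h₁ h₂ h₃ h₄ hle
      by_cases hb : b ≤ b'
      · exact redB K L b b' h₃ h₄ h₂ hb fun L' hL' _ _ => narrow K L' hKn hL'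
      · exact redA K L b b' h₁ h₂ h₄ (by omega) fun K' hK' g₁ g₂ =>
          ih K' L (b - 1) b' hK' g₁ g₂ h₃ h₄ (by omega)
  -- target narrow
  have tgtN : ∀ (n : ℕ) K L (b b' : ℤ), Width t w L → t.IsGE K (b - 1 - w) → t.IsLE K b →
      t.IsGE L (b' - 1 - w) → t.IsLE L b' → b' < b + n → Nat₁ K L := by
    intro n
    induction n with
    | zero =>
      intro K L b b' hLn h₁ h₂ h₃ h₄ hle
      exact redA K L b b' h₁ h₂ h₄ (by omega) fun K' hK' _ _ => narrow K' L hK' hLn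
    | succ n ih =>
      intro K L b b' hLn h₁ h₂ h₃ h₄ hle
      by_cases hb : b' < b
      · exact redA K L b b' h₁ h₂ h₄ hb fun K' hK' _ _ => narrow K' L hK' hLn
      · exact redB K L b b' h₃ h₄ h₂ (by omega) fun L' hL' g₁ g₂ =>
          ih K L' b (b' - 1) hL' h₁ h₂ g₁ g₂ (by omega)
  refine ⟨⟨η, fun {K L} hK hL f => ?_, fun X m hX => ?_⟩, fun K hK hK' => hη₁ K hK' hK⟩
  · obtain ⟨a, ha₁, ha₂⟩ := id hK
    obtain ⟨a', ha₁', ha₂'⟩ := id hL
    have g₁ : t.IsGE K (a + ((w + 1 : ℕ) : ℤ) - 1 - w) := by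
      rw [show a + ((w + 1 : ℕ) : ℤ) - 1 - (w : ℤ) = a by omega]; exact ha₁
    have g₂ : t.IsGE L (a' + ((w + 1 : ℕ) : ℤ) - 1 - w) := by
      rw [show a' + ((w + 1 : ℕ) : ℤ) - 1 - (w : ℤ) = a' by omega]; exact ha₁'
    by_cases hlt : a' < a
    · exact redA K L (a + ((w + 1 : ℕ) : ℤ)) (a' + ((w + 1 : ℕ) : ℤ)) g₁ ha₂ ha₂' (by omega) (fun K' hK' k₁ k₂ =>
        srcN (a - a').toNat K' L _ _ hK' k₁ k₂ g₂ ha₂' (by omega)) hK hL f
    · exact redB K L (a + ((w + 1 : ℕ) : ℤ)) (a' + ((w + 1 : ℕ) : ℤ)) g₂ ha₂' ha₂ (by omega) (fun L' hL' k₁ k₂ =>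
        tgtN (a' - a).toNat K L' _ _ hL' g₁ ha₂ k₁ k₂ (by omega)) hK hL f
  · rw [hη₁ _ hX (width_hobj hj w X m)]
    exact S.base X m _

include hj hneg hA in
theorem nonempty_iso_of_enoughNegative (h : j ⋙ F ≅ j ⋙ F') (hb : ∀ K : C, t.bounded K) :
    Nonempty (F ≅ F') := by
  classical
  obtain ⟨S₀⟩ := exists_partialIso_zero h hj hneg
  have hs : ∀ (w : ℕ) (S : PartialIso t h w), ∃ S' : PartialIso t h (w + 1),
      ∀ K (hK : Width t w K) (hK' : Width t (w + 1) K), S'.η K hK' = S.η K hK :=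
    fun w S => exists_succ hj hA S
  choose next hnext using hs
  let T : ∀ w, PartialIso t h w := fun w => Nat.rec S₀ next w
  have hT : ∀ (w w' : ℕ) (hw : w ≤ w') K (hK : Width t w K),
      (T w').η K (hK.mono hw) = (T w).η K hK := by
    intro w w' hw
    induction w', hw using Nat.le_induction with
    | base => intros; rfl
    | succ n hn ih =>
      intro K hK
      rw [show T (n + 1) = next n (T n) from rfl, hnext n (T n) K (hK.mono hn), ih K hK]
  have hW : ∀ K : C, ∃ w : ℕ, Width t w K := fun K => by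
    obtain ⟨⟨a, ha⟩, b, hb⟩ := hb K
    exact ⟨(b - a).toNat, a, ha, t.isLE_of_le K b _ (by omega)⟩
  choose w hw using hW
  refine ⟨NatIso.ofComponents (fun K => (T (w K)).η K (hw K)) (fun {K L} f => ?_)⟩
  rw [← hT (w K) (max (w K) (w L)) (le_max_left _ _) K (hw K),
    ← hT (w L) (max (w K) (w L)) (le_max_right _ _) L (hw L)]
  exact (T _).nat _ _ f

end

end Groth.Agent.DEqT
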