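import Groth.Agent.DEqT.SibGen

/-!
# Siblings: objectwise isomorphism, and transfer of full faithfulness
-/

set_option linter.style.haveILetI false
set_option linter.unusedSectionVars false
set_option backward.defeqAttrib.useBackward true
set_option backward.isDefEq.respectTransparency false

universe v u v' u' w' z'

open CategoryTheory CategoryTheory.Limits CategoryTheory.Pretriangulated CategoryTheory.Triangulated
open scoped ZeroObject

namespace Groth.Agent.DEqT

variable {C : Type u} [Category.{v} C] [Preadditive C] [HasZeroObject C] [HasShift C ℤ]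
  [∀ n : ℤ, (shiftFunctor C n).Additive] [Pretriangulated C] [IsTriangulated C]
  {A : Type w'} [Category.{z'} A]
  {D : Type u'} [Category.{v'} D] [Preadditive D] [HasZeroObject D] [HasShift D ℤ]
  [∀ n : ℤ, (shiftFunctor D n).Additive] [Pretriangulated D]
  {F F' : C ⥤ D} [F.CommShift ℤ] [F'.CommShift ℤ] [F.IsTriangulated] [F'.IsTriangulated]
  {t : TStructure C} {j : A ⥤ C} [j.Full] (h : j ⋙ F ≅ j ⋙ F')
  (hj : HeartData t j) (hneg : NegVanish F j)

include hj hneg

lemma exists_iso_aux (w : ℕ) : ∀ (K : C) (b : ℤ), t.IsGE K (b - w) → t.IsLE K b →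
    ∃ (e : F.obj K ≅ F'.obj K) (N : A) (i : hobj j N (-b) ⟶ K),
      Comm F F' i (hI h N (-b)) e ∧
      ∀ (Y : A) (g : F.obj K ⟶ F'.obj (hobj j Y (-b))), F.map i ≫ g = 0 → g = 0 := by
  induction w with
  | zero =>
    intro K b hK hK'
    have : t.IsGE K b := by simpa using hK
    obtain ⟨X, ⟨i⟩⟩ := hj.exists_iso_hobj K b
    refine ⟨F.mapIso i.symm ≪≫ hI h X (-b) ≪≫ F'.mapIso i, X, i.hom, ?_, fun Y g hg => ?_⟩
    · simp [Comm]
    · rwa [← cancel_epi (F.map i.hom), comp_zero]
  | succ w ih =>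
    intro K b hK hK'
    obtain ⟨N, i, hi⟩ := exists_isTop hj K b
    obtain ⟨K', q, δ, hT⟩ := distinguished_cocone_triangle i
    have hle : t.IsLE K' (b - 1) := IsTop.isLE_cone hj hi hT
    have hge : t.IsGE K' (b - 1 - w) := by
      have : t.IsGE K (b - 1 - w) := by
        rw [show b - 1 - (w : ℤ) = b - (w + 1 : ℕ) by omega]; exact hK
      exact isGE_cone hj (by omega) hT
    obtain ⟨e', N', i', hi', hinj⟩ := ih K' (b - 1) hge hle
    let E := (shiftFunctorAdd' C (-b) 1 (-(b - 1)) (by lia)).app (j.obj N)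
    have hδ : Comm F F' δ e' (sh F F' (hI h N (-b)) 1) := by
      have hE := comm_add (F := F) (F' := F') (K := j.obj N) (h.app N) (-b) 1 (-(b - 1)) (by lia)
      have h1 := comm_hobj h hj hneg (i' ≫ δ ≫ E.inv)
      have hE' := hE.inv E
      have key : (F.map (δ ≫ E.inv) ≫ (hI h N (-(b - 1))).hom -
          e'.hom ≫ F'.map (δ ≫ E.inv)) = 0 := by
        apply hinj N
        rw [Preadditive.comp_sub, sub_eq_zero, ← Category.assoc, ← Functor.map_comp]
        unfold Comm at h1 hi'
        rw [h1, Functor.map_comp, ← Category.assoc, reassoc_of% hi', Category.assoc]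
      have h2 : Comm F F' (δ ≫ E.inv) e' (hI h N (-(b - 1))) := sub_eq_zero.1 key
      have h3 := h2.comp hE
      rw [Category.assoc] at h3
      erw [E.inv_hom_id, Category.comp_id] at h3
      exact h3
    let φ := isoTriangleOfIso₁₃ _ _ (F.map_distinguished _ hT) (F'.map_distinguished _ hT)
      (hI h N (-b)) e' (by
        have := hδ
        unfold Comm at this
        simp only [sh, Iso.trans_hom, Iso.app_hom, Functor.mapIso_hom, Iso.symm_hom,
          Iso.app_inv] at this
        show (F.map δ ≫ _) ≫ _ = _ ≫ F'.map δ ≫ (F'.commShiftIso (1 : ℤ)).hom.app (hobj j N (-b))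
        rw [← reassoc_of% this]
        simp)
    refine ⟨Triangle.π₂.mapIso φ, N, i, ?_, fun Y g hg => ?_⟩
    · have := φ.hom.comm₁
      exact this
    · obtain ⟨k, hk⟩ := Triangle.yoneda_exact₂ _ (F.map_distinguished _ hT) g hg
      have hk0 := hom_to_hobj'_eq_zero h hj hneg K' (b - 1 - w) (b - 1) Y (-b) (by lia) k
      rw [hk, hk0, comp_zero]

include h in
theorem nonempty_iso_of_negVanish (hb : ∀ K : C, t.bounded K) (K : C) :
    Nonempty (F.obj K ≅ F'.obj K) := by
  obtain ⟨⟨a, ha⟩, b, hb⟩ := hb K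
  by_cases hab : b < a
  · exact ⟨(F.map_isZero (t.isZero K b a hab)).iso (F'.map_isZero (t.isZero K b a hab))⟩
  · obtain ⟨e, -⟩ := exists_iso_aux h hj hneg (b - a).toNat K b
      (by rw [show b - ((b - a).toNat : ℤ) = a by omega]; exact ha) hb
    exact ⟨e⟩

omit [IsTriangulated C] hj hneg in
lemma bijective_map_iso {G : C ⥤ D} {K K' L L' : C} (eK : K ≅ K') (eL : L ≅ L')
    (hb : Function.Bijective (G.map (X := K) (Y := L))) :
    Function.Bijective (G.map (X := K') (Y := L')) := by
  constructor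
  · intro f g hfg
    have := hb.1 (a₁ := eK.hom ≫ f ≫ eL.inv) (a₂ := eK.hom ≫ g ≫ eL.inv) (by simp [hfg])
    rwa [cancel_epi, cancel_mono] at this
  · intro v
    obtain ⟨f, hf⟩ := hb.2 (G.map eK.hom ≫ v ≫ G.map eL.inv)
    exact ⟨eK.inv ≫ f ≫ eL.hom, by simp only [Functor.map_comp, hf, Category.assoc]; rw [← Functor.map_comp_assoc, ← Functor.map_comp, eK.inv_hom_id, eL.inv_hom_id]; simp⟩

include h in
/-- Full faithfulness passes from `F` to `F'`. -/
theorem bijective_map_of_full_faithful [F.Full] [F.Faithful] (hb : ∀ K : C, t.bounded K) (K L : C) :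
    Function.Bijective (F'.map (X := K) (Y := L)) := by
  haveI : F'.Additive := inferInstance
  have base : ∀ (X Y : A) (a b : ℤ), Function.Bijective
      (F'.map (X := hobj j X a) (Y := hobj j Y b)) := by
    intro X Y a b
    constructor
    · intro f g hfg
      apply F.map_injective
      have h1 := comm_hobj h hj hneg f
      have h2 := comm_hobj h hj hneg g
      unfold Comm at h1 h2
      rwa [← cancel_mono (hI h Y b).hom, h1, h2, cancel_epi]
    · intro v
      obtain ⟨f, hf⟩ := F.map_surjective ((hI h X a).hom ≫ v ≫ (hI h Y b).inv)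
      refine ⟨f, ?_⟩
      have h1 := comm_hobj h hj hneg f
      unfold Comm at h1
      rw [← cancel_epi (hI h X a).hom, ← h1, hf]
      simp
  -- devissage in the target
  have tgt : ∀ (X : A) (a : ℤ) (L : C) (m : ℤ), Function.Bijective
      (F'.map (X := hobj j X a) (Y := L⟦m⟧)) := by
    intro X a L
    obtain ⟨⟨a', ha'⟩, b', hb'⟩ := hb L
    refine hj.induction (P := fun L => ∀ m : ℤ, Function.Bijective
      (F'.map (X := hobj j X a) (Y := L⟦m⟧))) a' b' ?_ ?_ ?_ ?_ L
    · exact fun e hP m => bijective_map_iso (Iso.refl _) ((shiftFunctor C m).mapIso e) (hP m)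
    · intro L hL m
      have h1 := (shiftFunctor C m).map_isZero hL
      exact ⟨fun f g _ => h1.eq_of_tgt _ _,
        fun v => ⟨0, (F'.map_isZero h1).eq_of_tgt _ _⟩⟩
    · intro T₀ hT₀ h₁ h₃ m
      let T := (CategoryTheory.shiftFunctor (Triangle C) m).obj T₀
      have hT : T ∈ distTriang C := Triangle.shift_distinguished _ hT₀ m
      have k₁ : Function.Bijective (F'.map (X := hobj j X a) (Y := T.obj₁⟦(1 : ℤ)⟧)) :=
        bijective_map_iso (Iso.refl _) ((shiftFunctorAdd C m 1).app T₀.obj₁) (h₁ (m + 1))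
      have k₃ : Function.Bijective (F'.map (X := hobj j X a) (Y := T.obj₃⟦(-1 : ℤ)⟧)) :=
        bijective_map_iso (Iso.refl _) ((shiftFunctorAdd C m (-1)).app T₀.obj₃) (h₃ (m + -1))
      refine (?_ : Function.Bijective (F'.map (X := hobj j X a) (Y := T.obj₂)))
      constructor
      · refine (injective_iff_map_eq_zero
          (F'.mapAddHom : (hobj j X a ⟶ T.obj₂) →+ _)).2 (fun f hf => ?_)
        change F'.map f = 0 at hf
        have h0 : f ≫ T.mor₂ = 0 := (h₃ m).1 (by simp [hf])
        obtain ⟨u, hu⟩ := Triangle.coyoneda_exact₂ T hT f h0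
        obtain ⟨v, hv⟩ := Triangle.coyoneda_exact₂ _
          (F'.map_distinguished _ (inv_rot_of_distTriang _ hT)) (F'.map u)
          (by show F'.map u ≫ F'.map T.mor₁ = 0; rw [← Functor.map_comp, ← hu, hf])
        obtain ⟨w, hw⟩ := k₃.2 v
        have : u = w ≫ T.invRotate.mor₁ := (h₁ m).1 (by rw [hv, ← hw, Functor.map_comp]; rfl)
        rw [hu, this, Category.assoc]
        have h0 := comp_distTriang_mor_zero₁₂ _ (inv_rot_of_distTriang _ hT)
        rw [show T.invRotate.mor₁ ≫ T.mor₁ = 0 from h0, comp_zero]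
      · intro v
        obtain ⟨c, hc⟩ := (h₃ m).2 (v ≫ F'.map T.mor₂)
        have hc' : c ≫ T.mor₃ = 0 := k₁.1 (by
          rw [Functor.map_zero, Functor.map_comp]
          show F'.map (c : hobj j X a ⟶ T.obj₃) ≫ _ = 0
          rw [hc, Category.assoc, ← Functor.map_comp,
            comp_distTriang_mor_zero₂₃ _ hT, Functor.map_zero, comp_zero])
        obtain ⟨b₀, hb₀⟩ := Triangle.coyoneda_exact₃ T hT c hc'
        obtain ⟨u, hu⟩ := Triangle.coyoneda_exact₂ _ (F'.map_distinguished _ hT)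
          (v - F'.map b₀) (by
            show (v - F'.map b₀) ≫ F'.map T.mor₂ = 0
            rw [Preadditive.sub_comp, ← Functor.map_comp, ← hb₀]
            exact sub_eq_zero.2 hc.symm)
        obtain ⟨w, hw⟩ := (h₁ m).2 u
        refine ⟨b₀ + w ≫ T.mor₁, ?_⟩
        rw [Functor.map_add, Functor.map_comp, show F'.map w = u from hw]
        exact (by rw [← sub_add_cancel v (F'.map b₀), hu, add_comm]; rfl)
    · exact fun Y i _ _ m => bijective_map_iso (Iso.refl _)
        ((shiftFunctorAdd C (-i) m).app (j.obj Y)) (base X Y a (-i + m))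
  -- devissage in the source
  obtain ⟨⟨a', ha'⟩, b', hb'⟩ := hb K
  suffices h' : ∀ m : ℤ, Function.Bijective (F'.map (X := K⟦m⟧) (Y := L)) from
    bijective_map_iso ((shiftFunctorZero C ℤ).app K) (Iso.refl _) (h' 0)
  refine hj.induction (P := fun K => ∀ m : ℤ, Function.Bijective
      (F'.map (X := K⟦m⟧) (Y := L))) a' b' ?_ ?_ ?_ ?_ K
  · exact fun e hP m => bijective_map_iso ((shiftFunctor C m).mapIso e) (Iso.refl _) (hP m)
  · intro K hK m
    have h1 := (shiftFunctor C m).map_isZero hK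
    exact ⟨fun f g _ => h1.eq_of_src _ _, fun v => ⟨0, (F'.map_isZero h1).eq_of_src _ _⟩⟩
  · intro T₀ hT₀ h₁ h₃ m
    let T := (CategoryTheory.shiftFunctor (Triangle C) m).obj T₀
    have hT : T ∈ distTriang C := Triangle.shift_distinguished _ hT₀ m
    have k₁ : Function.Bijective (F'.map (X := T.obj₁⟦(1 : ℤ)⟧) (Y := L)) :=
      bijective_map_iso ((shiftFunctorAdd C m 1).app T₀.obj₁) (Iso.refl _) (h₁ (m + 1))
    have k₃ : Function.Bijective (F'.map (X := T.obj₃⟦(-1 : ℤ)⟧) (Y := L)) :=
      bijective_map_iso ((shiftFunctorAdd C m (-1)).app T₀.obj₃) (Iso.refl _) (h₃ (m + -1))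
    refine (?_ : Function.Bijective (F'.map (X := T.obj₂) (Y := L)))
    constructor
    · refine (injective_iff_map_eq_zero (F'.mapAddHom : (T.obj₂ ⟶ L) →+ _)).2 (fun f hf => ?_)
      change F'.map f = 0 at hf
      have h0 : T.mor₁ ≫ f = 0 := (h₁ m).1 (by simp [hf])
      obtain ⟨u, hu⟩ := Triangle.yoneda_exact₂ T hT f h0
      obtain ⟨v, hv⟩ := Triangle.yoneda_exact₂ _
        (F'.map_distinguished _ (rot_of_distTriang _ hT)) (F'.map u)
        (by show F'.map T.mor₂ ≫ F'.map u = 0; rw [← Functor.map_comp, ← hu, hf])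
      obtain ⟨w, hw⟩ := k₁.2 v
      have : u = T.mor₃ ≫ w := (h₃ m).1 (by rw [hv, ← hw, Functor.map_comp]; rfl)
      rw [hu, this, comp_distTriang_mor_zero₂₃_assoc _ hT, zero_comp]
    · intro v
      obtain ⟨c, hc⟩ := (h₁ m).2 (F'.map T.mor₁ ≫ v)
      have hz : T.invRotate.mor₁ ≫ T.mor₁ = 0 :=
        comp_distTriang_mor_zero₁₂ _ (inv_rot_of_distTriang _ hT)
      have hc' : T.invRotate.mor₁ ≫ (c : T.obj₁ ⟶ L) = 0 := k₃.1 (by
        rw [Functor.map_zero]
        erw [Functor.map_comp]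
        rw [show F'.map (c : T.obj₁ ⟶ L) = F'.map T.mor₁ ≫ v from hc]
        erw [← Category.assoc, ← Functor.map_comp, hz, Functor.map_zero, zero_comp])
      obtain ⟨b₀, hb₀⟩ : ∃ b₀ : T.obj₂ ⟶ L, c = T.mor₁ ≫ b₀ :=
        Triangle.yoneda_exact₂ _ (inv_rot_of_distTriang _ hT) c hc'
      obtain ⟨u, hu⟩ := Triangle.yoneda_exact₂ _ (F'.map_distinguished _ hT)
        (v - F'.map b₀) (by
          show F'.map T.mor₁ ≫ (v - F'.map b₀) = 0
          rw [Preadditive.comp_sub, ← Functor.map_comp]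
          exact sub_eq_zero.2 (hc.symm.trans (congrArg F'.map hb₀)))
      obtain ⟨w, hw⟩ := (h₃ m).2 u
      refine ⟨b₀ + T.mor₂ ≫ w, ?_⟩
      rw [Functor.map_add, Functor.map_comp, show F'.map w = u from hw]
      exact (by rw [← sub_add_cancel v (F'.map b₀), hu, add_comm]; rfl)
  · exact fun X i _ _ m => bijective_map_iso ((shiftFunctorAdd C (-i) m).app (j.obj X))
      ((shiftFunctorZero C ℤ).app L) (tgt X (-i + m) L 0)

end Groth.Agent.DEqT

namespace Groth.Agent.DEqT

variable {C : Type u} [Category.{v} C] [Preadditive C] [HasZeroObject C] [HasShift C ℤ]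
  [∀ n : ℤ, (shiftFunctor C n).Additive] [Pretriangulated C]
  {A : Type w'} [Category.{z'} A]
  {D : Type u'} [Category.{v'} D] [Preadditive D] [HasShift D ℤ]

lemma negVanish_of_full_faithful {t : TStructure C} {j : A ⥤ C} (hj : HeartData t j)
    (F : C ⥤ D) [F.CommShift ℤ] [F.Full] [F.PreservesZeroMorphisms] : NegVanish F j := by
  intro X Y q hq f
  obtain ⟨g, hg⟩ := F.map_surjective (f ≫ (F.commShiftIso q).inv.app (j.obj Y))
  have h1 := hj.isLE X
  have h2 : t.IsGE ((j.obj Y)⟦q⟧) (-q) := hj.isGE_hobj Y q (-q) le_rfl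
  rw [t.zero_of_isLE_of_isGE g 0 (-q) (by lia) h1 h2, F.map_zero] at hg
  rw [← cancel_mono ((F.commShiftIso q).inv.app (j.obj Y)), ← hg, zero_comp]

end Groth.Agent.DEqT
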