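import Groth.Agent.TriCat.CompactFactor
import Groth.Agent.TriCat.CellResolution
import Groth.Agent.TriCat.BrownCompact
import Mathlib.Logic.Small.Set

/-!
# In a compactly generated category, compact objects are retracts of members of a small set
-/

set_option linter.style.haveILetI false
set_option linter.unusedSectionVars false
set_option backward.defeqAttrib.useBackward true
set_option backward.isDefEq.respectTransparency false

universe v u

open CategoryTheory CategoryTheory.Limits CategoryTheory.Pretriangulated ZeroObject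
open Groth.Agent.TriCat

namespace Groth.Agent.DEqT

variable {D : Type u} [Category.{v} D] [Preadditive D] [HasZeroObject D] [HasShift D ℤ]
  [∀ n : ℤ, (shiftFunctor D n).Additive] [Pretriangulated D] [IsTriangulated D]

/-- A retract of an extension of retracts is a retract of an extension. -/
lemma retract_cone {T : Triangle D} (hT : T ∈ distTriang D) {L₁ L₃ : D}
    (r₁ : Retract T.obj₁ L₁) (r₃ : Retract T.obj₃ L₃) {L : D} {f : L₁ ⟶ L} {g : L ⟶ L₃}
    (hL : Triangle.mk f g (r₃.r ≫ T.mor₃ ≫ r₁.i⟦(1 : ℤ)⟧') ∈ distTriang D) :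
    Nonempty (Retract T.obj₂ L) := by
  obtain ⟨a, ha₁, ha₂⟩ := complete_distinguished_triangle_morphism₂ T _ hT hL r₁.i r₃.i
    (by dsimp; rw [r₃.retract_assoc])
  obtain ⟨b, hb₁, hb₂⟩ := complete_distinguished_triangle_morphism₂ _ T hL hT r₁.r r₃.r
    (by dsimp; rw [Category.assoc, Category.assoc, ← Functor.map_comp, r₁.retract,
      CategoryTheory.Functor.map_id, Category.comp_id])
  dsimp at ha₁ ha₂ hb₁ hb₂
  let φ : T ⟶ T := Triangle.homMk _ _ (𝟙 _) (a ≫ b) (𝟙 _)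
    (by
      rw [reassoc_of% ha₁, hb₁, r₁.retract_assoc]
      simp)
    (by
      rw [Category.comp_id, Category.assoc, ← hb₂, ← reassoc_of% ha₂, r₃.retract,
        Category.comp_id])
    (by simp)
  haveI : IsIso (a ≫ b) :=
    isIso₂_of_isIso₁₃ φ hT hT (inferInstanceAs (IsIso (𝟙 T.obj₁))) (inferInstanceAs (IsIso (𝟙 T.obj₃)))
  exact ⟨⟨a, b ≫ inv (a ≫ b), by rw [← Category.assoc, IsIso.hom_inv_id]⟩⟩

lemma small_iUnion_nat {α : Type u} (R : ℕ → Set α) (hR : ∀ k, Small.{v} {x // x ∈ R k}) :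
    Small.{v} {x // x ∈ ⋃ k, R k} := by
  haveI := hR
  exact small_of_surjective (α := Σ k : ℕ, {x // x ∈ R k})
      (f := fun p => (⟨p.2.1, Set.mem_iUnion.2 ⟨p.1, p.2.2⟩⟩ : {x // x ∈ ⋃ k, R k}))
      (fun x => by
        obtain ⟨k, hk⟩ := Set.mem_iUnion.1 x.2
        exact ⟨⟨k, x.1, hk⟩, rfl⟩)

variable [HasCoproducts.{v} D]

theorem exists_small_retracts (hD : CohDer.IsCompactlyGenerated D) :
    ∃ (U : Set D), Small.{v} {x // x ∈ U} ∧ (∀ L ∈ U, CohDer.IsCompactObject L) ∧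
      ∀ K : D, CohDer.IsCompactObject K → ∃ L ∈ U, Nonempty (Retract K L) := by
  classical
  obtain ⟨κ, E₀, hc₀, hg₀⟩ := hD
  let E : Option κ → D := fun o => o.elim 0 E₀
  have hc : ∀ o, CohDer.IsCompactObject (E o) := fun o => by
    cases o with
    | none => exact isCompactObject_of_isZero (isZero_zero D)
    | some k => exact hc₀ k
  have hg : CohDer.Generates E := fun K h => hg₀ K fun i n f => h (some i) n f
  haveI : HasColimitsOfShape (Discrete ℕ) D :=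
    hasColimitsOfShape_of_equivalence (Discrete.equivalence Equiv.ulift.{v})
  -- the small set
  choose cone f g hT using fun (p : Σ (X Z : D), (Z ⟶ X⟦(1 : ℤ)⟧)) =>
    distinguished_cocone_triangle₂ p.2.2
  let next : Set D → Set D := fun S =>
    S ∪ ⋃ X : S, ⋃ Z : S, Set.range (fun δ : Z.1 ⟶ X.1⟦(1 : ℤ)⟧ => cone ⟨X.1, Z.1, δ⟩)
  let R : ℕ → Set D := fun k => Nat.rec (motive := fun _ => Set D)
    (Set.range fun p : Option κ × ℤ => (E p.1)⟦p.2⟧) (fun _ S => next S) k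
  have hnext : ∀ S : Set D, Small.{v} ↥S → Small.{v} ↥(next S) := by
    intro S hS
    haveI : Small.{v} ↥(⋃ X : ↥S, ⋃ Z : ↥S,
        Set.range (fun δ : Z.1 ⟶ X.1⟦(1 : ℤ)⟧ => cone ⟨X.1, Z.1, δ⟩)) := inferInstance
    exact small_union S _
  have hR : ∀ k : ℕ, Small.{v} {x // x ∈ R k} := by
    intro k
    induction k with
    | zero => exact small_range _
    | succ k ih => exact hnext _ ih
  have hmono : Monotone R := monotone_nat_of_le_succ fun k => Set.subset_union_left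
  let U : Set D := ⋃ k, R k
  have hUc : ∀ k, ∀ L ∈ R k, CohDer.IsCompactObject L := by
    intro k
    induction k with
    | zero =>
      rintro L ⟨p, rfl⟩
      exact isCompactObject_shift (hc p.1) p.2
    | succ k ih =>
      rintro L (hL | hL)
      · exact ih L hL
      · simp only [Set.mem_iUnion] at hL
        obtain ⟨⟨X, hX⟩, ⟨Z, hZ⟩, δ, rfl⟩ := hL
        exact ObjectProperty.ext_of_isTriangulatedClosed₂
          (fun K : D => CohDer.IsCompactObject K) _ (hT ⟨X, Z, δ⟩) (ih X hX) (ih Z hZ)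
  refine ⟨U, ?_, fun L hL => ?_, ?_⟩
  · exact small_iUnion_nat R hR
  · obtain ⟨k, hk⟩ := Set.mem_iUnion.1 hL
    exact hUc k L hk
  let P : ObjectProperty D := fun K => ∃ L ∈ U, Nonempty (Retract K L)
  have hPr : ∀ {K K' : D}, Retract K K' → P K' → P K := fun r ⟨L, hL, ⟨r'⟩⟩ =>
    ⟨L, hL, ⟨r.trans r'⟩⟩
  have hPi : ∀ {K K' : D}, (K ≅ K') → P K' → P K := fun i h => hPr (Retract.ofIso i) h
  have hP0 : ∀ (o : Option κ) (n : ℤ), P ((E o)⟦n⟧) := fun o n =>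
    ⟨_, Set.mem_iUnion.2 ⟨0, (o, n), rfl⟩, ⟨Retract.refl _⟩⟩
  have hPext : ∀ T ∈ distTriang D, P T.obj₁ → P T.obj₃ → P T.obj₂ := by
    rintro T hT' ⟨L₁, hL₁, ⟨r₁⟩⟩ ⟨L₃, hL₃, ⟨r₃⟩⟩
    obtain ⟨k₁, hk₁⟩ := Set.mem_iUnion.1 hL₁
    obtain ⟨k₃, hk₃⟩ := Set.mem_iUnion.1 hL₃
    let δ : L₃ ⟶ L₁⟦(1 : ℤ)⟧ := r₃.r ≫ T.mor₃ ≫ r₁.i⟦(1 : ℤ)⟧'
    refine ⟨cone ⟨L₁, L₃, δ⟩, Set.mem_iUnion.2 ⟨max k₁ k₃ + 1, Or.inr ?_⟩,
      retract_cone hT' r₁ r₃ (hT ⟨L₁, L₃, δ⟩)⟩
    simp only [Set.mem_iUnion]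
    exact ⟨⟨L₁, hmono (le_max_left k₁ k₃) hk₁⟩, ⟨L₃, hmono (le_max_right k₁ k₃) hk₃⟩, δ, rfl⟩
  have hPs : ∀ (k : ℕ) (L : D), L ∈ R k → ∀ n : ℤ, P (L⟦n⟧) := by
    intro k
    induction k with
    | zero =>
      rintro L ⟨p, rfl⟩ n
      exact hPi ((shiftFunctorAdd D p.2 n).app (E p.1)).symm (hP0 _ _)
    | succ k ih =>
      rintro L (hL | hL) n
      · exact ih L hL n
      · simp only [Set.mem_iUnion] at hL
        obtain ⟨⟨X, hX⟩, ⟨Z, hZ⟩, δ, rfl⟩ := hL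
        exact hPext _ (Triangle.shift_distinguished _ (hT ⟨X, Z, δ⟩) n) (ih X hX n) (ih Z hZ n)
  haveI : P.IsStableUnderRetracts := ⟨fun r h => hPr r h⟩
  haveI : P.IsClosedUnderIsomorphisms := ⟨fun i h => hPi i.symm h⟩
  haveI : P.ContainsZero :=
    ⟨⟨(E none)⟦(0 : ℤ)⟧, (shiftFunctor D (0 : ℤ)).map_isZero (isZero_zero D), hP0 _ _⟩⟩
  haveI : P.IsStableUnderShift ℤ := ⟨fun n => ⟨fun K ⟨L, hL, ⟨r⟩⟩ => by
    obtain ⟨k, hk⟩ := Set.mem_iUnion.1 hL
    exact hPr (r.map (shiftFunctor D n)) (hPs k L hk n)⟩⟩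
  haveI : P.IsTriangulatedClosed₂ := ObjectProperty.IsTriangulatedClosed₂.mk' hPext
  haveI : P.IsTriangulated := { }
  intro K hK
  obtain ⟨F, inc, hL, ⟨τ, a, ⟨e⟩⟩, ht⟩ := exists_cell_resolution (shiftClosure E)
    (countPerfect_shiftClosure (countPerfect_of_compact hc)) (shiftClosure_stable E)
    (isZero_of_generates hg) K
  obtain ⟨n, g, hg'⟩ := IsHocolim.exists_factor hL hK (𝟙 K)
  obtain ⟨s, -, E₁, g₁, h₁, hE₁, hgh⟩ := envFactors_of_cell E hc F.obj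
    (fun n => F.map (homOfLE (Nat.le_succ n))) ⟨τ, fun k => (a k).1, fun k => (a k).2, ⟨e⟩⟩
    (fun n => by
      obtain ⟨τ', a', y, z, h⟩ := ht n
      exact ⟨τ', fun k => (a' k).1, fun k => (a' k).2, y, z, h⟩) n K hK g
  refine hPr (K' := E₁) ⟨g₁, h₁ ≫ inc n, by rw [← Category.assoc, hgh, hg']⟩ ?_
  exact (ObjectProperty.triangEnvelope_le_iff (finSub E s) (Q := P)).2
    (fun Y ⟨o, _, h⟩ => h ▸ hPi ((shiftFunctorZero D ℤ).app (E o)).symm (hP0 o 0)) _ hE₁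

end Groth.Agent.DEqT
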