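import Groth.Agent.DEqT.SuppLocal
import Groth.Agent.Perf52.LTensorBound
import Groth.Agent.KFlatLib.Scheme.ProjFormula
import Groth.Agent.KFlatLib.Scheme.RpushRestrict
import Groth.Agent.KFlatLib.Scheme.RpushTriangle
import Groth.Agent.KFlatLib.Perfect.Basic
import Mathlib.CategoryTheory.Adjunction.Triple

/-!
# Supports and the derived functors `Rf_*`, `Lf^*`, `⊗^L`
-/

set_option linter.style.haveILetI false
set_option linter.unusedSectionVars false
set_option backward.isDefEq.respectTransparency false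

universe u

open CategoryTheory CategoryTheory.Limits AlgebraicGeometry TopologicalSpace Pretriangulated Opposite

attribute [local instance] HasDerivedCategory.standard

namespace Groth.Agent.DEqT

open Groth.Agent.KFlatLib Groth.Agent.Perf52

variable {X Y : Scheme.{u}}

theorem isSuppD_mono {U V : Scheme.{u}} (j : U ⟶ X) [IsOpenImmersion j] (k : V ⟶ X)
    [IsOpenImmersion k] (h : Set.range j.base ⊆ Set.range k.base) {K : DCoh.D X}
    (hK : CxOX.IsSuppD k K) : CxOX.IsSuppD j K := fun i =>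
  (hK i).trans (Set.compl_subset_compl.2 h)

/-- `Rf_*` preserves supports. -/
theorem isSuppD_rpush (f : X ⟶ Y) [DCoh.HasRpush f] (V : Y.Opens) (B : DCoh.D X)
    (hB : CxOX.IsSuppD (f ⁻¹ᵁ V).ι B) : CxOX.IsSuppD V.ι ((DCoh.Rpush f).obj B) := by
  haveI := hasRpush_scheme (f ∣_ V)
  haveI : (DCoh.Rpush (f ∣_ V)).Additive :=
    (exists_rightDerived_triangle (Scheme.Modules.pushforward (f ∣_ V)) _
      (contractible_distinguished ((DCoh.restrictD (f ⁻¹ᵁ V).ι).obj B))).1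
  obtain ⟨e⟩ := nonempty_rpush_restrictD_iso f V
  exact (isSuppD_iff_isZero _ _).2
    ((Functor.map_isZero (DCoh.Rpush (f ∣_ V)) ((isSuppD_iff_isZero _ _).1 hB)).of_iso (e.app B))

theorem isZero_leftAdjoint_obj {C D : Type*} [Category C] [Category D] [HasZeroMorphisms C]
    [HasZeroMorphisms D] [HasZeroObject D] {F : C ⥤ D} {G : D ⥤ C} (adj : F ⊣ G) {Z : C}
    (hZ : IsZero Z) : IsZero (F.obj Z) :=
  (IsZero.iff_id_eq_zero _).2 ((adj.homEquiv _ _).injective (hZ.eq_of_src _ _))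

/-- `Lf^*` preserves supports. -/
theorem isSuppD_lpull (f : X ⟶ Y) [DCoh.HasLpull f] (V : Y.Opens) (E : DCoh.D Y)
    (hE : CxOX.IsSuppD V.ι E) : CxOX.IsSuppD (f ⁻¹ᵁ V).ι ((DCoh.Lpull f).obj E) := by
  haveI := hasLpull (f ∣_ V)
  haveI := hasRpush_scheme (f ∣_ V)
  obtain ⟨adj⟩ := nonempty_lpull_rpush_adj (f ∣_ V)
  refine (isSuppD_iff_isZero _ _).2 (IsZero.of_iso ?_
    ((rho (f ⁻¹ᵁ V).ι).mapIso (lpullRepIso f E).symm ≪≫ (rhoQ (f ⁻¹ᵁ V).ι).app _ ≪≫
      DerivedCategory.Q.mapIso (restrictPullIso f V (repK E)) ≪≫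
      (lpullIso (f ∣_ V) (isKFlat_restrict V.ι (isKFlat_repK E))).symm ≪≫
      (DCoh.Lpull (f ∣_ V)).mapIso (((rhoQ V.ι).app _).symm ≪≫ (rho V.ι).mapIso (repKIso E))))
  exact isZero_leftAdjoint_obj adj ((isSuppD_iff_isZero _ _).1 hE)

theorem isZero_ltensor (E : CochainComplex X.Modules ℤ) [DCoh.HasLTensorCx E] {Z : DCoh.D X}
    (hZ : IsZero Z) : IsZero ((DCoh.LTensorCx E).obj Z) := by
  have hz : IsZero (HomologicalComplex.zero : CochainComplex X.Modules ℤ) := HomologicalComplex.isZero_zero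
  exact ((DerivedCategory.Q.map_isZero ((DCoh.tensorCx.flip.obj E).map_isZero hz) : IsZero
    (DerivedCategory.Q.obj ((DCoh.tensorCx.obj HomologicalComplex.zero).obj E) : DCoh.D X))).of_iso
      ((DCoh.LTensorCx E).mapIso (hZ.iso (DerivedCategory.Q.map_isZero hz)) ≪≫
        ltensorCxIso E (isKFlat_of_isZero hz))

/-- `- ⊗^L E` preserves supports. -/
theorem isSuppD_ltensor (E : CochainComplex X.Modules ℤ) [DCoh.HasLTensorCx E] {U : Scheme.{u}}
    (j : U ⟶ X) [IsOpenImmersion j] (A : DCoh.D X) (hA : CxOX.IsSuppD j A) :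
    CxOX.IsSuppD j ((DCoh.LTensorCx E).obj A) := by
  haveI := hasLTensorCx ((pullCx j).obj E)
  refine (isSuppD_iff_isZero _ _).2 (IsZero.of_iso ?_
    ((rho j).mapIso ((DCoh.LTensorCx E).mapIso (repKIso A).symm ≪≫ ltensorCxIso E (isKFlat_repK A)) ≪≫
      (rhoQ j).app _ ≪≫
      DerivedCategory.Q.mapIso ((restrictPullCxIso j).app _ ≪≫ (pullTensorCxIso j (repK A) E).symm) ≪≫
      (ltensorCxIso ((pullCx j).obj E) (isKFlat_pullback j (isKFlat_repK A))).symm))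
  refine isZero_ltensor _ (((isSuppD_iff_isZero j A).1 hA).of_iso ?_)
  exact DerivedCategory.Q.mapIso ((restrictPullCxIso j).app (repK A)).symm ≪≫
    ((rhoQ j).app _).symm ≪≫ (rho j).mapIso (repKIso A)

/-- Recognition of `RΓ_Z` by its universal property. -/
theorem rgammaZ_recognize' {U : Scheme.{u}} (j : U ⟶ X) [IsOpenImmersion j] [CxOX.HasRgammaZ j]
    {B L : DCoh.D X} (m : B ⟶ L) (hB : CxOX.IsSuppD j B)
    (h : ∀ A : DCoh.D X, CxOX.IsSuppD j A → Function.Bijective (fun φ : A ⟶ B => φ ≫ m)) :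
    (∃ α : B ⟶ (CxOX.RgammaZ j).obj L, α ≫ (CxOX.RgammaZToId j).app L = m) ∧
    ∀ α : B ⟶ (CxOX.RgammaZ j).obj L, α ≫ (CxOX.RgammaZToId j).app L = m → IsIso α := by
  refine ⟨(bijective_rgammaZ j hB _).2 m, fun α hα => ?_⟩
  refine isIso_of_bijective j α hB (isSuppD_rgammaZ j _) fun A hA => ?_
  refine (Function.Bijective.of_comp_iff' (bijective_rgammaZ j hA L) _).1 ?_
  have : (fun φ : A ⟶ (CxOX.RgammaZ j).obj L => φ ≫ (CxOX.RgammaZToId j).app L) ∘
      (fun φ : A ⟶ B => φ ≫ α) = fun φ => φ ≫ m :=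
    funext fun φ => (Category.assoc _ _ _).trans (congrArg (φ ≫ ·) hα)
  rw [this]
  exact h A hA

section OpenImmersion

variable (j : X ⟶ Y) [IsOpenImmersion j] [DCoh.HasRpush j]
  (adj : DCoh.restrictD j ⊣ DCoh.Rpush j)

/-- The counit `j^* Rj_* ⟶ 1` is invertible. -/
theorem isIso_counit_openImmersion : IsIso adj.counit :=
  (Adjunction.Triple.mk (lshDAdj j) adj).isIso_unit_iff_isIso_counit.1 inferInstance

/-- The cone of the unit `G ⟶ Rj_* j^* G` vanishes on the image of `j`. -/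
theorem exists_unit_triangle (G : DCoh.D Y) :
    ∃ (C : DCoh.D Y) (g : (DCoh.Rpush j).obj ((DCoh.restrictD j).obj G) ⟶ C) (h : C ⟶ G⟦(1 : ℤ)⟧),
      Triangle.mk (adj.unit.app G) g h ∈ distTriang (DCoh.D Y) ∧ ∀ u : X, Z0 C (j.base u) := by
  obtain ⟨C, g, h, hT⟩ := distinguished_cocone_triangle (adj.unit.app G)
  refine ⟨C, g, h, hT, (isIso_rho_map_iff j _ hT).1 ?_⟩
  haveI := isIso_counit_openImmersion j adj
  have h0 : IsIso ((DCoh.restrictD j).map (adj.unit.app G)) := by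
    have e := adj.left_triangle_components G
    refine ⟨adj.counit.app _, e, ?_⟩
    rw [← cancel_mono (adj.counit.app ((DCoh.restrictD j).obj G))]
    erw [Category.assoc, e, Category.comp_id, Category.id_comp]
  exact h0

theorem isIso_unit_of_supp_compl (W : Y.Opens) (hW : (W : Set Y)ᶜ ⊆ Set.range j.base) (N : DCoh.D Y)
    (hN : CxOX.IsSuppD W.ι N) : IsIso (adj.unit.app N) := by
  obtain ⟨C, g, h, hT, hC⟩ := exists_unit_triangle j adj N
  refine (isIso_iff_z0 _ hT).2 fun x => ?_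
  by_cases hx : x ∈ Set.range j.base
  · obtain ⟨u, rfl⟩ := hx
    exact hC u
  have hxW : x ∈ Set.range W.ι.base := by
    rw [Scheme.Opens.range_ι]
    by_contra hxW
    exact hx (hW hxW)
  have hP : CxOX.IsSuppD W.ι ((DCoh.Rpush j).obj ((DCoh.restrictD j).obj N)) :=
    isSuppD_rpush j W _ ((isSuppD_iff_z0 _ _).2 fun v =>
      (z0_rho_iff j N _).2 ((isSuppD_iff_z0 _ _).1 hN ⟨j.base v.1, v.2⟩))
  obtain ⟨w, rfl⟩ := hxW
  exact z0_obj₃ hT ((isSuppD_iff_z0 _ _).1 hN w) ((isSuppD_iff_z0 _ _).1 hP w)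

variable (U : X.Opens) (U' T : Y.Opens)
  (hU' : (U' : Set Y) = (closure (j.base '' ((U : Set X)ᶜ)))ᶜ)
  (hT : (T : Set Y) = (U' : Set Y) ∪ Set.range j.base)

include hU' hT in
/-- Objects supported on `Z` correspond to objects supported on its closure without sections
supported on the boundary. -/
theorem supported_equiv [CxOX.HasRgammaZ T.ι] :
    (∀ F : DCoh.D X, CxOX.IsSuppD U.ι F →
      CxOX.IsSuppD U'.ι ((DCoh.Rpush j).obj F) ∧ IsZero ((CxOX.RgammaZ T.ι).obj ((DCoh.Rpush j).obj F))) ∧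
    (∀ G : DCoh.D Y, CxOX.IsSuppD U'.ι G →
      CxOX.IsSuppD U.ι ((DCoh.restrictD j).obj G) ∧
      (IsZero ((CxOX.RgammaZ T.ι).obj G) → IsIso (adj.unit.app G))) := by
  have hsub : Set.range j.base ⊆ Set.range T.ι.base := by
    rw [Scheme.Opens.range_ι, hT]; exact Set.subset_union_right
  have h1 : ∀ F : DCoh.D X, CxOX.IsSuppD U.ι F → CxOX.IsSuppD U'.ι ((DCoh.Rpush j).obj F) :=
    fun F hF => isSuppD_rpush j U' F (isSuppD_mono _ _ (by
      rw [Scheme.Opens.range_ι, Scheme.Opens.range_ι]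
      intro v hv
      by_contra hvU
      have : j.base v ∈ (U' : Set Y) := hv
      rw [hU'] at this
      exact this (subset_closure ⟨v, hvU, rfl⟩)) hF)
  have h2 : ∀ G : DCoh.D Y, CxOX.IsSuppD U'.ι G → CxOX.IsSuppD U.ι ((DCoh.restrictD j).obj G) :=
    fun G hG => (isSuppD_iff_z0 _ _).2 fun v => (z0_rho_iff j G _).2 <| by
      have hv : j.base v.1 ∈ (U' : Set Y) := by
        rw [hU']
        intro hc
        have h' : v.1 ∈ closure ((U : Set X)ᶜ) := by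
          rw [j.isOpenEmbedding.toIsEmbedding.closure_eq_preimage_closure_image]
          exact hc
        rw [U.isOpen.isClosed_compl.closure_eq] at h'
        exact h' v.2
      exact (isSuppD_iff_z0 _ _).1 hG ⟨j.base v.1, hv⟩
  refine ⟨fun F hF => ⟨h1 F hF, (isZero_rgammaZ_iff _ _).2 fun A hA φ =>
    orthSupp_rpush j F A (isSuppD_mono j T.ι hsub hA) φ⟩, fun G hG => ⟨h2 G hG, fun hz => ?_⟩⟩
  obtain ⟨C, g, h, hTr, hC⟩ := exists_unit_triangle j adj G
  have hCT : CxOX.IsSuppD T.ι C := (isSuppD_iff_z0 _ _).2 fun w => by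
    have hw : w.1 ∈ (U' : Set Y) ∪ Set.range j.base := hT ▸ w.2
    rcases hw with hw | ⟨u, hu⟩
    · exact z0_obj₃ hTr ((isSuppD_iff_z0 _ _).1 hG ⟨_, hw⟩)
        ((isSuppD_iff_z0 _ _).1 (h1 _ (h2 G hG)) ⟨_, hw⟩)
    · exact (show Z0 C w.1 from hu ▸ hC u)
  have ho := (isZero_rgammaZ_iff _ _).1 hz
  obtain ⟨s, hs⟩ := Triangle.coyoneda_exact₃ _ hTr (𝟙 C)
    (by exact (Category.id_comp _).trans (ho.shift T.ι 1 C hCT h))
  have hs0 : s = 0 := orthSupp_rpush j _ C (isSuppD_mono j T.ι hsub hCT) s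
  rw [hs0, zero_comp] at hs
  exact (Triangle.isZero₃_iff_isIso₁ _ hTr).1 ((IsZero.iff_id_eq_zero _).2 hs)

end OpenImmersion

/-- The comparison `Rf_* RΓ ≅ RΓ Rf_*`. -/
theorem rpush_rgammaZ (f : X ⟶ Y) [DCoh.HasRpush f] (U : Y.Opens) [CxOX.HasRgammaZ U.ι]
    [CxOX.HasRgammaZ (f ⁻¹ᵁ U).ι] (K : DCoh.D X) :
    let m := (DCoh.Rpush f).map ((CxOX.RgammaZToId (f ⁻¹ᵁ U).ι).app K)
    (∃ α : (DCoh.Rpush f).obj ((CxOX.RgammaZ (f ⁻¹ᵁ U).ι).obj K) ⟶
        (CxOX.RgammaZ U.ι).obj ((DCoh.Rpush f).obj K),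
      α ≫ (CxOX.RgammaZToId U.ι).app _ = m) ∧
    ∀ α : (DCoh.Rpush f).obj ((CxOX.RgammaZ (f ⁻¹ᵁ U).ι).obj K) ⟶
        (CxOX.RgammaZ U.ι).obj ((DCoh.Rpush f).obj K),
      α ≫ (CxOX.RgammaZToId U.ι).app _ = m → IsIso α := by
  intro m
  obtain ⟨P, g, h, hT, hP, hs, -⟩ := exists_rgammaZ_triangle (f ⁻¹ᵁ U).ι K
  obtain ⟨c, hc⟩ := exists_rpush_triangle f _ hT
  refine rgammaZ_recognize U.ι hc (isSuppD_rpush f U _ hs) fun A hA φ => ?_
  haveI := hasLpull f
  obtain ⟨adj⟩ := nonempty_lpull_rpush_adj f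
  exact (adj.homEquiv A P).symm.injective
    ((hP _ (isSuppD_lpull f U A hA) _).trans (hP _ (isSuppD_lpull f U A hA) _).symm)

/-- The comparison `RΓ(F) ⊗ E ≅ RΓ(F ⊗ E)`. -/
theorem ltensor_rgammaZ (U : X.Opens) [QuasiCompact U.ι] [CxOX.HasRgammaZ U.ι] (F : DCoh.D X)
    (hF : DCoh.IsQCohD F) (E : CochainComplex X.Modules ℤ) (hE : DCoh.IsQCohD (DCoh.toD X E))
    [DCoh.HasLTensorCx E] :
    let m := (DCoh.LTensorCx E).map ((CxOX.RgammaZToId U.ι).app F)
    (∃ φ : (DCoh.LTensorCx E).obj ((CxOX.RgammaZ U.ι).obj F) ⟶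
        (CxOX.RgammaZ U.ι).obj ((DCoh.LTensorCx E).obj F),
      φ ≫ (CxOX.RgammaZToId U.ι).app _ = m) ∧
    ∀ φ : (DCoh.LTensorCx E).obj ((CxOX.RgammaZ U.ι).obj F) ⟶
        (CxOX.RgammaZ U.ι).obj ((DCoh.LTensorCx E).obj F),
      φ ≫ (CxOX.RgammaZToId U.ι).app _ = m → IsIso φ := by
  intro m
  haveI := hasRpush_scheme U.ι
  haveI := hasLpull U.ι
  obtain ⟨P, g, h, hT, -, hs, he⟩ := exists_rgammaZ_triangle U.ι F
  obtain ⟨eP⟩ := he
  have hPo : ∀ n : ℤ, OrthSupp U.ι ((DCoh.LTensorCx E).obj (P⟦n⟧)) := fun n => by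
    obtain ⟨es⟩ := nonempty_rpush_shift U.ι ((rho U.ι).obj F) n
    let M := DerivedCategory.Q.objPreimage ((DCoh.Lpull U.ι).obj (DCoh.toD X E))
    haveI := hasLTensorCx M
    obtain ⟨e⟩ := nonempty_projection_DQCoh U.ι (((rho U.ι).obj F)⟦n⟧)
      (isQCohD_shift (isQCohD_restrictD U.ι hF) n) E hE M ⟨DerivedCategory.Q.objObjPreimageIso _⟩
    exact OrthSupp.of_iso U.ι (((DCoh.LTensorCx E).mapIso
      ((shiftFunctor (DCoh.D X) n).mapIso eP ≪≫ es.symm) ≪≫ e).symm) (orthSupp_rpush U.ι _)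
  refine rgammaZ_recognize' U.ι m (isSuppD_ltensor E U.ι _ hs) fun A hA => ?_
  let H := preadditiveCoyoneda.obj (Opposite.op A)
  haveI := Perf52.isHomological_ltensorCx_comp E H
  constructor
  · intro a b hab
    refine sub_eq_zero.1 ?_
    have hab' : (a - b) ≫ m = 0 := by rw [Preadditive.sub_comp, sub_eq_zero]; exact hab
    obtain ⟨c, hc⟩ := (ShortComplex.ab_exact_iff _).1
      ((DCoh.LTensorCx E ⋙ H).map_distinguished_exact _ (inv_rot_of_distTriang _ hT)) (a - b) hab'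
    rw [← hc, show c = 0 from hPo (-1) A hA c]
    exact map_zero _
  · intro ψ
    have hP0 : OrthSupp U.ι ((DCoh.LTensorCx E).obj P) :=
      (hPo 0).of_iso U.ι ((DCoh.LTensorCx E).mapIso ((shiftFunctorZero (DCoh.D X) ℤ).app P))
    exact (ShortComplex.ab_exact_iff _).1 ((DCoh.LTensorCx E ⋙ H).map_distinguished_exact _ hT) ψ
      (hP0 A hA _)

end Groth.Agent.DEqT
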