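import Groth.Prelude.Def_CxOX
import Groth.Agent.Perf52.ExtD
import Groth.Agent.Perf52.Push
import Groth.Agent.KFlatLib.Scheme.RpushQCoh
import Groth.Agent.QCoh.RpushGod
import Groth.Agent.TriCat.KInjRes

/-!
# Objects supported in a closed subset, their orthogonal, and `RΓ_Z`
-/

set_option linter.style.haveILetI false
set_option linter.unusedSectionVars false
set_option backward.isDefEq.respectTransparency false

universe u

open CategoryTheory CategoryTheory.Limits AlgebraicGeometry TopologicalSpace Pretriangulated Opposite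

attribute [local instance] HasDerivedCategory.standard

namespace Groth.Agent.DEqT

open Groth.Agent.KFlatLib Groth.Agent.Perf52

variable {U X : Scheme.{u}} (j : U ⟶ X) [IsOpenImmersion j]

theorem isSuppD_iff_z0 (K : DCoh.D X) : CxOX.IsSuppD j K ↔ ∀ u : U, Z0 K (j.base u) := by
  refine ⟨fun h u => (suppOn_iff K _).2 h _ (fun hu => hu ⟨u, rfl⟩), fun h => ?_⟩
  refine (suppOn_iff K _).1 fun x hx => ?_
  obtain ⟨u, rfl⟩ := not_not.1 hx
  exact h u

theorem isSuppD_iff_isZero (K : DCoh.D X) : CxOX.IsSuppD j K ↔ IsZero ((rho j).obj K) :=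
  (isSuppD_iff_z0 j K).trans (isZero_rho_obj_iff j K).symm

theorem isSuppD_of_iso {K L : DCoh.D X} (e : K ≅ L) (h : CxOX.IsSuppD j K) : CxOX.IsSuppD j L :=
  (isSuppD_iff_z0 j L).2 fun u => ((isSuppD_iff_z0 j K).1 h u).of_iso e

theorem isSuppD_shift {K : DCoh.D X} (h : CxOX.IsSuppD j K) (n : ℤ) : CxOX.IsSuppD j (K⟦n⟧) :=
  (isSuppD_iff_z0 j _).2 fun u => ((isSuppD_iff_z0 j K).1 h u).shift n

/-- `B` receives no nonzero morphism from objects supported outside the image of `j`. -/
def OrthSupp (B : DCoh.D X) : Prop := ∀ A : DCoh.D X, CxOX.IsSuppD j A → ∀ φ : A ⟶ B, φ = 0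

theorem OrthSupp.of_iso {B B' : DCoh.D X} (e : B ≅ B') (h : OrthSupp j B) : OrthSupp j B' :=
  fun A hA φ => by rw [← cancel_mono e.inv, zero_comp]; exact h A hA _

theorem OrthSupp.shift {B : DCoh.D X} (h : OrthSupp j B) (n : ℤ) : OrthSupp j (B⟦n⟧) := by
  intro A hA φ
  let e : (B⟦n⟧)⟦-n⟧ ≅ B := (shiftFunctorCompIsoId (DCoh.D X) n (-n) (add_neg_cancel n)).app B
  have := h _ (isSuppD_shift j hA (-n)) (φ⟦-n⟧' ≫ e.hom)
  rw [← cancel_mono e.inv, Category.assoc, e.hom_inv_id, Category.comp_id, zero_comp] at this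
  exact (shiftFunctor (DCoh.D X) (-n)).map_injective (this.trans (Functor.map_zero _ _ _).symm)

theorem eq_zero_of_isSuppD_of_orth {B : DCoh.D X} (hB : CxOX.IsSuppD j B) (h : OrthSupp j B) :
    IsZero B := (IsZero.iff_id_eq_zero _).2 (h B hB _)

/-- In a triangle `A ⟶ B ⟶ P` with `P` orthogonal, `A` and `B` receive the same morphisms from
supported objects. -/
theorem bijective_comp_of_orth {T : Triangle (DCoh.D X)} (hT : T ∈ distTriang _)
    (h : OrthSupp j T.obj₃) {A : DCoh.D X} (hA : CxOX.IsSuppD j A) :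
    Function.Bijective (fun φ : A ⟶ T.obj₁ => φ ≫ T.mor₁) := by
  refine ⟨fun a b hab => sub_eq_zero.1 ?_, fun ψ => ?_⟩
  · have h0 : (a - b) ≫ T.mor₁ = 0 := by rw [Preadditive.sub_comp, sub_eq_zero]; exact hab
    obtain ⟨g, hg⟩ := Triangle.coyoneda_exact₂ _ (inv_rot_of_distTriang _ hT) (a - b) h0
    exact hg.trans (by rw [h.shift j (-1) A hA g]; exact zero_comp)
  · obtain ⟨g, hg⟩ := Triangle.coyoneda_exact₂ T hT ψ (h A hA _)
    exact ⟨g, hg.symm⟩

/-- A morphism between supported objects inducing bijections on morphisms from supported objects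
is an isomorphism. -/
theorem isIso_of_bijective {B C : DCoh.D X} (α : B ⟶ C) (hB : CxOX.IsSuppD j B)
    (hC : CxOX.IsSuppD j C) (h : ∀ A : DCoh.D X, CxOX.IsSuppD j A →
      Function.Bijective (fun φ : A ⟶ B => φ ≫ α)) : IsIso α := by
  obtain ⟨β, hβ⟩ := (h C hC).2 (𝟙 C)
  refine ⟨β, (h B hB).1 ?_, hβ⟩
  show (α ≫ β) ≫ α = 𝟙 B ≫ α
  rw [Category.assoc, Category.id_comp]
  exact (congrArg (α ≫ ·) hβ).trans (Category.comp_id _)

/-- Pushforwards from the open receive nothing from supported objects. -/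
theorem orthSupp_rpush [DCoh.HasRpush j] (B : DCoh.D U) : OrthSupp j ((DCoh.Rpush j).obj B) := by
  obtain ⟨J, s, hJ, hs⟩ := exists_kInjective_res (DerivedCategory.Q.objPreimage B)
  haveI := hJ
  haveI : IsIso (DerivedCategory.Q.map s) := inferInstance
  obtain ⟨e⟩ := nonempty_rpush_iso_of_kInjective j (I := J)
    ((asIso (DerivedCategory.Q.map s)).symm ≪≫ repIso B)
  refine OrthSupp.of_iso j e.symm fun A hA φ => ?_
  haveI := isKInjective_pushCx j J
  rw [← cancel_epi (repIso A).hom, comp_zero]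
  obtain ⟨f, hf⟩ := exists_Q_map (I := (pushCx j).obj J) ((repIso A).hom ≫ φ)
  have hf' : (repIso A).hom ≫ φ = DerivedCategory.Q.map f := hf.symm
  refine hf'.trans ?_
  rw [← DerivedCategory.Q.map_zero]
  let C := DerivedCategory.Q.objPreimage A
  have hz : IsZero (DerivedCategory.Q.obj ((rCx j).obj C)) :=
    ((isSuppD_iff_isZero j A).1 hA).of_iso (((rhoQ j).app C).symm ≪≫ (rho j).mapIso (repIso A))
  let g := ((pushCxAdj j).homEquiv C J).symm f
  obtain ⟨H⟩ := homotopy_of_Q_map_eq g 0 (hz.eq_of_src _ _)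
  refine DerivedCategory.Q_map_eq_of_homotopy _ ?_
  refine (Homotopy.ofEq ?_).trans ((((Scheme.Modules.pushforward j).mapHomotopy H).compLeft
    ((pushCxAdj j).unit.app C)).trans (Homotopy.ofEq (by rw [Functor.map_zero, comp_zero])))
  exact ((pushCxAdj j).homEquiv_unit _ _ _).symm.trans
    (((pushCxAdj j).homEquiv C J).apply_symm_apply f) |>.symm

/-- For an injective module the restriction to an open is an epimorphism. -/
theorem epi_unit_of_injective (M : X.Modules) [Injective M] :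
    Epi ((Scheme.Modules.restrictAdjunction j).unit.app M) := by
  haveI := QCoh.isFlasqueMod_of_injective M
  refine ⟨fun {L} a b e => Scheme.Modules.hom_ext _ _ fun V => ?_⟩
  have hV := (QCoh.isFlasqueMod_of_injective M).epi (homOfLE (j.image_preimage_le V)).op
  ext t
  obtain ⟨s, hs⟩ := (AddCommGrpCat.epi_iff_surjective _).1 hV t
  have hψ : ((Scheme.Modules.restrictAdjunction j).unit.app M).app V s = t := by
    simp only [Scheme.Modules.restrictAdjunction_unit_app_app]
    exact hs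
  rw [← hψ]
  exact congr(($e).app V s)

section Gamma

/-- The sequence `0 ⟶ Γ_Z I ⟶ I ⟶ j_* j^* I ⟶ 0`. -/
noncomputable def gammaSC (I : CochainComplex X.Modules ℤ) :
    ShortComplex (CochainComplex X.Modules ℤ) :=
  ShortComplex.mk
    (X₁ := ((DCoh.gammaZ j).mapHomologicalComplex (ComplexShape.up ℤ)).obj I) (X₂ := I)
    ((NatTrans.mapHomologicalComplex (CxOX.gammaZι j) (ComplexShape.up ℤ)).app I ≫
      (Functor.mapHomologicalComplexIdIso X.Modules (ComplexShape.up ℤ)).hom.app I)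
    ((pushCxAdj j).unit.app I)
    (HomologicalComplex.hom_ext _ _ fun n => by
      simp [pushCxAdj, CxOX.gammaZι, adjCx]
      exact kernel.condition _)

theorem shortExact_gammaSC (I : CochainComplex X.Modules ℤ) [∀ n, Injective (I.X n)] :
    (gammaSC j I).ShortExact :=
  HomologicalComplex.shortExact_of_degreewise_shortExact _ fun n => by
    let ψ := (Scheme.Modules.restrictAdjunction j).unit.app (I.X n)
    haveI := epi_unit_of_injective j (I.X n)
    let S := ShortComplex.mk (kernel.ι ψ) ψ (kernel.condition ψ)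
    have hS : S.ShortExact :=
      { exact := ShortComplex.exact_of_f_is_kernel _ (kernelIsKernel _) }
    refine ShortComplex.shortExact_of_iso ?_ hS
    refine ShortComplex.isoMk (Iso.refl _) (Iso.refl _) (Iso.refl _) ?_ ?_
    · simp [gammaSC, CxOX.gammaZι, S]
      rfl
    · simp [gammaSC, pushCxAdj, adjCx, S]
      rfl

/-- A derived functor is computed by K-injective complexes. -/
theorem isIso_rightDerivedUnit_of_kInjective {E : Type*} [Category E]
    (F : HomotopyCategory X.Modules (ComplexShape.up ℤ) ⥤ E)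
    [F.HasRightDerivedFunctor (HomotopyCategory.quasiIso X.Modules (ComplexShape.up ℤ))]
    (I : CochainComplex X.Modules ℤ) [I.IsKInjective] :
    IsIso ((F.totalRightDerivedUnit DerivedCategory.Qh
      (HomotopyCategory.quasiIso X.Modules (ComplexShape.up ℤ))).app
        ((HomotopyCategory.quotient X.Modules (ComplexShape.up ℤ)).obj I)) := by
  haveI := TriCat.qh_isLeftAdjoint_of_exists_resolution (A := X.Modules) exists_kInjective_res
  let adjQ := Adjunction.ofIsLeftAdjoint (DerivedCategory.Qh (C := X.Modules))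
  let ρ := (DerivedCategory.Qh (C := X.Modules)).rightAdjoint
  let W := HomotopyCategory.quasiIso X.Modules (ComplexShape.up ℤ)
  haveI : (ρ ⋙ F).IsRightDerivedFunctor (Functor.whiskerRight adjQ.unit F) W :=
    TriCat.isRightDerivedFunctor_of_adjunction adjQ W F
  let α := F.totalRightDerivedUnit DerivedCategory.Qh W
  let RF := F.totalRightDerived DerivedCategory.Qh W
  let e : ρ ⋙ F ≅ RF := Functor.rightDerivedUnique _ _ (Functor.whiskerRight adjQ.unit F) α W
  let qI := (HomotopyCategory.quotient X.Modules (ComplexShape.up ℤ)).obj I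
  haveI : IsIso (adjQ.unit.app qI) := by
    refine isIso_iff_yoneda_map_bijective _ |>.2 fun A => ?_
    have hb := ((adjQ.homEquiv A (DerivedCategory.Qh.obj qI)).bijective).comp
      (CochainComplex.IsKInjective.Qh_map_bijective A I)
    have h : (fun φ : A ⟶ qI => φ ≫ adjQ.unit.app qI) =
        (adjQ.homEquiv A (DerivedCategory.Qh.obj qI)) ∘ DerivedCategory.Qh.map :=
      funext fun φ => (adjQ.unit.naturality φ).trans (adjQ.homEquiv_unit ..).symm
    exact h ▸ hb
  have : α.app qI = F.map (adjQ.unit.app qI) ≫ e.hom.app (DerivedCategory.Qh.obj qI) :=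
    ((Functor.rightDerivedNatTrans_app (ρ ⋙ F) RF
      (Functor.whiskerRight adjQ.unit F) α W (𝟙 _) qI).trans (Category.id_comp _)).symm
  change IsIso (α.app qI)
  rw [this]
  infer_instance

/-- The structure map `Γ_Z ⟶ 1` at a complex. -/
theorem gammaZKhι_app (I : CochainComplex X.Modules ℤ) :
    DerivedCategory.Qh.map (((DCoh.gammaZ j).mapHomotopyCategoryFactors (ComplexShape.up ℤ)).inv.app I) ≫
      (CxOX.gammaZKhι j).app ((HomotopyCategory.quotient X.Modules (ComplexShape.up ℤ)).obj I) =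
    DerivedCategory.Qh.map ((HomotopyCategory.quotient X.Modules (ComplexShape.up ℤ)).map (gammaSC j I).f) := by
  unfold CxOX.gammaZKhι
  erw [Quotient.natTransLift_app]
  simp [gammaSC, ← Functor.map_comp]

variable [CxOX.HasRgammaZ j]

/-- The triangle `RΓ_Z K ⟶ K ⟶ P`, with supported first term and orthogonal third term. -/
theorem exists_rgammaZ_triangle (K : DCoh.D X) :
    ∃ (P : DCoh.D X) (g : K ⟶ P) (h : P ⟶ ((CxOX.RgammaZ j).obj K)⟦(1 : ℤ)⟧),
      Triangle.mk ((CxOX.RgammaZToId j).app K) g h ∈ distTriang (DCoh.D X) ∧ OrthSupp j P ∧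
      CxOX.IsSuppD j ((CxOX.RgammaZ j).obj K) ∧
      ∀ [DCoh.HasRpush j], Nonempty (P ≅ (DCoh.Rpush j).obj ((rho j).obj K)) := by
  obtain ⟨I, s, hI, hs, -, hinj⟩ :=
    TriCat.exists_kInjective_resolution'.{u} (DerivedCategory.Q.objPreimage K)
  haveI := hI
  haveI := hs
  haveI := hinj
  haveI : IsIso (DerivedCategory.Q.map s) := inferInstance
  let eI : DerivedCategory.Q.obj I ≅ K := (asIso (DerivedCategory.Q.map s)).symm ≪≫ repIso K
  haveI := isKInjective_rCx j I
  have hS := shortExact_gammaSC j I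
  let T := DerivedCategory.triangleOfSES hS
  have hT : T ∈ distTriang (DCoh.D X) := DerivedCategory.triangleOfSES_distinguished hS
  let q := HomotopyCategory.quotient X.Modules (ComplexShape.up ℤ)
  let W := HomotopyCategory.quasiIso X.Modules (ComplexShape.up ℤ)
  let α := (CxOX.gammaZKh j).totalRightDerivedUnit DerivedCategory.Qh W
  haveI := isIso_rightDerivedUnit_of_kInjective (CxOX.gammaZKh j) I
  let eI' : DerivedCategory.Qh.obj (q.obj I) ≅ K :=
    (DerivedCategory.quotientCompQhIso X.Modules).app I ≪≫ eI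
  let eΓ : T.obj₁ ≅ (CxOX.RgammaZ j).obj K :=
    ((DerivedCategory.quotientCompQhIso X.Modules).app _).symm ≪≫
      DerivedCategory.Qh.mapIso (((DCoh.gammaZ j).mapHomotopyCategoryFactors
        (ComplexShape.up ℤ)).app I).symm ≪≫
      asIso (α.app (q.obj I)) ≪≫ (CxOX.RgammaZ j).mapIso eI'
  have hfac : eΓ.hom ≫ (CxOX.RgammaZToId j).app K = T.mor₁ ≫ eI.hom := by
    have h1 : (CxOX.RgammaZ j).map eI'.hom ≫ (CxOX.RgammaZToId j).app K =
        (CxOX.RgammaZToId j).app _ ≫ eI'.hom := (CxOX.RgammaZToId j).naturality eI'.hom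
    have h2 : α.app (q.obj I) ≫ (CxOX.RgammaZToId j).app (DerivedCategory.Qh.obj (q.obj I)) =
        (CxOX.gammaZKhι j).app (q.obj I) := by
      refine (Functor.rightDerived_fac_app (CxOX.RgammaZ j) α W (𝟭 _)
        (CxOX.gammaZKhι j ≫ (Functor.rightUnitor _).inv) (q.obj I)).trans ?_
      simp
    simp only [eΓ, Iso.trans_hom, Category.assoc, Iso.symm_hom, Functor.mapIso_hom, asIso_hom]
    rw [h1]
    erw [reassoc_of% h2]
    erw [reassoc_of% (gammaZKhι_app j I)]
    simp only [eI', Iso.trans_hom, Iso.app_hom, Iso.app_inv]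
    have hn := (DerivedCategory.quotientCompQhIso X.Modules).inv.naturality (gammaSC j I).f
    simp only [Functor.comp_map] at hn
    erw [← reassoc_of% hn, Iso.inv_hom_id_app_assoc]
    rfl
  let e₂ : T.obj₂ ≅ K := eI
  have hT' : Triangle.mk ((CxOX.RgammaZToId j).app K) (eI.inv ≫ T.mor₂)
      (T.mor₃ ≫ eΓ.hom⟦(1 : ℤ)⟧') ∈ distTriang (DCoh.D X) := by
    refine isomorphic_distinguished _ hT _ (Iso.symm ?_)
    refine Triangle.isoMk _ _ eΓ e₂ (Iso.refl _) ?_ ?_ ?_
    · exact hfac.symm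
    · exact (Category.comp_id _).trans (eI.hom_inv_id_assoc _).symm
    · exact (Category.id_comp _).symm
  have horth : OrthSupp j T.obj₃ := by
    haveI := hasRpush_scheme j
    obtain ⟨e⟩ := nonempty_rpush_iso_of_kInjective j (I := (rCx j).obj I) (Iso.refl _)
    exact OrthSupp.of_iso j e (orthSupp_rpush j _)
  have hsupp : CxOX.IsSuppD j T.obj₁ := by
    rw [isSuppD_iff_isZero]
    refine IsZero.of_iso ?_ ((rhoQ j).app _)
    refine Functor.map_isZero DerivedCategory.Q ?_
    refine (IsZero.iff_id_eq_zero _).2 (HomologicalComplex.hom_ext _ _ fun n => IsZero.eq_of_src ?_ _ _)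
    let ψ := (Scheme.Modules.restrictAdjunction j).unit.app (I.X n)
    haveI : IsIso ((Scheme.Modules.restrictFunctor j).map ψ) :=
      IsIso.of_isIso_fac_right ((Scheme.Modules.restrictAdjunction j).left_triangle_components (I.X n))
    exact (isZero_kernel_of_mono ((Scheme.Modules.restrictFunctor j).map ψ)).of_iso
      (PreservesKernel.iso (Scheme.Modules.restrictFunctor j) ψ)
  refine ⟨T.obj₃, _, _, hT', horth, isSuppD_of_iso j eΓ hsupp, fun {_} => ?_⟩
  obtain ⟨e⟩ := nonempty_rpush_iso_of_kInjective j (I := (rCx j).obj I)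
    (((rhoQ j).app I).symm ≪≫ (rho j).mapIso eI)
  exact ⟨e.symm⟩

theorem isSuppD_rgammaZ (K : DCoh.D X) : CxOX.IsSuppD j ((CxOX.RgammaZ j).obj K) := by
  obtain ⟨P, g, h, -, -, hs, -⟩ := exists_rgammaZ_triangle j K
  exact hs

/-- `RΓ_Z K ⟶ K` is universal among morphisms from supported objects. -/
theorem bijective_rgammaZ {A : DCoh.D X} (hA : CxOX.IsSuppD j A) (K : DCoh.D X) :
    Function.Bijective (fun φ : A ⟶ (CxOX.RgammaZ j).obj K => φ ≫ (CxOX.RgammaZToId j).app K) := by
  obtain ⟨P, g, h, hT, ho, -, -⟩ := exists_rgammaZ_triangle j K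
  exact bijective_comp_of_orth j hT ho hA

theorem isZero_rgammaZ_iff (K : DCoh.D X) :
    IsZero ((CxOX.RgammaZ j).obj K) ↔ OrthSupp j K := by
  refine ⟨fun h A hA φ => ?_, fun h => ?_⟩
  · obtain ⟨ψ, rfl⟩ := (bijective_rgammaZ j hA K).2 φ
    simp only [h.eq_of_tgt ψ 0, zero_comp]
  · refine (IsZero.iff_id_eq_zero _).2 ((bijective_rgammaZ j (isSuppD_rgammaZ j K) K).1 ?_)
    show 𝟙 _ ≫ _ = 0 ≫ _
    rw [Category.id_comp, zero_comp]
    exact h _ (isSuppD_rgammaZ j K) _

/-- Recognition of `RΓ_Z`: existence and uniqueness of the comparison, which is invertible. -/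
theorem rgammaZ_recognize {T : Triangle (DCoh.D X)} (hT : T ∈ distTriang _)
    (h₁ : CxOX.IsSuppD j T.obj₁) (h₃ : OrthSupp j T.obj₃) :
    (∃ α : T.obj₁ ⟶ (CxOX.RgammaZ j).obj T.obj₂, α ≫ (CxOX.RgammaZToId j).app T.obj₂ = T.mor₁) ∧
    ∀ α : T.obj₁ ⟶ (CxOX.RgammaZ j).obj T.obj₂,
      α ≫ (CxOX.RgammaZToId j).app T.obj₂ = T.mor₁ → IsIso α := by
  refine ⟨(bijective_rgammaZ j h₁ _).2 T.mor₁, fun α hα => ?_⟩
  refine isIso_of_bijective j α h₁ (isSuppD_rgammaZ j _) fun A hA => ?_
  refine (Function.Bijective.of_comp_iff' (bijective_rgammaZ j hA T.obj₂) _).1 ?_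
  have : (fun φ : A ⟶ (CxOX.RgammaZ j).obj T.obj₂ => φ ≫ (CxOX.RgammaZToId j).app T.obj₂) ∘
      (fun φ : A ⟶ T.obj₁ => φ ≫ α) = fun φ => φ ≫ T.mor₁ :=
    funext fun φ => (Category.assoc _ _ _).trans (congrArg (φ ≫ ·) hα)
  rw [this]
  exact bijective_comp_of_orth j hT h₃ hA

end Gamma

end Groth.Agent.DEqT
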