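import Groth.Agent.PnCoh.Finite.HomGlue
import Groth.Agent.PnCoh.Finite.TwistTensor
import Groth.Agent.PnCoh.Finite.TwistInv
import Groth.Agent.KFlatLib.Perfect.DLocal

/-!
# Multiplication by linear forms on twisting sheaves
-/

set_option linter.style.haveILetI false
set_option linter.unusedSectionVars false
set_option backward.isDefEq.respectTransparency false

universe u

open CategoryTheory CategoryTheory.Limits AlgebraicGeometry TopologicalSpace Opposite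
open Groth.Agent.PnCoh Groth.Agent.PnCoh.Finite

namespace Groth.Agent.DEqT.Proj

variable {R A : Type u} [CommRing R] [CommRing A] [Algebra R A]
  {𝒜 : ℕ → Submodule R A} [GradedAlgebra 𝒜] {a b c : A}

theorem one_notMem (x : ProjectiveSpectrum 𝒜) : (1 : A) ∉ x.asHomogeneousIdeal :=
  fun h => x.isPrime.ne_top ((Ideal.eq_top_iff_one _).mpr h)

/-- Multiplication of sections by a form of degree one. -/
noncomputable def mulFormSect (hb : b ∈ 𝒜 1) (m n : ℤ) (h : 1 + m = n)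
    {U : (Opens (ProjectiveSpectrum.top 𝒜))ᵒᵖ} (τ : Twist.sectN (𝒜 := 𝒜) m U) :
    Twist.sectN (𝒜 := 𝒜) n U :=
  ⟨fun x => ⟨(Localization.mk b ⟨1, one_notMem x.1⟩ : Twist.Loc 𝒜 x.1) * (τ.1 x).1,
      h ▸ mul_mem_twistAt (Submodule.subset_span
        ⟨1, 0, ⟨b, hb⟩, ⟨1, SetLike.GradedOne.one_mem⟩, one_notMem x.1, by simp, rfl⟩) (τ.1 x).2⟩,
    fun x => by
      obtain ⟨V, hxV, iV, i, j, p, q, nq, hij, w⟩ := τ.2 x
      refine ⟨V, hxV, iV, 1 + i, j, ⟨b * p.1, SetLike.mul_mem_graded hb p.2⟩, q, nq, ?_, fun y => ?_⟩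
      · rcases hij with h' | h'
        · exact Or.inl (by push_cast; omega)
        · exact Or.inr (show b * p.1 = 0 by rw [h', mul_zero])
      · show (Localization.mk b ⟨1, _⟩ : Twist.Loc 𝒜 y.1) * (τ.1 (iV y)).1 = _
        rw [show (τ.1 (iV y)).1 = _ from w y, Localization.mk_mul]
        exact congrArg (Localization.mk (b * p.1)) (Subtype.ext (one_mul q.1))⟩

theorem mulFormSect_apply (hb : b ∈ 𝒜 1) (m n : ℤ) (h : 1 + m = n)
    {U : (Opens (ProjectiveSpectrum.top 𝒜))ᵒᵖ} (τ : Twist.sectN (𝒜 := 𝒜) m U) (x : U.unop) :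
    ((mulFormSect hb m n h τ).1 x).1 =
      (Localization.mk b ⟨1, one_notMem x.1⟩ : Twist.Loc 𝒜 x.1) * (τ.1 x).1 := rfl

theorem mulFormSect_add (hb : b ∈ 𝒜 1) (m n : ℤ) (h : 1 + m = n)
    {U : (Opens (ProjectiveSpectrum.top 𝒜))ᵒᵖ} (σ τ : Twist.sectN (𝒜 := 𝒜) m U) :
    mulFormSect hb m n h (σ + τ) = mulFormSect hb m n h σ + mulFormSect hb m n h τ :=
  Subtype.ext (funext fun x => Subtype.ext (mul_add _ (σ.1 x).1 (τ.1 x).1))

theorem mulFormSect_smul (hb : b ∈ 𝒜 1) (m n : ℤ) (h : 1 + m = n)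
    {U : (Opens (ProjectiveSpectrum.top 𝒜))ᵒᵖ} (r : Twist.O U) (τ : Twist.sectN (𝒜 := 𝒜) m U) :
    mulFormSect hb m n h (r • τ) = r • mulFormSect hb m n h τ := by
  refine Subtype.ext (funext fun x => Subtype.ext ?_)
  show _ * ((r.1 x • τ.1 x : Twist.twistAt 𝒜 m x.1)).1 =
    ((r.1 x • (mulFormSect hb m n h τ).1 x : Twist.twistAt 𝒜 n x.1)).1
  rw [Submodule.coe_smul, Submodule.coe_smul, mul_smul_comm, mulFormSect_apply]

/-- Multiplication by a form of degree one, as a morphism of twisting sheaves. -/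
noncomputable def mulT (hb : b ∈ 𝒜 1) (m n : ℤ) (h : 1 + m = n) :
    Twist.twist 𝒜 m ⟶ Twist.twist 𝒜 n :=
  ⟨PresheafOfModules.homMk
    { app := fun _ => AddCommGrpCat.ofHom (AddMonoidHom.mk' (mulFormSect hb m n h)
        fun σ τ => mulFormSect_add hb m n h σ τ)
      naturality := fun _ _ _ => rfl }
    fun _ r τ => mulFormSect_smul hb m n h r τ⟩

theorem mulT_app (hb : b ∈ 𝒜 1) (m n : ℤ) (h : 1 + m = n) (U : (Proj 𝒜).Opens)
    (τ : Γ(Twist.twist 𝒜 m, U)) :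
    (mulT hb m n h).app U τ = mulFormSect hb m n h (U := op U) τ := rfl

theorem mulT_comm (hb : b ∈ 𝒜 1) (hc : c ∈ 𝒜 1) (l m n : ℤ) (h : 1 + l = m) (h' : 1 + m = n) :
    mulT hb l m h ≫ mulT hc m n h' = mulT hc l m h ≫ mulT hb m n h' := by
  refine Scheme.Modules.hom_ext _ _ fun U => ?_
  ext τ
  exact Subtype.ext (funext fun x => Subtype.ext (mul_left_comm _ _ (τ.1 x).1))

theorem twPow_step (a b : A) (x : ProjectiveSpectrum 𝒜) (hx : a ∉ x.asHomogeneousIdeal) (m n : ℤ)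
    (h : 1 + m = n) :
    (Localization.mk b ⟨1, one_notMem x⟩ : Twist.Loc 𝒜 x) *
        Localization.mk (a ^ m.toNat) ⟨a ^ (-m).toNat, pow_notMem hx _⟩ =
      Localization.mk b ⟨a, hx⟩ *
        Localization.mk (a ^ n.toNat) ⟨a ^ (-n).toNat, pow_notMem hx _⟩ := by
  rw [Localization.mk_mul, Localization.mk_mul, Localization.mk_eq_mk_iff, Localization.r_iff_exists]
  refine ⟨1, ?_⟩
  simp only [OneMemClass.coe_one, one_mul, Submonoid.coe_mul]
  rw [mul_left_comm (a * _) b, mul_left_comm (a ^ (-m).toNat) b]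
  refine congrArg (b * ·) ?_
  rw [mul_assoc, ← pow_add, ← pow_add, ← pow_succ']
  exact congrArg (a ^ ·) (by omega)

/-- Multiplication in a chart. -/
theorem mulT_triv (ha : a ∈ 𝒜 1) (hb : b ∈ 𝒜 1) (m n : ℤ) (h : 1 + m = n) (V : (Proj 𝒜).Opens)
    (hV : V ≤ D 𝒜 a) (r : Γ(Proj 𝒜, V)) :
    (mulT hb m n h).app V (triv ha m (nonVan_of_le hV) r) =
      triv ha n (nonVan_of_le hV) (rr ha hb hV * r) := by
  refine Subtype.ext (funext fun x => Subtype.ext ?_)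
  refine Eq.trans ?_ (trivMap_apply ha n (nonVan_of_le hV) (rr ha hb hV * r) x).symm
  refine (mulFormSect_apply hb m n h _ x).trans ?_
  refine (congrArg (_ * ·) (trivMap_apply ha m (nonVan_of_le hV) r x)).trans ?_
  rw [show ((rr ha hb hV * r).1 x).val = ((rr ha hb hV).1 x).val * (r.1 x).val from
    HomogeneousLocalization.val_mul _ _, rr_val, mul_left_comm, twPow_step a b x.1 (hV x.2) m n h,
    ← mul_assoc, mul_comm (r.1 x).val]

theorem rr_self (ha : a ∈ 𝒜 1) {V : (Proj 𝒜).Opens} (hV : V ≤ D 𝒜 a) : rr ha ha hV = 1 :=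
  (congrArg ((Proj 𝒜).presheaf.map (homOfLE hV).op) (ratio_self ha)).trans (map_one _)

set_option maxHeartbeats 800000 in
theorem bijective_mulT_self (ha : a ∈ 𝒜 1) (m n : ℤ) (h : 1 + m = n) (V : (Proj 𝒜).Opens)
    (hV : V ≤ D 𝒜 a) : Function.Bijective ((mulT ha m n h).app V) := by
  have e : ⇑((mulT ha m n h).app V) =
      (triv ha n (nonVan_of_le hV)) ∘ (triv ha m (nonVan_of_le hV)).symm := by
    funext τ
    obtain ⟨r, rfl⟩ := (triv ha m (nonVan_of_le hV)).surjective τ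
    refine (mulT_triv ha ha m n h V hV r).trans (congrArg (triv ha n (nonVan_of_le hV)) ?_)
    refine Eq.trans ?_ ((triv ha m (nonVan_of_le hV)).symm_apply_apply r).symm
    show (@HMul.hMul Γ(Proj 𝒜, V) Γ(Proj 𝒜, V) Γ(Proj 𝒜, V) _ (rr ha ha hV) r) = r
    rw [rr_self, one_mul]
  rw [e]
  exact (triv ha n (nonVan_of_le hV)).bijective.comp (triv ha m (nonVan_of_le hV)).symm.bijective

set_option maxHeartbeats 800000 in
theorem isIso_restrict_mulT (ha : a ∈ 𝒜 1) (m n : ℤ) (h : 1 + m = n) :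
    IsIso ((Scheme.Modules.restrictFunctor (D 𝒜 a).ι).map (mulT ha m n h)) := by
  rw [Scheme.Modules.Hom.isIso_iff_isIso_app]
  intro W
  refine (ConcreteCategory.isIso_iff_bijective _).2 ?_
  refine bijective_mulT_self ha m n h ((D 𝒜 a).ι ''ᵁ W) ?_
  rintro _ ⟨w, -, rfl⟩
  exact w.2

/-- The chosen generator of `O(n)` on a chart. -/
noncomputable def gen (ha : a ∈ 𝒜 1) (n : ℤ) : Γ(Twist.twist 𝒜 n, D 𝒜 a) :=
  triv ha n (nonVan_of_le (le_refl (D 𝒜 a))) (1 : Γ(Proj 𝒜, D 𝒜 a))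

set_option maxHeartbeats 800000 in
/-- Multiplication on generators. -/
theorem mulT_gen (ha : a ∈ 𝒜 1) (hb : b ∈ 𝒜 1) (m n : ℤ) (h : 1 + m = n) :
    (mulT hb m n h).app (D 𝒜 a) (gen ha m) = ratio ha hb • gen ha n := by
  refine (mulT_triv ha hb m n h _ le_rfl _).trans ?_
  refine Eq.trans ?_ ((triv ha n (nonVan_of_le (le_refl (D 𝒜 a)))).map_smul (ratio ha hb) 1)
  refine congrArg (triv ha n _) ?_
  refine (mul_one _).trans (Eq.trans ?_ (mul_one _).symm)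
  exact Subtype.ext (funext fun _ => rfl)

/-- A section over a chart extends to a map from a negative twist. -/
theorem exists_hom_gen {κ : Type u} [Finite κ] {f : κ → A} (hf : ∀ i, f i ∈ 𝒜 1)
    (hcov : ⨆ j, D 𝒜 (f j) = ⊤) (haff : ∀ i, IsAffineOpen (D 𝒜 (f i)))
    (haff₂ : ∀ i j, IsAffineOpen (D 𝒜 (f i) ⊓ D 𝒜 (f j))) {F : (Proj 𝒜).Modules} (hF : Coh.IsQCoh F)
    (i : κ) (s : Γ(F, D 𝒜 (f i))) :
    ∃ (k : ℕ) (φ : Twist.twist 𝒜 (-(k : ℤ)) ⟶ F), φ.app (D 𝒜 (f i)) (gen (hf i) (-(k : ℤ))) = s := by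
  obtain ⟨k, t, hti, hcompat⟩ := exists_family hf hF haff haff₂ i s
  refine ⟨k, homOfFamily hf k t hcompat hcov, ?_⟩
  have e := glueApp_spec hf k t hcompat hcov _ (gen (hf i) (-(k : ℤ))) i (le_refl (D 𝒜 (f i))) le_rfl
  have hc : coord (hf i) (-(k : ℤ)) (le_refl (D 𝒜 (f i))) (gen (hf i) (-(k : ℤ))) = 1 :=
    (triv (hf i) (-(k : ℤ)) (nonVan_of_le le_rfl)).symm_apply_apply _
  rw [QCoh.map_id', QCoh.map_id', locApp, QCoh.map_id', hc, one_smul, hti] at e
  exact (homOfFamily_app hf k t hcompat hcov _ _).trans e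

end Groth.Agent.DEqT.Proj
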