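import Groth.Agent.DEqT.ProjCrit
import Groth.Agent.DEqT.TwistPn
import Groth.Agent.Perf52.DQCohNoeth
import Groth.Agent.Perf52.DQCoh
import Groth.Agent.Perf52.QCInst
import Groth.Agent.PnCoh.Finite.Projective

/-!
# Twist data on schemes over a projective space; quasi-coherent representatives
-/

set_option linter.style.haveILetI false
set_option linter.unusedSectionVars false
set_option backward.isDefEq.respectTransparency false

universe u

open CategoryTheory CategoryTheory.Limits AlgebraicGeometry TopologicalSpace Opposite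

attribute [local instance] HasDerivedCategory.standard

namespace Groth.Agent.DEqT.Proj

open KFlatLib

variable {X P : Scheme.{u}}

/-- Restriction to an open commutes with pullback. -/
theorem isIso_restrict_pullback (g : X ⟶ P) (U : P.Opens) {M N : P.Modules} (φ : M ⟶ N)
    [IsIso ((Scheme.Modules.restrictFunctor U.ι).map φ)] :
    IsIso ((Scheme.Modules.restrictFunctor (g ⁻¹ᵁ U).ι).map ((Scheme.Modules.pullback g).map φ)) := by
  let e : Scheme.Modules.restrictFunctor U.ι ⋙ Scheme.Modules.pullback (g ∣_ U) ≅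
      Scheme.Modules.pullback g ⋙ Scheme.Modules.restrictFunctor (g ⁻¹ᵁ U).ι :=
    Functor.isoWhiskerRight (Scheme.Modules.restrictFunctorIsoPullback U.ι) _ ≪≫
      Scheme.Modules.pullbackComp (g ∣_ U) U.ι ≪≫
      Scheme.Modules.pullbackCongr (morphismRestrict_ι g U) ≪≫
      (Scheme.Modules.pullbackComp (g ⁻¹ᵁ U).ι g).symm ≪≫
      Functor.isoWhiskerLeft _ (Scheme.Modules.restrictFunctorIsoPullback (g ⁻¹ᵁ U).ι).symm
  exact (NatIso.isIso_map_iff e φ).1 (inferInstanceAs (IsIso ((Scheme.Modules.pullback (g ∣_ U)).map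
    ((Scheme.Modules.restrictFunctor U.ι).map φ))))

/-- The pullback of a section. -/
noncomputable def pullSection (g : X ⟶ P) {M : P.Modules} (U : P.Opens) (s : Γ(M, U)) :
    Γ((Scheme.Modules.pullback g).obj M, g ⁻¹ᵁ U) :=
  ((Scheme.Modules.pullbackPushforwardAdjunction g).unit.app M).app U s

theorem pullSection_map (g : X ⟶ P) {M N : P.Modules} (φ : M ⟶ N) (U : P.Opens) (s : Γ(M, U)) :
    ((Scheme.Modules.pullback g).map φ).app (g ⁻¹ᵁ U) (pullSection g U s) =
      pullSection g U (φ.app U s) :=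
  (congrArg (fun h : M ⟶ (Scheme.Modules.pushforward g).obj ((Scheme.Modules.pullback g).obj N) =>
    h.app U s) ((Scheme.Modules.pullbackPushforwardAdjunction g).unit.naturality φ)).symm

theorem pullSection_smul (g : X ⟶ P) {M : P.Modules} (U : P.Opens) (c : Γ(P, U)) (s : Γ(M, U)) :
    pullSection g U (c • s) = g.app U c • pullSection g U s :=
  Scheme.Modules.Hom.app_smul ((Scheme.Modules.pullbackPushforwardAdjunction g).unit.app M) c s

/-- Pulling twist data back. -/
noncomputable def TwistData.comap {κ : Type u} (S : TwistData P κ) (g : X ⟶ P) [QuasiCompact g]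
    [QuasiSeparated g] : TwistData X κ where
  T d := (Scheme.Modules.pullback g).obj (S.T d)
  x j d := (Scheme.Modules.pullback g).map (S.x j d)
  comm j l d := by rw [← Functor.map_comp, ← Functor.map_comp, S.comm]
  U j := g ⁻¹ᵁ S.U j
  cover := by rw [← Scheme.Hom.preimage_iSup, S.cover, Scheme.Hom.preimage_top]
  isIso j d := haveI := S.isIso j d; isIso_restrict_pullback g (S.U j) (S.x j d)
  gen i d := pullSection g (S.U i) (S.gen i d)
  coef j i := g.app (S.U i) (S.coef j i)
  x_gen i j d := (pullSection_map g _ _ _).trans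
    ((congrArg (pullSection g (S.U i)) (S.x_gen i j d)).trans (pullSection_smul g _ _ _))
  exists_hom F hF i s := by
    obtain ⟨d, φ, hφ⟩ := S.exists_hom _ (QCoh.isQCoh_pushforward g hF) i s
    let adj := Scheme.Modules.pullbackPushforwardAdjunction g
    refine ⟨d, (adj.homEquiv _ _).symm φ, ?_⟩
    have h := congrArg (fun h : S.T d ⟶ (Scheme.Modules.pushforward g).obj F =>
        h.app (S.U i) (S.gen i d))
      ((adj.homEquiv_unit ..).symm.trans ((adj.homEquiv _ _).apply_symm_apply φ))
    exact h.trans hφ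

variable {R A : Type u} [CommRing R] [CommRing A] [Algebra R A]
  {𝒜 : ℕ → Submodule R A} [GradedAlgebra 𝒜] {κ : Type u} [Finite κ] {f : κ → A}

open Groth.Agent.PnCoh Groth.Agent.PnCoh.Finite

/-- The negative twists and linear forms on `Proj`. -/
noncomputable def projData (hf : ∀ i, f i ∈ 𝒜 1) (hcov : ⨆ j, D 𝒜 (f j) = ⊤) :
    TwistData (Proj 𝒜) κ where
  T d := Twist.twist 𝒜 (-(d : ℤ))
  x j d := mulT (hf j) (-((d + 1 : ℕ) : ℤ)) (-(d : ℤ)) (by push_cast; omega)
  comm j l d := mulT_comm (hf j) (hf l) _ _ _ (by push_cast; omega) (by push_cast; omega)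
  U j := D 𝒜 (f j)
  cover := hcov
  isIso j _ := isIso_restrict_mulT (hf j) _ _ _
  gen i d := gen (hf i) (-(d : ℤ))
  coef j i := ratio (hf i) (hf j)
  x_gen i j _ := mulT_gen (hf i) (hf j) _ _ _
  exists_hom _ hF i s := exists_hom_gen hf hcov (isAffineOpen_D hf) (isAffineOpen_D₂ hf) hF i s

/-- Quasi-coherent representatives on Noetherian schemes. -/
theorem exists_qcoh_rep [IsNoetherian X] {K : DCoh.D X} (hK : DCoh.IsQCohD K) :
    ∃ C : CochainComplex X.Modules ℤ,
      (∀ p, Coh.IsQCoh (C.X p)) ∧ Nonempty (DerivedCategory.Q.obj C ≅ K) := by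
  obtain ⟨M, ⟨e⟩⟩ := (Perf52.qcιD_equivalence_noeth (X := X)).2.2 K |>.1 hK
  exact ⟨((Perf52.qcι X).mapHomologicalComplex _).obj (DerivedCategory.Q.objPreimage M),
    fun p => ((DerivedCategory.Q.objPreimage M).X p).2,
    ⟨((Perf52.qcι X).mapDerivedCategoryFactors.app _).symm ≪≫
      (Perf52.qcι X).mapDerivedCategory.mapIso (DerivedCategory.Q.objObjPreimageIso M) ≪≫ e⟩⟩

/-- Quasi-coherent representatives on quasi-compact schemes with affine diagonal. -/
theorem exists_qcoh_rep_of_affine_inter [CompactSpace X]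
    (hdiag : ∀ U V : X.Opens, IsAffineOpen U → IsAffineOpen V → IsAffineOpen (U ⊓ V))
    {K : DCoh.D X} (hK : DCoh.IsQCohD K) :
    ∃ C : CochainComplex X.Modules ℤ,
      (∀ p, Coh.IsQCoh (C.X p)) ∧ Nonempty (DerivedCategory.Q.obj C ≅ K) := by
  obtain ⟨M, ⟨e⟩⟩ := (Perf52.qcιD_equivalence hdiag).2.2 K |>.1 hK
  exact ⟨((Perf52.qcι X).mapHomologicalComplex _).obj (DerivedCategory.Q.objPreimage M),
    fun p => ((DerivedCategory.Q.objPreimage M).X p).2,
    ⟨((Perf52.qcι X).mapDerivedCategoryFactors.app _).symm ≪≫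
      (Perf52.qcι X).mapDerivedCategory.mapIso (DerivedCategory.Q.objObjPreimageIso M) ≪≫ e⟩⟩

end Groth.Agent.DEqT.Proj
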