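import Groth.Agent.DEqT.GradedFG
import Mathlib.Algebra.Homology.DerivedCategory.Basic
import Mathlib.CategoryTheory.Linear.LinearFunctor
import Mathlib.CategoryTheory.Linear.Basic
import Mathlib.CategoryTheory.Shift.Linear
import Mathlib.CategoryTheory.Abelian.Exact
import Mathlib.Algebra.Homology.DerivedCategory.ExactFunctor

/-!
# Iterated cones of systems of twists

A system of twists is a family of complexes `X d` with commuting maps `x j d : X (d+1) ⟶ X d`.
The cone along one operator is again such a system; from this, finiteness, vanishing and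
stabilisation of `Hom (X d, K⟦n⟧)` follow once the iterated cone along all operators is zero.
-/

set_option linter.style.haveILetI false
set_option linter.unusedSectionVars false
set_option backward.isDefEq.respectTransparency false

universe t w v u

open CategoryTheory CategoryTheory.Limits CategoryTheory.Pretriangulated

namespace Groth.Agent.DEqT

variable (C : Type u) [Category.{v} C] [Abelian C]

/-- Complexes with commuting degree-lowering maps. -/
structure TwistSys (ι : Type t) where
  /-- The complexes. -/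
  X : ℕ → CochainComplex C ℤ
  /-- The maps. -/
  x : ι → ∀ d, X (d + 1) ⟶ X d
  comm : ∀ j l d, x j (d + 1) ≫ x l d = x l (d + 1) ≫ x j d

variable {C} [HasDerivedCategory.{w} C] {ι : Type t}

namespace TwistSys

variable (T : TwistSys C ι)

/-- The cone along one operator. -/
noncomputable def cone (i : ι) : TwistSys C ι where
  X d := CochainComplex.mappingCone (T.x i d)
  x j d := CochainComplex.mappingCone.map _ _ (T.x j (d + 1)) (T.x j d) (T.comm i j d)
  comm j l d := by
    rw [← CochainComplex.mappingCone.map_comp, ← CochainComplex.mappingCone.map_comp]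
    congr 1 <;> exact T.comm j l _

/-- The triangle of the cone. -/
noncomputable abbrev tri (i : ι) (d : ℕ) : Triangle (DerivedCategory C) :=
  DerivedCategory.Q.mapTriangle.obj (CochainComplex.mappingCone.triangle (T.x i d))

theorem tri_dist (i : ι) (d : ℕ) : T.tri i d ∈ distTriang (DerivedCategory C) :=
  DerivedCategory.mappingCone_triangle_distinguished _

/-- The iterated cone. -/
noncomputable def cones : List ι → TwistSys C ι
  | [] => T
  | i :: l => (cones l).cone i

/-- The maps of triangles of the cone. -/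
noncomputable abbrev triMap (i j : ι) (d : ℕ) : T.tri i (d + 1) ⟶ T.tri i d :=
  DerivedCategory.Q.mapTriangle.map
    (CochainComplex.mappingCone.triangleMap _ _ (T.x j (d + 1)) (T.x j d) (T.comm i j d))

section Acyclic

variable {C' : Type*} [Category C'] [Preadditive C'] [HasZeroObject C'] [HasShift C' ℤ]
  [∀ n : ℤ, (shiftFunctor C' n).Additive] [Pretriangulated C']
  (F : DerivedCategory C ⥤ C') [F.CommShift ℤ] [F.IsTriangulated]

theorem isIso_map_cone (i j : ι) (h : ∀ d, IsIso (F.map (DerivedCategory.Q.map (T.x j d)))) (d : ℕ) :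
    IsIso (F.map (DerivedCategory.Q.map ((T.cone i).x j d))) :=
  isIso₃_of_isIso₁₂ (F.mapTriangle.map (T.triMap i j d))
    (F.map_distinguished _ (T.tri_dist i (d + 1))) (F.map_distinguished _ (T.tri_dist i d))
    (h (d + 1)) (h d)

theorem isZero_map_cone_self (i : ι) (h : ∀ d, IsIso (F.map (DerivedCategory.Q.map (T.x i d)))) (d : ℕ) :
    IsZero (F.obj (DerivedCategory.Q.obj ((T.cone i).X d))) :=
  (Triangle.isZero₃_iff_isIso₁ _ (F.map_distinguished _ (T.tri_dist i d))).2 (h d)

theorem isZero_map_cone_of_isZero (i : ι) (h : ∀ d, IsZero (F.obj (DerivedCategory.Q.obj (T.X d))))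
    (d : ℕ) : IsZero (F.obj (DerivedCategory.Q.obj ((T.cone i).X d))) :=
  (Triangle.isZero₃_iff_isIso₁ _ (F.map_distinguished _ (T.tri_dist i d))).2
    ⟨⟨0, (h (d + 1)).eq_of_src _ _, (h d).eq_of_src _ _⟩⟩

theorem isIso_map_cones (j : ι) (h : ∀ d, IsIso (F.map (DerivedCategory.Q.map (T.x j d)))) :
    ∀ (l : List ι) (d : ℕ), IsIso (F.map (DerivedCategory.Q.map ((T.cones l).x j d)))
  | [], d => h d
  | i :: l, d => (T.cones l).isIso_map_cone F i j (isIso_map_cones j h l) d

theorem isZero_map_cones (j : ι) (h : ∀ d, IsIso (F.map (DerivedCategory.Q.map (T.x j d)))) :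
    ∀ (l : List ι), j ∈ l → ∀ d, IsZero (F.obj (DerivedCategory.Q.obj ((T.cones l).X d)))
  | [], hj, _ => by simp at hj
  | i :: l, hj, d => by
    by_cases hl : j ∈ l
    · exact (T.cones l).isZero_map_cone_of_isZero F i (isZero_map_cones j h l hl) d
    · obtain rfl : j = i := by simpa [hl] using hj
      exact (T.cones l).isZero_map_cone_self F j (T.isIso_map_cones F j h l) d

end Acyclic

section Hom

variable {R : Type*} [CommRing R] [Linear R (DerivedCategory C)]
  [∀ n : ℤ, (shiftFunctor (DerivedCategory C) n).Linear R] (K : DerivedCategory C)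

/-- `Hom (X d, K⟦n⟧)`. -/
abbrev H (n : ℤ) (d : ℕ) : Type w := DerivedCategory.Q.obj (T.X d) ⟶ K⟦n⟧

variable (R) in
/-- Precomposition with the operators. -/
noncomputable def op (n : ℤ) (j : ι) (d : ℕ) : T.H K n d →ₗ[R] T.H K n (d + 1) :=
  Linear.leftComp R _ (DerivedCategory.Q.map (T.x j d))

theorem op_apply (n : ℤ) (j : ι) (d : ℕ) (f : T.H K n d) :
    T.op R K n j d f = DerivedCategory.Q.map (T.x j d) ≫ f := rfl

theorem op_comm (n : ℤ) (j l : ι) (d : ℕ) (g : T.H K n d) :
    T.op R K n l (d + 1) (T.op R K n j d g) = T.op R K n j (d + 1) (T.op R K n l d g) := by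
  simp only [op, Linear.leftComp_apply, ← Category.assoc, ← Functor.map_comp, T.comm]

variable (R) in
/-- The connecting map into the cone. -/
noncomputable def delta (i : ι) (n : ℤ) (d : ℕ) : T.H K n (d + 1) →ₗ[R] (T.cone i).H K (n + 1) d where
  toFun f := (T.tri i d).mor₃ ≫ f⟦1⟧' ≫ ((shiftFunctorAdd' (DerivedCategory C) n 1 (n + 1) rfl).app K).inv
  map_add' f g := by rw [Functor.map_add, Preadditive.add_comp, Preadditive.comp_add]
  map_smul' r f := by rw [Functor.map_smul, Linear.smul_comp, Linear.comp_smul]; rfl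

theorem delta_op (i j : ι) (n : ℤ) (d : ℕ) (f : T.H K n (d + 1)) :
    T.delta R K i n (d + 1) (T.op R K n j (d + 1) f) =
      (T.cone i).op R K (n + 1) j d (T.delta R K i n d f) := by
  show (T.tri i (d + 1)).mor₃ ≫ ((T.triMap i j d).hom₁ ≫ f)⟦1⟧' ≫ _ =
    (T.triMap i j d).hom₃ ≫ (T.tri i d).mor₃ ≫ f⟦1⟧' ≫ _
  rw [← Category.assoc (T.triMap i j d).hom₃, ← (T.triMap i j d).comm₃, Functor.map_comp]
  simp only [Category.assoc]

theorem delta_eq_zero (i : ι) (n : ℤ) (d : ℕ) (f : T.H K n (d + 1)) (h : T.delta R K i n d f = 0) :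
    f ∈ LinearMap.range (T.op R K n i d) := by
  have h' : (T.tri i d).mor₃ ≫ f⟦1⟧' = 0 :=
    (cancel_mono ((shiftFunctorAdd' (DerivedCategory C) n 1 (n + 1) rfl).app K).inv).1
      (by rw [zero_comp, Category.assoc]; exact h)
  obtain ⟨g, hg⟩ := Triangle.yoneda_exact₂ _
    (rot_of_distTriang _ (rot_of_distTriang _ (T.tri_dist i d))) (f⟦1⟧') h'
  obtain ⟨g, rfl⟩ := (shiftFunctor (DerivedCategory C) (1 : ℤ)).map_surjective g
  refine ⟨-g, (shiftFunctor (DerivedCategory C) (1 : ℤ)).map_injective ?_⟩
  show ((T.tri i d).mor₁ ≫ (-g))⟦1⟧' = f⟦1⟧'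
  rw [Functor.map_comp, Functor.map_neg, Preadditive.comp_neg, hg]
  exact (Preadditive.neg_comp _ _).symm

/-- Restriction from the cone. -/
noncomputable def res (i : ι) (n : ℤ) (d : ℕ) : (T.cone i).H K n d →ₗ[R] T.H K n d :=
  Linear.leftComp R _ (T.tri i d).mor₂

theorem res_eq_zero (i : ι) (n : ℤ) (d : ℕ) (g : (T.cone i).H K (n + 1) d)
    (h : T.res (R := R) K i (n + 1) d g = 0) : g ∈ LinearMap.range (T.delta R K i n d) := by
  obtain ⟨g', rfl⟩ := Triangle.yoneda_exact₃ _ (T.tri_dist i d) g h
  let e := (shiftFunctorAdd' (DerivedCategory C) n 1 (n + 1) rfl).app K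
  obtain ⟨f, hf⟩ := (shiftFunctor (DerivedCategory C) (1 : ℤ)).map_surjective (g' ≫ e.hom)
  refine ⟨f, ?_⟩
  show (T.tri i d).mor₃ ≫ f⟦1⟧' ≫ e.inv = _
  rw [hf, Category.assoc, e.hom_inv_id, Category.comp_id]

theorem finite_cone [IsNoetherianRing R] (i : ι) (d : ℕ)
    (h₁ : ∀ n, Module.Finite R (T.H K n d)) (h₂ : ∀ n, Module.Finite R (T.H K n (d + 1))) (n : ℤ) :
    Module.Finite R ((T.cone i).H K n d) := by
  obtain ⟨m, rfl⟩ : ∃ m, n = m + 1 := ⟨n - 1, by omega⟩
  haveI := h₁ (m + 1)
  haveI := h₂ m
  haveI : IsNoetherian R (T.H K (m + 1) d) := isNoetherian_of_isNoetherianRing_of_finite R _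
  have hk : (LinearMap.ker (T.res (R := R) K i (m + 1) d)).FG := by
    have hle : LinearMap.ker (T.res (R := R) K i (m + 1) d) ≤ LinearMap.range (T.delta R K i m d) :=
      fun g hg => T.res_eq_zero K i m d g hg
    haveI : IsNoetherian R (LinearMap.range (T.delta R K i m d)) :=
      isNoetherian_of_isNoetherianRing_of_finite R _
    exact isNoetherian_submodule.1 ‹_› _ hle
  exact ⟨Submodule.fg_of_fg_map_of_fg_inf_ker (T.res (R := R) K i (m + 1) d)
    (IsNoetherian.noetherian _) (by rwa [top_inf_eq])⟩

theorem cones_append (T : TwistSys C ι) (i : ι) : ∀ l : List ι, (T.cone i).cones l = T.cones (l ++ [i])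
  | [] => rfl
  | a :: l => congrArg (fun S => S.cone a) (cones_append T i l)

theorem finite_of_cones [IsNoetherianRing R] : ∀ (l : List ι) (T : TwistSys C ι),
    (∀ d, IsZero (DerivedCategory.Q.obj ((T.cones l).X d))) →
    (∀ d, d < l.length → ∀ n, Module.Finite R (T.H K n d)) →
    ∀ d n, Module.Finite R (T.H K n d) := by
  intro l
  induction l using List.reverseRecOn with
  | nil =>
    intro T hz _ d n
    haveI : Subsingleton (T.H K n d) := ⟨fun a b => (hz d).eq_of_src a b⟩
    exact Module.Finite.of_finite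
  | append_singleton l i ih =>
    intro T hz hfin
    have hzc : ∀ d, IsZero (DerivedCategory.Q.obj (((T.cone i).cones l).X d)) := by
      rwa [cones_append]
    have hG := ih (T.cone i) hzc fun d hd => T.finite_cone K i d
      (hfin d (by simp; omega)) (hfin (d + 1) (by simp; omega))
    intro d
    induction d with
    | zero => exact hfin 0 (by simp)
    | succ d ihd =>
      intro n
      haveI := hG d (n + 1)
      haveI := ihd n
      haveI : IsNoetherian R ((T.cone i).H K (n + 1) d) := isNoetherian_of_isNoetherianRing_of_finite R _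
      refine ⟨Submodule.fg_of_fg_map_of_fg_inf_ker (T.delta R K i n d) (IsNoetherian.noetherian _) ?_⟩
      rw [top_inf_eq]
      have hr : LinearMap.ker (T.delta R K i n d) ≤ LinearMap.range (T.op R K n i d) :=
        fun f hf => T.delta_eq_zero K i n d f hf
      haveI : IsNoetherian R (LinearMap.range (T.op R K n i d)) :=
        isNoetherian_of_isNoetherianRing_of_finite R _
      exact isNoetherian_submodule.1 ‹_› _ hr

/-- Vanishing for the first twists in a range of degrees gives vanishing for all twists in the middle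
degree. -/
theorem eq_zero_of_cones_at : ∀ (l : List ι) (T : TwistSys C ι),
    (∀ d, IsZero (DerivedCategory.Q.obj ((T.cones l).X d))) → ∀ n : ℤ,
    (∀ d, d < l.length → ∀ j : ℤ, n - (l.length : ℤ) ≤ j → j ≤ n + (l.length : ℤ) →
      ∀ f : DerivedCategory.Q.obj (T.X d) ⟶ K⟦j⟧, f = 0) →
    ∀ d (f : DerivedCategory.Q.obj (T.X d) ⟶ K⟦n⟧), f = 0 := by
  intro l
  induction l using List.reverseRecOn with
  | nil => intro T hz n _ d f; exact (hz d).eq_of_src f 0
  | append_singleton l i ih =>
    intro T hz n hv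
    simp only [List.length_append, List.length_singleton] at hv
    have hG : ∀ d (g : DerivedCategory.Q.obj ((T.cone i).X d) ⟶ K⟦n + 1⟧), g = 0 :=
      ih (T.cone i) (by rwa [cones_append]) (n + 1) fun d hd j hj₁ hj₂ g => by
      obtain ⟨m, rfl⟩ : ∃ m, j = m + 1 := ⟨j - 1, by omega⟩
      obtain ⟨g', rfl⟩ := Triangle.yoneda_exact₃ _ (T.tri_dist i d) g
        (hv d (by omega) _ (by push_cast; omega) (by push_cast; omega) _)
      let e := (shiftFunctorAdd' (DerivedCategory C) m 1 (m + 1) rfl).app K
      obtain ⟨f, hf⟩ := (shiftFunctor (DerivedCategory C) (1 : ℤ)).map_surjective (g' ≫ e.hom)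
      rw [hv (d + 1) (by omega) m (by push_cast; omega) (by push_cast; omega) f, Functor.map_zero] at hf
      rw [(cancel_mono e.hom).1 (hf.symm.trans zero_comp.symm)]
      exact comp_zero
    intro d
    induction d with
    | zero => exact hv 0 (by omega) n (by push_cast; omega) (by push_cast; omega)
    | succ d ihd =>
      intro f
      obtain ⟨g, hg⟩ := Triangle.yoneda_exact₂ _
        (rot_of_distTriang _ (rot_of_distTriang _ (T.tri_dist i d))) (f⟦1⟧')
        ((cancel_mono ((shiftFunctorAdd' (DerivedCategory C) n 1 (n + 1) rfl).app K).inv).1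
          (by rw [zero_comp, Category.assoc]; exact hG d _))
      obtain ⟨g, rfl⟩ := (shiftFunctor (DerivedCategory C) (1 : ℤ)).map_surjective g
      refine (shiftFunctor (DerivedCategory C) (1 : ℤ)).map_injective ?_
      rw [hg, ihd g, Functor.map_zero, Functor.map_zero, comp_zero]

/-- Vanishing for the first twists gives vanishing for all twists. -/
theorem eq_zero_of_cones (l : List ι) (T : TwistSys C ι)
    (hz : ∀ d, IsZero (DerivedCategory.Q.obj ((T.cones l).X d)))
    (hv : ∀ d, d < l.length → ∀ (n : ℤ) (f : DerivedCategory.Q.obj (T.X d) ⟶ K⟦n⟧), f = 0)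
    (d : ℕ) (n : ℤ) (f : DerivedCategory.Q.obj (T.X d) ⟶ K⟦n⟧) : f = 0 :=
  eq_zero_of_cones_at K l T hz n (fun e he j _ _ g => hv e he j g) d f

theorem stab_of_cones [IsNoetherianRing R] [Finite ι] : ∀ (l : List ι) (T : TwistSys C ι),
    (∀ d, IsZero (DerivedCategory.Q.obj ((T.cones l).X d))) →
    (∀ d n, Module.Finite R (T.H K n d)) →
    ∀ n, Stab (T.op R K n) := by
  intro l
  induction l using List.reverseRecOn with
  | nil =>
    intro T hz _ n
    haveI : ∀ d, Subsingleton (T.H K n d) := fun d => ⟨fun a b => (hz d).eq_of_src a b⟩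
    exact stab_of_subsingleton _
  | append_singleton l i ih =>
    intro T hz hfin n
    have hz' : ∀ d, IsZero (DerivedCategory.Q.obj (((T.cone i).cones l).X d)) := by
      rwa [cones_append]
    have hfin' : ∀ d n, Module.Finite R ((T.cone i).H K n d) := fun d =>
      T.finite_cone K i d (hfin d) (hfin (d + 1))
    haveI := fun d => hfin' d (n + 1)
    obtain ⟨D, hD⟩ := Stab.of_exact (H := fun d => T.H K n (d + 1))
      (x := fun j d => T.op R K n j (d + 1)) (fun d => T.delta R K i n d)
      (fun j d h => T.delta_op K i j n d h) (fun j l d g => (T.cone i).op_comm K (n + 1) j l d g) i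
      (fun d h hh => T.delta_eq_zero K i n (d + 1) h hh) (ih _ hz' hfin' (n + 1))
    exact ⟨D + 1, fun d hd => by
      obtain ⟨e, rfl⟩ : ∃ e, d = e + 1 := ⟨d - 1, by omega⟩
      exact hD e (by omega)⟩

end Hom

end TwistSys

end Groth.Agent.DEqT
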